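/- Decidable data for the actions of the Hall–Janko group on 315, 100 and 63 objects. -/
import Cfsg.Agent.H71.UThreeData
import Cfsg.Agent.H91.J2Tables

set_option autoImplicit false

namespace H91.J2T

open H71.UThree

/-- action of generator `k` on lines -/
def tabStep (k i : ℕ) : ℕ := get 9 (tabN.getD k 0) i
/-- scalar of generator `k` on line `i` -/
def scStep (k i : ℕ) : ℕ := get 7 (scN.getD k 0) i
/-- action of a word -/
def app (w : List ℕ) (x : ℕ) : ℕ := w.foldr tabStep x
/-- action of generator `k` on the hundred points -/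
def ptStep (k a : ℕ) : ℕ := get 7 (pointN.getD k 0) a
/-- local generator `k` on the sixty-three points -/
def rowStep (k i : ℕ) : ℕ := get 6 (rowN.getD k 0) i
/-- a word of the stabiliser -/
def stabStep (k x : ℕ) : ℕ := app (stabWords.getD k []) x
/-- stabiliser words and one representative word -/
def blockStep (j k x : ℕ) : ℕ := app ((stabWords ++ [repWords.getD j []]).getD k []) x
def mask (a : ℕ) : ℕ := maskL.getD a 0
def ordAt (i : ℕ) : ℕ := get 9 ordN i
def posAt (x : ℕ) : ℕ := get 6 posN x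
def label (a : ℕ) : ℕ := get 2 labelN a

/-- validity of a spanning forest -/
def TreeOK (n w m : ℕ) (roots : List ℕ) (T : Tree) (step : ℕ → ℕ → ℕ) : Prop :=
  ∀ x : Fin n, x.val ∈ roots ∨
    (get 4 T.gen x.val < m ∧ get w T.par x.val < n ∧
      get w T.rank (get w T.par x.val) < get w T.rank x.val ∧
      step (get 4 T.gen x.val) (get w T.par x.val) = x.val)

instance treeOKDecidable (n w m : ℕ) (roots : List ℕ) (T : Tree) (step : ℕ → ℕ → ℕ) :
    Decidable (TreeOK n w m roots T step) :=
  inferInstanceAs (Decidable (∀ _ : Fin n, _))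

theorem tree_ind {n w m : ℕ} {roots : List ℕ} {T : Tree} {step : ℕ → ℕ → ℕ}
    (h : TreeOK n w m roots T step) {P : ℕ → Prop} (base : ∀ r ∈ roots, P r)
    (next : ∀ g p, g < m → p < n → P p → step g p < n → P (step g p)) : ∀ x, x < n → P x := by
  intro x hx
  induction hr : get w T.rank x using Nat.strong_induction_on generalizing x with
  | _ r ih =>
    rcases h ⟨x, hx⟩ with hb | ⟨hg, hp, hlt, he⟩
    · exact base x hb
    · dsimp only at hg hp hlt he
      rw [← he]
      exact next _ _ hg hp (ih _ (hr ▸ hlt) _ hp rfl) (by rw [he]; exact hx)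

/-- a vector over nine elements -/
abbrev Vec := Gi × Gi × Gi

def gi (d : ℕ) : Gi := (d % 3, d / 3 % 3)
def vec (c : ℕ) : Vec := (gi (c % 9), gi (c / 9 % 9), gi (c / 81 % 9))
def rep (i : ℕ) : Vec := vec (get 10 repN i)
def vdot (u v : Vec) : Gi := a3 (gm u.1 (gc v.1)) (gm u.2.1 (gc v.2.1)) (gm u.2.2 (gc v.2.2))
def vsmul (a : Gi) (v : Vec) : Vec := (gm a v.1, gm a v.2.1, gm a v.2.2)
def vadd (u v : Vec) : Vec := (ga u.1 v.1, ga u.2.1 v.2.1, ga u.2.2 v.2.2)
/-- `-x + 2 h(x,z) z` -/
def vrefl (z x : Vec) : Vec := vadd (vsmul (2, 0) x) (vsmul (gm (2, 0) (vdot x z)) z)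
def normUnits : List Gi := [(1, 0), (2, 0), (0, 1), (0, 2)]

end H91.J2T
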