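/- Kernel checks of the tables of the Hall–Janko permutation representations. -/
import Cfsg.Agent.H96.J2Orbit
import Cfsg.Agent.H91.J2Defs

set_option autoImplicit false

namespace H91.J2T

open H96.J2

theorem tab_ok : ∀ k : Fin 5, ∀ i : Fin 315, tabStep k.val i.val < 315 ∧ scStep k.val i.val < 120 ∧
    V3.lsmul (Q8.unit (scStep k.val i.val)) (line (tabStep k.val i.val)) =
      V3.rf (line (gline.getD k.val 0)) (line i.val) := by
  decide +kernel

theorem gline_ok : gline.getD 0 0 = 0 ∧ ∀ k : Fin 5, gline.getD k.val 0 < 315 := by decide +kernel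

theorem lineTree_ok : TreeOK 315 9 5 [0] lineTree tabStep := by decide +kernel

theorem stab_fix : ∀ k : Fin 7, app (stabWords.getD k.val []) 0 = 0 ∧
    ∀ a ∈ stabWords.getD k.val [], a < 5 := by decide +kernel

theorem subTree_ok : TreeOK 315 9 7 (0 :: subReps) subTree stabStep := by decide +kernel

theorem rep_ok : ∀ j : Fin 5, app (repWords.getD j.val []) 0 = subReps.getD j.val 0 ∧
    ∀ a ∈ repWords.getD j.val [], a < 5 := by decide +kernel

theorem subReps_length : subReps.length = 5 := by decide +kernel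

theorem blockTree_ok : ∀ j : Fin 5,
    TreeOK 315 9 8 [0] (blockTrees.getD j.val lineTree) (blockStep j.val) := by
  decide +kernel

theorem oddRel_ok : (∀ x : Fin 315, app oddRel x.val = x.val) ∧ oddRel.length % 2 = 1 ∧
    ∀ a ∈ oddRel, a < 5 := by decide +kernel

theorem mask_ok : ∀ k : Fin 5, ∀ a : Fin 100, ptStep k.val a.val < 100 ∧ ∀ i : Fin 315,
    (mask a.val).testBit i.val = (mask (ptStep k.val a.val)).testBit (tabStep k.val i.val) := by
  decide +kernel

theorem mask_inj : ∀ a b : Fin 100, mask a.val = mask b.val → a = b := by decide +kernel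

theorem mask_lt : ∀ a : Fin 100, mask a.val < 2 ^ 315 := by decide +kernel

theorem pointTree_ok : TreeOK 100 7 5 [0] pointTree ptStep := by decide +kernel

theorem subPointTree_ok : TreeOK 100 7 4 subPts subPointTree ptStep := by decide +kernel

theorem local_fix : ∀ k : Fin 4, ptStep k.val 0 = 0 := by decide +kernel

theorem label_ok : subPts.length = 3 ∧ subPts.getD 0 0 = 0 ∧
    (∀ j : Fin 3, subPts.getD j.val 0 < 100 ∧ label (subPts.getD j.val 0) = j.val) ∧
    (∀ k : Fin 4, ∀ a : Fin 100, label (ptStep k.val a.val) = label a.val) ∧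
    (Finset.univ.filter fun a : Fin 100 => label a.val = 1).card = 36 ∧
    (Finset.univ.filter fun a : Fin 100 => label a.val = 2).card = 63 := by decide +kernel

theorem ord_ok : (∀ i : Fin 63, ordAt i.val < 315 ∧ (mask 0).testBit (ordAt i.val) = true ∧
      posAt (ordAt i.val) = i.val) ∧
    ∀ x : Fin 315, (mask 0).testBit x.val = true → posAt x.val < 63 ∧ ordAt (posAt x.val) = x.val := by
  decide +kernel

theorem row_ok : ∀ k : Fin 4, midx.getD k.val 0 < 63 ∧
    ordAt (midx.getD k.val 0) = gline.getD k.val 0 ∧ ∀ i : Fin 63, rowStep k.val i.val < 63 ∧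
    tabStep k.val (ordAt i.val) = ordAt (rowStep k.val i.val) := by decide +kernel

theorem invTree_ok : TreeOK 63 6 4 [midx.getD 0 0] invTree rowStep := by decide +kernel

theorem rep_norm : ∀ i : Fin 63, vdot (rep i.val) (rep i.val) = (1, 0) := by decide +kernel

theorem norm_complete : ∀ c : Fin 729, vdot (vec c.val) (vec c.val) = (1, 0) →
    get 6 normIdxN c.val < 63 ∧
      ∃ a ∈ normUnits, vsmul a (rep (get 6 normIdxN c.val)) = vec c.val := by decide +kernel

theorem rep_inj : ∀ i j : Fin 63, ∀ a ∈ normUnits, vsmul a (rep i.val) = rep j.val → i = j := by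
  decide +kernel

theorem row_refl : ∀ k : Fin 4, ∀ i : Fin 63, ∃ a ∈ normUnits,
    vrefl (rep (midx.getD k.val 0)) (rep i.val) = vsmul a (rep (rowStep k.val i.val)) := by
  decide +kernel

end H91.J2T
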