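/- The action of the Hall–Janko group on its 315 reflections. -/
import Cfsg.Agent.H96.J2Stab
import Cfsg.Agent.H91.J2Check

set_option autoImplicit false

noncomputable section

namespace H91.J2A

open Quaternion Cfsg.Spor H96.J2
open H91.J2T (tabStep scStep app TreeOK tree_ind)

theorem refl_ext {r r' : icoLeech} (hr : qip (r : H3) r = 4) (hr' : qip (r' : H3) r' = 4)
    {u : ℍ[ℝ]} (hu : normSq u = 1) (e : (r : H3) = lmul u (r' : H3)) : refl r hr = refl r' hr' := by
  ext1 x
  apply Subtype.ext
  rw [refl_apply, refl_apply, e, qrefl_lmul_left hu]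

/-- the `i`-th reflection in the double cover -/
def rho2 (i : Fin 315) : twoJ2 := ⟨lineRefl i, refl_mem _ _⟩

theorem isRefl_iff_line {f : Equiv.Perm icoLeech} :
    IsIcoReflection f ↔ ∃ i, lineRefl i = f := by
  constructor
  · intro hf
    obtain ⟨r, hr, rfl⟩ := eq_refl_of_isRefl hf
    obtain ⟨⟨a, i⟩, hp⟩ := exists_rootMap r.2 hr
    refine ⟨i, (refl_ext _ _ (normSq_unit (unit_mem a.isLt)) ?_).symm⟩
    rw [← hp, rootMap]
    rfl
  · rintro ⟨i, rfl⟩; exact refl_isRefl _ _

theorem lineRefl_injective : Function.Injective lineRefl := by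
  classical
  have h : (Set.range lineRefl).ncard = 315 := by
    refine (congrArg Set.ncard ?_).trans ncard_reflections
    ext f
    exact isRefl_iff_line.symm
  rw [← Set.image_univ, ← Finset.coe_univ, ← Finset.coe_image, Set.ncard_coe_finset] at h
  intro i j e
  exact Finset.card_image_iff.mp (h.trans (by simp)) (Finset.mem_coe.mpr (Finset.mem_univ i))
    (Finset.mem_coe.mpr (Finset.mem_univ j)) e

theorem rho2_injective : Function.Injective rho2 :=
  fun _ _ e => lineRefl_injective (congrArg Subtype.val e)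

theorem conj_exists (g : twoJ2) (i : Fin 315) : ∃ j, g * rho2 i * g⁻¹ = rho2 j := by
  have h := (isAut_of_mem g.2).conj_refl (toLat (line i) (V3.isRoot_iff.mp (line_root i.isLt)).1)
    (V3.isRoot_iff.mp (line_root i.isLt)).2
  obtain ⟨j, hj⟩ := isRefl_iff_line.mp (refl_isRefl _ _ : IsIcoReflection (refl ((g : Equiv.Perm
    icoLeech) (toLat (line i) (V3.isRoot_iff.mp (line_root i.isLt)).1))
    (by rw [(isAut_of_mem g.2).map_qip]; exact (V3.isRoot_iff.mp (line_root i.isLt)).2)))
  exact ⟨j, Subtype.ext (h.trans hj.symm)⟩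

def idx (g : twoJ2) (i : Fin 315) : Fin 315 := (conj_exists g i).choose

theorem idx_spec (g : twoJ2) (i : Fin 315) : g * rho2 i * g⁻¹ = rho2 (idx g i) :=
  (conj_exists g i).choose_spec

theorem idx_eq {g : twoJ2} {i j : Fin 315} (h : g * rho2 i * g⁻¹ = rho2 j) : idx g i = j :=
  rho2_injective ((idx_spec g i).symm.trans h)

theorem idx_one (i : Fin 315) : idx 1 i = i := idx_eq (by simp)

theorem idx_mul (g g' : twoJ2) (i : Fin 315) : idx (g * g') i = idx g (idx g' i) :=
  idx_eq (by rw [← idx_spec, ← idx_spec]; group)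

/-- the action of the double cover on the reflections -/
def act2 : twoJ2 →* Equiv.Perm (Fin 315) where
  toFun g :=
    { toFun := idx g
      invFun := idx g⁻¹
      left_inv := fun i => by rw [← idx_mul, inv_mul_cancel, idx_one]
      right_inv := fun i => by rw [← idx_mul, mul_inv_cancel, idx_one] }
  map_one' := Equiv.ext idx_one
  map_mul' g g' := Equiv.ext (idx_mul g g')

theorem act2_spec (g : twoJ2) (i : Fin 315) : g * rho2 i * g⁻¹ = rho2 (act2 g i) := idx_spec g i

theorem act2_ker : act2.ker = Subgroup.center twoJ2 := by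
  apply le_antisymm
  · intro g hg
    rw [MonoidHom.mem_ker] at hg
    have hc : ∀ i, g * rho2 i = rho2 i * g := fun i => by
      have := act2_spec g i
      rw [hg, Equiv.Perm.one_apply] at this
      exact mul_inv_eq_iff_eq_mul.mp this
    rw [Subgroup.mem_center_iff]
    intro x
    have hle : twoJ2 ≤ Subgroup.centralizer {(g : Equiv.Perm icoLeech)} := by
      conv_lhs => rw [twoJ2]
      rw [Subgroup.closure_le]
      intro f hf
      obtain ⟨i, rfl⟩ := isRefl_iff_line.mp hf
      rw [SetLike.mem_coe, Subgroup.mem_centralizer_singleton_iff]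
      exact congrArg Subtype.val (hc i).symm
    exact Subtype.ext (Subgroup.mem_centralizer_singleton_iff.mp (hle x.2))
  · intro g hg
    rw [MonoidHom.mem_ker]
    refine Equiv.ext fun i => idx_eq ?_
    rw [← Subgroup.mem_center_iff.mp hg (rho2 i), mul_assoc, mul_inv_cancel, mul_one]
    rfl

/-- the action of the Hall–Janko group on the 315 reflections -/
def act : J2 →* Equiv.Perm (Fin 315) :=
  QuotientGroup.lift (Subgroup.center twoJ2) act2 act2_ker.ge

theorem act_injective : Function.Injective act := by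
  rw [injective_iff_map_eq_one]
  intro x hx
  obtain ⟨g, rfl⟩ := QuotientGroup.mk_surjective x
  rw [QuotientGroup.eq_one_iff, ← act2_ker]
  exact hx

/-- the `i`-th reflection in the Hall–Janko group -/
def rho (i : Fin 315) : J2 := QuotientGroup.mk (rho2 i)

theorem rho_conj (x : J2) (i : Fin 315) : x * rho i * x⁻¹ = rho (act x i) := by
  obtain ⟨g, rfl⟩ := QuotientGroup.mk_surjective x
  exact congrArg (QuotientGroup.mk : twoJ2 → J2) (act2_spec g i)

theorem rho2_sq (i : Fin 315) : rho2 i * rho2 i = 1 := by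
  refine Subtype.ext (Equiv.ext fun x => Subtype.ext ?_)
  show qrefl _ (qrefl _ (x : H3)) = (x : H3)
  exact qrefl_qrefl (V3.isRoot_iff.mp (line_root i.isLt)).2 _

theorem rho_sq (i : Fin 315) : rho i * rho i = 1 :=
  congrArg (QuotientGroup.mk : twoJ2 → J2) (rho2_sq i)

/-- the index of generator `k` -/
def gl (k : Fin 5) : Fin 315 := ⟨J2T.gline.getD k.val 0, J2T.gline_ok.2 k⟩

theorem gl_zero : gl 0 = 0 := Fin.ext J2T.gline_ok.1

/-- the five generators -/
def gen (k : Fin 5) : J2 := rho (gl k)

theorem act_gen (k : Fin 5) (i : Fin 315) : (act (gen k) i).val = tabStep k.val i.val := by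
  obtain ⟨hj, hu, he⟩ := J2T.tab_ok k i
  have key : rho2 (gl k) * rho2 i * (rho2 (gl k))⁻¹ = rho2 ⟨_, hj⟩ := by
    apply Subtype.ext
    have hA := isAut_of_mem (rho2 (gl k)).2
    refine (hA.conj_refl (toLat (line i) (V3.isRoot_iff.mp (line_root i.isLt)).1)
      (V3.isRoot_iff.mp (line_root i.isLt)).2).trans
      (refl_ext _ (V3.isRoot_iff.mp (line_root hj)).2 (normSq_unit (unit_mem hu)) ?_)
    show qrefl (line (gl k)).val (line i).val = _
    rw [← (V3.rf_spec (line_root (gl k).isLt) (V3.isRoot_iff.mp (line_root i.isLt)).1).2]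
    show (V3.rf (line (J2T.gline.getD k.val 0)) (line i.val)).val = _
    rw [← he, V3.val_lsmul' (unit_spec (unit_mem hu)).1 (line_inI3 hj)]
    rfl
  show (idx (rho2 (gl k)) i).val = _
  rw [idx_eq key]

/-- a word in the generators -/
def wordElt (w : List ℕ) : J2 := (w.map fun a => gen (Fin.ofNat 5 a)).prod

theorem act_word : ∀ w : List ℕ, (∀ a ∈ w, a < 5) → ∀ i : Fin 315,
    (act (wordElt w) i).val = app w i.val
  | [], _, i => by simp [wordElt, app]
  | a :: w, h, i => by
    have ha : a < 5 := h a List.mem_cons_self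
    have ih := act_word w (fun b hb => h b (List.mem_cons_of_mem _ hb)) i
    simp only [wordElt, List.map_cons, List.prod_cons, map_mul, Equiv.Perm.mul_apply] at ih ⊢
    rw [act_gen, ih]
    simp [app, Nat.mod_eq_of_lt ha]

/-- The five generators move the base line everywhere. -/
theorem line_reach (i : Fin 315) :
    ∃ x ∈ Subgroup.closure (Set.range gen), act x 0 = i := by
  have := tree_ind J2T.lineTree_ok
    (P := fun i => ∃ x ∈ Subgroup.closure (Set.range gen), (act x 0).val = i)
    (fun r hr => ⟨1, one_mem _, by simp at hr; simp [hr]⟩)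
    (fun g p hg hp ⟨x, hx, e⟩ _ => ⟨gen ⟨g, hg⟩ * x,
      mul_mem (Subgroup.subset_closure ⟨_, rfl⟩) hx, by
        rw [map_mul, Equiv.Perm.mul_apply, act_gen]
        rw [e]⟩) i.val i.isLt
  obtain ⟨x, hx, e⟩ := this
  exact ⟨x, hx, Fin.ext e⟩

theorem act_transitive (i : Fin 315) : ∃ x : J2, act x 0 = i :=
  (line_reach i).imp fun _ h => h.2

theorem rho_mem_gens (i : Fin 315) : rho i ∈ Subgroup.closure (Set.range gen) := by
  obtain ⟨x, hx, e⟩ := line_reach i
  rw [← e, ← rho_conj, ← gl_zero]
  exact mul_mem (mul_mem hx (Subgroup.subset_closure ⟨0, rfl⟩)) (inv_mem hx)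

theorem closure_gen : Subgroup.closure (Set.range gen) = ⊤ := by
  rw [eq_top_iff]
  intro x _
  obtain ⟨g, rfl⟩ := QuotientGroup.mk_surjective x
  set K := (Subgroup.closure (Set.range gen)).comap (QuotientGroup.mk' (Subgroup.center twoJ2))
  have hle : twoJ2 ≤ K.map twoJ2.subtype := by
    conv_lhs => rw [twoJ2]
    rw [Subgroup.closure_le]
    intro f hf
    obtain ⟨i, rfl⟩ := isRefl_iff_line.mp hf
    exact ⟨rho2 i, rho_mem_gens i, rfl⟩
  obtain ⟨g', hg', e⟩ := hle g.2
  rw [← Subtype.ext (a1 := g') e]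
  exact hg'

end H91.J2A
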