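/- Simplicity of the Hall–Janko group. -/
import Cfsg.Agent.H91.J2Act

set_option autoImplicit false

noncomputable section

namespace H91.J2A

open Cfsg.Spor
open H91.J2T (tabStep app tree_ind stabWords subReps repWords stabStep blockStep)

theorem rho_ne_one (i : Fin 315) : rho i ≠ 1 := by
  intro h
  have h0 : ∀ j, rho j = 1 := by
    intro j
    obtain ⟨x, hx⟩ := act_transitive i
    obtain ⟨y, hy⟩ := act_transitive j
    have e0 : rho 0 = 1 := by
      have := rho_conj x 0
      rw [hx, h] at this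
      calc rho 0 = x⁻¹ * (x * rho 0 * x⁻¹) * x := by group
        _ = 1 := by rw [this]; group
    rw [← hy, ← rho_conj, e0]
    group
  have htop : (⊤ : Subgroup J2) = ⊥ := by
    rw [← closure_gen, Subgroup.closure_eq_bot_iff]
    rintro _ ⟨k, rfl⟩
    exact h0 _
  have hc : Nat.card J2 = 1 := by
    rw [← Subgroup.card_top, htop, Subgroup.card_bot]
  rw [H96.J2.card_J2] at hc
  norm_num at hc

section normalSubgroup

variable (N : Subgroup J2) [N.Normal]

/-- two reflections are congruent modulo `N` -/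
def Cong (i j : Fin 315) : Prop := QuotientGroup.mk' N (rho i) = QuotientGroup.mk' N (rho j)

theorem cong_act (x : J2) {i j : Fin 315} : Cong N (act x i) (act x j) ↔ Cong N i j := by
  simp only [Cong, ← rho_conj, map_mul, map_inv]
  constructor
  · intro h
    exact mul_left_cancel (mul_right_cancel h)
  · intro h; rw [h]

/-- congruence to the base reflection, on naturals -/
def Base (a : ℕ) : Prop := ∀ h : a < 315, Cong N 0 ⟨a, h⟩

theorem base_iff {a : ℕ} (h : a < 315) : Base N a ↔ Cong N 0 ⟨a, h⟩ :=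
  ⟨fun hb => hb h, fun hb _ => hb⟩

theorem base_stab {w : List ℕ} (hw : ∀ a ∈ w, a < 5) (h0 : app w 0 = 0) {p : ℕ} (hp : p < 315)
    (hx : app w p < 315) : Base N (app w p) ↔ Base N p := by
  rw [base_iff N hp, base_iff N hx, ← cong_act N (wordElt w) (i := 0) (j := ⟨p, hp⟩)]
  have e0 : act (wordElt w) 0 = 0 := Fin.ext ((act_word w hw 0).trans h0)
  have e1 : act (wordElt w) ⟨p, hp⟩ = ⟨_, hx⟩ := Fin.ext (act_word w hw ⟨p, hp⟩)
  rw [e0, e1]

theorem cong_all (h : ∃ i j, i ≠ j ∧ Cong N i j) : ∀ i, Cong N 0 i := by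
  obtain ⟨i, j, hne, hij⟩ := h
  obtain ⟨x, hx⟩ := act_transitive i
  have hxi : act x⁻¹ i = 0 := by
    rw [map_inv, Equiv.Perm.inv_eq_iff_eq, hx]
  set a := act x⁻¹ j with ha
  have ha0 : a ≠ 0 := fun e => hne ((act x⁻¹).injective (hxi.trans e.symm))
  have hba : Base N a.val := fun _ => by
    rw [show (⟨a.val, _⟩ : Fin 315) = a from rfl, ha, ← hxi]
    exact (cong_act N x⁻¹).mpr hij
  have hsub := tree_ind J2T.subTree_ok
    (P := fun p => p = 0 ∨ (Base N p → ∃ r ∈ subReps, Base N r))
    (fun r hr => by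
      rcases List.mem_cons.mp hr with e | e
      · exact Or.inl e
      · exact Or.inr fun hb => ⟨r, e, hb⟩)
    (fun g p hg hp ih hx => by
      obtain ⟨h0, hw⟩ := J2T.stab_fix ⟨g, hg⟩
      rcases ih with rfl | ih
      · exact Or.inl h0
      · exact Or.inr fun hb => ih ((base_stab N hw h0 hp hx).mp hb))
    a.val a.isLt
  rcases hsub with e | e
  · exact absurd (Fin.ext e) ha0
  obtain ⟨r, hr, hbr⟩ := e hba
  obtain ⟨k, hk, rfl⟩ := List.getElem_of_mem hr
  have hk5 : k < 5 := J2T.subReps_length ▸ hk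
  obtain ⟨hw0, hwok⟩ := J2T.rep_ok ⟨k, hk5⟩
  dsimp only at hw0 hwok
  rw [List.getD_eq_getElem?_getD (l := subReps), List.getElem?_eq_getElem hk,
    Option.getD_some] at hw0
  set w := repWords.getD k [] with hwdef
  have hlen : stabWords.length = 7 := rfl
  have hall := tree_ind (J2T.blockTree_ok ⟨k, hk5⟩) (P := Base N)
    (fun r hr => by simp at hr; subst hr; exact fun _ => rfl)
    (fun g p hg hp hb hx => by
      by_cases hg7 : g < 7
      · have e : blockStep k g p = stabStep g p := by
          simp [blockStep, stabStep, List.getD_eq_getElem?_getD,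
            List.getElem?_append_left (show g < stabWords.length by omega)]
        rw [e] at hx ⊢
        exact (base_stab N (J2T.stab_fix ⟨g, hg7⟩).2 (J2T.stab_fix ⟨g, hg7⟩).1 hp hx).mpr hb
      · obtain rfl : g = 7 := by omega
        have e : blockStep k 7 p = app w p := by
          simp [blockStep, hwdef, List.getD_eq_getElem?_getD, hlen]
        rw [e] at hx ⊢
        intro _
        have h1 := (cong_act N (wordElt w) (i := 0)).mpr (hb hp)
        have e0 : (act (wordElt w) 0).val = subReps[k] := (act_word w hwok 0).trans hw0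
        have e1 : act (wordElt w) ⟨p, hp⟩ = ⟨_, hx⟩ := Fin.ext (act_word w hwok ⟨p, hp⟩)
        rw [e1] at h1
        have h2 := hbr (e0 ▸ (act (wordElt w) 0).isLt)
        refine (h2.trans ?_ : Cong N 0 ⟨_, hx⟩)
        refine Eq.trans ?_ h1
        congr 2
        exact Fin.ext e0.symm)
  exact fun i => hall i.val i.isLt i.isLt

theorem normal_eq_top (h : N ≠ ⊥) : N = ⊤ := by
  obtain ⟨x, hxN, hx1⟩ := (Subgroup.bot_or_exists_ne_one N).resolve_left h
  obtain ⟨i, hi⟩ : ∃ i, act x i ≠ i := by
    by_contra hc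
    push Not at hc
    exact hx1 (act_injective (by rw [map_one]; exact Equiv.ext hc))
  have hxN' : QuotientGroup.mk' N x = 1 := (QuotientGroup.eq_one_iff x).mpr hxN
  have hcong : Cong N (act x i) i := by
    show _ = _
    rw [← rho_conj, map_mul, map_mul, map_inv, hxN', one_mul, inv_one, mul_one]
  have hall := cong_all N ⟨_, _, hi, hcong⟩
  set z := QuotientGroup.mk' N (rho 0) with hz
  have hzsq : z * z = 1 := by rw [hz, ← map_mul, rho_sq, map_one]
  have hgen : ∀ k, QuotientGroup.mk' N (gen k) = z := fun k => (hall _).symm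
  have hword : QuotientGroup.mk' N (wordElt J2T.oddRel) = 1 := by
    have : wordElt J2T.oddRel = 1 := act_injective (Equiv.ext fun p => Fin.ext (by
      rw [act_word _ J2T.oddRel_ok.2.2 p, J2T.oddRel_ok.1 p, map_one]; rfl))
    rw [this, map_one]
  have hpow : z ^ J2T.oddRel.length = 1 := by
    rw [← hword, wordElt, map_list_prod, List.map_map]
    simp only [Function.comp_def, hgen, List.map_const', List.prod_replicate]
  have hz1 : z = 1 := by
    rw [← hpow, ← Nat.div_add_mod J2T.oddRel.length 2, J2T.oddRel_ok.2.1, pow_add, pow_mul, pow_two,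
      hzsq, one_pow, one_mul, pow_one]
  rw [eq_top_iff, ← closure_gen, Subgroup.closure_le]
  rintro _ ⟨k, rfl⟩
  exact (QuotientGroup.eq_one_iff (gen k)).mp ((hgen k).trans hz1)

end normalSubgroup

theorem J2_isSimple : IsSimpleGroup J2 := by
  have : Nontrivial J2 := ⟨⟨rho 0, 1, rho_ne_one 0⟩⟩
  exact ⟨fun N hN => or_iff_not_imp_left.mpr fun h => @normal_eq_top N hN h⟩

theorem J2_noncomm : ∃ a b : J2, a * b ≠ b * a := by
  have hd : ∃ p : Fin 315, tabStep 0 (tabStep 1 p.val) ≠ tabStep 1 (tabStep 0 p.val) := by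
    decide +kernel
  obtain ⟨p, hp⟩ := hd
  refine ⟨gen 0, gen 1, fun h => hp ?_⟩
  have h' := congrArg (fun g => (act g p).val) h
  simpa [map_mul, act_gen] using h'

end H91.J2A
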