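/- The Hall–Janko group on one hundred points. -/
import Cfsg.Agent.H91.J2Simple

set_option autoImplicit false

noncomputable section

namespace H91.J2A

open Cfsg.Spor
open H91.J2T (tabStep ptStep mask tree_ind label subPts)

/-- line `i` lies in the set `a` -/
def InPt (a : Fin 100) (i : Fin 315) : Prop := (mask a.val).testBit i.val = true

/-- `x` maps set `a` onto set `b` -/
def Maps (x : J2) (a b : Fin 100) : Prop := ∀ i, InPt a i ↔ InPt b (act x i)

theorem maps_unique {x : J2} {a b c : Fin 100} (hb : Maps x a b) (hc : Maps x a c) : b = c := by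
  refine J2T.mask_inj b c (Nat.eq_of_testBit_eq fun i => ?_)
  by_cases hi : i < 315
  · obtain ⟨j, hj⟩ := (act x).surjective ⟨i, hi⟩
    have h := (hb j).symm.trans (hc j)
    rw [hj] at h
    exact Bool.eq_iff_iff.mpr h
  · have le : (2 : ℕ) ^ 315 ≤ 2 ^ i := Nat.pow_le_pow_right (by norm_num) (by omega)
    rw [Nat.testBit_lt_two_pow ((J2T.mask_lt b).trans_le le),
      Nat.testBit_lt_two_pow ((J2T.mask_lt c).trans_le le)]

/-- generator `k` on the hundred points -/
def ptFin (k : Fin 5) (a : Fin 100) : Fin 100 := ⟨ptStep k.val a.val, (J2T.mask_ok k a).1⟩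

theorem maps_gen (k : Fin 5) (a : Fin 100) : Maps (gen k) a (ptFin k a) := by
  intro i
  show _ = true ↔ _ = true
  rw [act_gen, (J2T.mask_ok k a).2 i]
  rfl

theorem maps_exists (x : J2) : ∀ a, ∃ b, Maps x a b := by
  have hx : x ∈ Subgroup.closure (Set.range gen) := by rw [closure_gen]; trivial
  induction hx using Subgroup.closure_induction with
  | mem y hy => obtain ⟨k, rfl⟩ := hy; exact fun a => ⟨_, maps_gen k a⟩
  | one => exact fun a => ⟨a, fun i => by simp⟩
  | mul y z _ _ ihy ihz =>
    intro a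
    obtain ⟨b, hb⟩ := ihz a
    obtain ⟨c, hc⟩ := ihy b
    exact ⟨c, fun i => by rw [map_mul, Equiv.Perm.mul_apply]; exact (hb i).trans (hc _)⟩
  | inv y _ ih =>
    choose f hf using ih
    have hinj : Function.Injective f := by
      intro a a' e
      refine J2T.mask_inj a a' (Nat.eq_of_testBit_eq fun i => ?_)
      by_cases hi : i < 315
      · have h := hf a ⟨i, hi⟩
        rw [e] at h
        exact Bool.eq_iff_iff.mpr (h.trans (hf a' ⟨i, hi⟩).symm)
      · have le : (2 : ℕ) ^ 315 ≤ 2 ^ i := Nat.pow_le_pow_right (by norm_num) (by omega)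
        rw [Nat.testBit_lt_two_pow ((J2T.mask_lt a).trans_le le),
          Nat.testBit_lt_two_pow ((J2T.mask_lt a').trans_le le)]
    intro a
    obtain ⟨b, rfl⟩ := Finite.surjective_of_injective hinj a
    refine ⟨b, fun i => ?_⟩
    rw [map_inv, hf b ((act y)⁻¹ i), ← Equiv.Perm.mul_apply, mul_inv_cancel, Equiv.Perm.one_apply]

def ptIdx (x : J2) (a : Fin 100) : Fin 100 := (maps_exists x a).choose

theorem ptIdx_spec (x : J2) (a : Fin 100) : Maps x a (ptIdx x a) := (maps_exists x a).choose_spec

theorem ptIdx_eq {x : J2} {a b : Fin 100} (h : Maps x a b) : ptIdx x a = b :=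
  maps_unique (ptIdx_spec x a) h

/-- the action on the hundred points -/
@[reducible] def ptAction : MulAction J2 (Fin 100) where
  smul := ptIdx
  one_smul a := ptIdx_eq fun i => by simp
  mul_smul x y a := ptIdx_eq fun i => by
    rw [map_mul, Equiv.Perm.mul_apply]
    exact (ptIdx_spec y a i).trans (ptIdx_spec x _ _)

attribute [local instance] ptAction

theorem smul_gen (k : Fin 5) (a : Fin 100) : gen k • a = ptFin k a := ptIdx_eq (maps_gen k a)

theorem smul_maps (x : J2) (a : Fin 100) : Maps x a (x • a) := ptIdx_spec x a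

theorem pt_transitive (a : Fin 100) : ∃ x : J2, x • (0 : Fin 100) = a := by
  obtain ⟨x, hx⟩ := tree_ind J2T.pointTree_ok
    (P := fun n => ∃ x : J2, (x • (0 : Fin 100)).val = n)
    (fun r hr => ⟨1, by simp at hr; simp [hr]⟩)
    (fun g p hg hp ⟨x, e⟩ _ => ⟨gen ⟨g, hg⟩ * x, by rw [mul_smul, smul_gen]; simp [ptFin, e]⟩)
    a.val a.isLt
  exact ⟨x, Fin.ext hx⟩

/-- the stabiliser of the first point -/
def H100 : Subgroup J2 := MulAction.stabilizer J2 (0 : Fin 100)

theorem H100_index : H100.index = 100 := by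
  have ho : MulAction.orbit J2 (0 : Fin 100) = Set.univ := Set.eq_univ_of_forall pt_transitive
  rw [H100, MulAction.index_stabilizer, ho, Set.ncard_univ, Nat.card_fin]

theorem H100_card : Nat.card H100 = 6048 := by
  have h := Subgroup.card_mul_index H100
  rw [H100_index, H96.J2.card_J2] at h
  omega

/-- the four local generators -/
def locGen (k : Fin 4) : J2 := gen k.castSucc

theorem locGen_mem (k : Fin 4) : locGen k ∈ H100 := by
  rw [H100, MulAction.mem_stabilizer_iff, locGen, smul_gen]
  exact Fin.ext (J2T.local_fix k)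

/-- the subgroup of the four local generators -/
def locSub : Subgroup J2 := Subgroup.closure (Set.range locGen)

theorem locSub_le : locSub ≤ H100 := by
  rw [locSub, Subgroup.closure_le]
  rintro _ ⟨k, rfl⟩
  exact locGen_mem k

theorem label_inv {x : J2} (hx : x ∈ locSub) :
    ∀ a : Fin 100, label (x • a).val = label a.val := by
  induction hx using Subgroup.closure_induction with
  | mem y hy =>
    obtain ⟨k, rfl⟩ := hy
    intro a
    rw [locGen, smul_gen]
    exact J2T.label_ok.2.2.2.1 k a
  | one => intro a; rw [one_smul]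
  | mul y z _ _ ihy ihz => intro a; rw [mul_smul, ihy, ihz]
  | inv y _ ih => intro a; rw [← ih (y⁻¹ • a), smul_inv_smul]

/-- representative point of a suborbit -/
def subPt (j : Fin 3) : Fin 100 := ⟨subPts.getD j.val 0, (J2T.label_ok.2.2.1 j).1⟩

theorem orbit_locSub (j : Fin 3) :
    MulAction.orbit locSub (subPt j) = {a : Fin 100 | label a.val = j.val} := by
  ext a
  constructor
  · rintro ⟨x, rfl⟩
    exact (label_inv x.2 _).trans (J2T.label_ok.2.2.1 j).2
  · intro ha
    obtain ⟨i, x, hx, hxa⟩ := tree_ind J2T.subPointTree_ok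
      (P := fun n => ∃ (i : Fin 3) (x : J2), x ∈ locSub ∧ (x • subPt i).val = n)
      (fun r hr => by
        obtain ⟨i, hi, rfl⟩ := List.getElem_of_mem hr
        refine ⟨⟨i, J2T.label_ok.1 ▸ hi⟩, 1, one_mem _, ?_⟩
        rw [one_smul]
        simp [subPt, List.getD_eq_getElem?_getD, hi])
      (fun g p hg hp ⟨i, x, hx, e⟩ _ => ⟨i, locGen ⟨g, hg⟩ * x,
        mul_mem (Subgroup.subset_closure ⟨_, rfl⟩) hx, by
          rw [mul_smul, locGen, smul_gen]; simp [ptFin, e]⟩)
      a.val a.isLt
    have hxa' : x • subPt i = a := Fin.ext hxa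
    have hl := label_inv hx (subPt i)
    rw [hxa', show label (subPt i).val = i.val from (J2T.label_ok.2.2.1 i).2] at hl
    have hij : i = j := Fin.ext (hl.symm.trans ha)
    exact ⟨⟨x, hx⟩, hij ▸ hxa'⟩

/-- The embedding in the symmetric group of degree one hundred. -/
theorem exists_perm_embedding : ∃ f : J2 →* Equiv.Perm (Fin 100), Function.Injective f := by
  refine ⟨MulAction.toPermHom J2 (Fin 100), ?_⟩
  rw [← MonoidHom.ker_eq_bot_iff]
  refine (J2_isSimple.eq_bot_or_eq_top_of_normal _ inferInstance).resolve_right fun h => ?_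
  obtain ⟨x, hx⟩ := pt_transitive 1
  have h1 : MulAction.toPermHom J2 (Fin 100) x = 1 := by
    rw [← MonoidHom.mem_ker, h]; trivial
  have := congrArg (fun p : Equiv.Perm (Fin 100) => p 0) h1
  simp [hx] at this

end H91.J2A
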