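/- The stabiliser of a point among one hundred is PSU(3,3). -/
import Cfsg.Agent.H50.SU3Inv
import Cfsg.Agent.H50.Simple
import Cfsg.Agent.H71.UThree
import Cfsg.Agent.H91.J2Points

set_option autoImplicit false

noncomputable section

namespace H91.J2U

open Matrix Cfsg
open H71.UThree (Gi val gm ga gc a3 val_gm val_ga val_a3 cube_val val_inj)
open H91.J2T (Vec gi rep vdot vsmul vrefl vadd normUnits midx rowStep)

/-- the field of nine elements -/
abbrev F9 : Type := GaloisField 3 2

instance f9Fintype : Fintype F9 := Fintype.ofFinite _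

theorem card_F9 : Fintype.card F9 = 3 ^ 2 := by
  rw [← Nat.card_eq_fintype_card, GaloisField.card 3 2 (by norm_num)]

theorem exists_sqrt : ∃ t : F9, t * t = -1 := by
  obtain ⟨r, hr⟩ := (FiniteField.isSquare_neg_one_iff (F := F9)).mpr (by rw [card_F9]; norm_num)
  exact ⟨r, hr.symm⟩

/-- a square root of minus one -/
def sqrtm : F9 := exists_sqrt.choose

theorem sqrtm_sq : sqrtm * sqrtm = -1 := exists_sqrt.choose_spec

/-- value of a code -/
def valF (x : Gi) : F9 := val sqrtm x

/-- vector of a code -/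
def vecF (v : Vec) : Fin 3 → F9 := ![valF v.1, valF v.2.1, valF v.2.2]

def Reduced (x : Gi) : Prop := x.1 < 3 ∧ x.2 < 3

theorem reduced_gi (d : ℕ) : Reduced (gi d) :=
  ⟨Nat.mod_lt _ (by norm_num), Nat.mod_lt _ (by norm_num)⟩

theorem valF_inj {x y : Gi} (hx : Reduced x) (hy : Reduced y) (h : valF x = valF y) : x = y := by
  obtain ⟨e1, e2⟩ := val_inj sqrtm_sq h
  have c := fun {m n : ℕ} (hm : m < 3) (hn : n < 3) (e : (m : F9) = n) => show m = n by
    rw [CharP.natCast_eq_natCast F9 3] at e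
    exact e.eq_of_lt_of_lt hm hn
  exact Prod.ext (c hx.1 hy.1 e1) (c hx.2 hy.2 e2)

theorem valF_surj : ∀ a : F9, ∃ d < 9, valF (gi d) = a := by
  classical
  have hinj : Function.Injective fun d : Fin 9 => valF (gi d.val) := by
    intro d e h
    have h2 := valF_inj (reduced_gi _) (reduced_gi _) h
    have : ∀ d e : Fin 9, gi d.val = gi e.val → d = e := by decide +kernel
    exact this d e h2
  intro a
  obtain ⟨d, hd⟩ := ((Fintype.bijective_iff_injective_and_card _).mpr
    ⟨hinj, by rw [Fintype.card_fin, card_F9]; rfl⟩).2 a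
  exact ⟨d, d.isLt, hd⟩

theorem vecF_surj (w : Fin 3 → F9) : ∃ c : Fin 729, vecF (J2T.vec c.val) = w := by
  obtain ⟨a, ha, ha'⟩ := valF_surj (w 0)
  obtain ⟨b, hb, hb'⟩ := valF_surj (w 1)
  obtain ⟨c, hc, hc'⟩ := valF_surj (w 2)
  refine ⟨⟨a + 9 * b + 81 * c, by omega⟩, ?_⟩
  funext i
  simp only [vecF, J2T.vec]
  rw [show (a + 9 * b + 81 * c) % 9 = a by omega, show (a + 9 * b + 81 * c) / 9 % 9 = b by omega,
    show (a + 9 * b + 81 * c) / 81 % 9 = c by omega]
  fin_cases i <;> simp [ha', hb', hc']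

theorem herm_vecF (u v : Vec) : hermForm 3 F9 3 (vecF u) (vecF v) = valF (vdot u v) := by
  simp [hermForm, Fin.sum_univ_three, vecF, vdot, valF, val_a3, val_gm sqrtm_sq,
    cube_val sqrtm_sq]

theorem vecF_smul (a : Gi) (v : Vec) : vecF (vsmul a v) = valF a • vecF v := by
  funext i
  fin_cases i <;> simp [vecF, vsmul, valF, val_gm sqrtm_sq]

theorem valF_two : valF (2, 0) = -1 := by
  simp only [valF, val, Nat.cast_zero, zero_mul, add_zero, Nat.cast_ofNat]
  linear_combination H71.UThree.three_eq (F := F9)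

theorem valF_two' : valF (2, 0) = 2 := by simp [valF, val]

theorem valF_one : valF (1, 0) = 1 := by simp [valF, val]

theorem vecF_add (u v : Vec) : vecF (vadd u v) = vecF u + vecF v := by
  funext i
  fin_cases i <;> simp [vecF, vadd, valF, val_ga]

/-- the norm-one representative `i` -/
def pt (i : Fin 63) : Fin 3 → F9 := vecF (rep i.val)

theorem pt_norm (i : Fin 63) : hermForm 3 F9 3 (pt i) (pt i) = 1 := by
  rw [pt, herm_vecF, J2T.rep_norm i, valF_one]

theorem odd_three : Odd 3 := by decide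

/-- the sixty-three involutions -/
def inv63 (i : Fin 63) : SU 3 F9 3 := H50.su3inv card_F9 odd_three (pt i) (pt_norm i)

theorem inv63_of_norm_one {w : Fin 3 → F9} (hw : hermForm 3 F9 3 w w = 1) :
    ∃ j, H50.su3inv card_F9 odd_three w hw = inv63 j := by
  obtain ⟨c, rfl⟩ := vecF_surj w
  have h1 : vdot (J2T.vec c.val) (J2T.vec c.val) = (1, 0) := by
    rw [herm_vecF, ← valF_one] at hw
    exact valF_inj ⟨Nat.mod_lt _ (by norm_num), Nat.mod_lt _ (by norm_num)⟩ ⟨by norm_num, by norm_num⟩ hw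
  obtain ⟨hj, a, -, ha⟩ := J2T.norm_complete c h1
  refine ⟨⟨_, hj⟩, ((H50.su3inv_eq_iff card_F9 odd_three (pt_norm _) hw).mpr ⟨valF a, ?_⟩).symm⟩
  rw [← ha, vecF_smul]
  rfl

theorem inv63_injective : Function.Injective inv63 := by
  intro i j e
  obtain ⟨s, hs⟩ := (H50.su3inv_eq_iff card_F9 odd_three (pt_norm i) (pt_norm j)).mp e
  obtain ⟨d, hd, rfl⟩ := valF_surj s
  rw [pt, pt, ← vecF_smul] at hs
  have key : ∀ x y : Vec, (Reduced x.1 ∧ Reduced x.2.1 ∧ Reduced x.2.2) →
      (Reduced y.1 ∧ Reduced y.2.1 ∧ Reduced y.2.2) → vecF x = vecF y → x = y := fun x y hx hy h =>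
    Prod.ext (valF_inj hx.1 hy.1 (congrFun h 0))
      (Prod.ext (valF_inj hx.2.1 hy.2.1 (congrFun h 1)) (valF_inj hx.2.2 hy.2.2 (congrFun h 2)))
  have rs : ∀ (a : Gi) (v : Vec), Reduced (vsmul a v).1 ∧ Reduced (vsmul a v).2.1 ∧
      Reduced (vsmul a v).2.2 := fun a v => by
    refine ⟨⟨?_, ?_⟩, ⟨?_, ?_⟩, ⟨?_, ?_⟩⟩ <;> exact Nat.mod_lt _ (by norm_num)
  have hv := key _ _ ⟨reduced_gi _, reduced_gi _, reduced_gi _⟩ (rs _ _) hs
  have hn := J2T.rep_norm j
  rw [hv] at hn
  have hmem : gi d ∈ normUnits := by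
    have hs2 := pt_norm j
    rw [pt, hv, vecF_smul, H50.h_smul_left, H50.h_smul_right card_F9, herm_vecF, J2T.rep_norm i,
      valF_one, mul_one, valF, cube_val sqrtm_sq, ← val_gm sqrtm_sq, ← valF_one] at hs2
    have h2 := valF_inj ⟨Nat.mod_lt _ (by norm_num), Nat.mod_lt _ (by norm_num)⟩
      ⟨by norm_num, by norm_num⟩ hs2
    have : ∀ d : Fin 9, gm (gi d.val) (gc (gi d.val)) = (1, 0) → gi d.val ∈ normUnits := by
      decide +kernel
    exact this ⟨d, hd⟩ h2
  exact J2T.rep_inj i j _ hmem hv.symm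

theorem conj_exists (g : SU 3 F9 3) (i : Fin 63) : ∃ j, g * inv63 i * g⁻¹ = inv63 j := by
  rw [inv63, H50.su3inv_conj card_F9 odd_three]
  exact inv63_of_norm_one _

def idx (g : SU 3 F9 3) (i : Fin 63) : Fin 63 := (conj_exists g i).choose

theorem idx_spec (g : SU 3 F9 3) (i : Fin 63) : g * inv63 i * g⁻¹ = inv63 (idx g i) :=
  (conj_exists g i).choose_spec

theorem idx_eq {g : SU 3 F9 3} {i j : Fin 63} (h : g * inv63 i * g⁻¹ = inv63 j) : idx g i = j :=
  inv63_injective ((idx_spec g i).symm.trans h)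

theorem idx_one (i : Fin 63) : idx 1 i = i := idx_eq (by simp)

theorem idx_mul (g g' : SU 3 F9 3) (i : Fin 63) : idx (g * g') i = idx g (idx g' i) :=
  idx_eq (by rw [← idx_spec, ← idx_spec]; group)

/-- the action on the sixty-three involutions -/
def act63 : SU 3 F9 3 →* Equiv.Perm (Fin 63) where
  toFun g :=
    { toFun := idx g
      invFun := idx g⁻¹
      left_inv := fun i => by rw [← idx_mul, inv_mul_cancel, idx_one]
      right_inv := fun i => by rw [← idx_mul, mul_inv_cancel, idx_one] }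
  map_one' := Equiv.ext idx_one
  map_mul' g g' := Equiv.ext (idx_mul g g')

/-- position of local generator `k` -/
def mi (k : Fin 4) : Fin 63 := ⟨midx.getD k.val 0, (J2T.row_ok k).1⟩

/-- row of local generator `k` -/
def rowFin (k : Fin 4) (i : Fin 63) : Fin 63 := ⟨rowStep k.val i.val, ((J2T.row_ok k).2.2 i).1⟩

theorem conj_row (k : Fin 4) (i : Fin 63) :
    inv63 (mi k) * inv63 i * (inv63 (mi k))⁻¹ = inv63 (rowFin k i) := by
  simp only [inv63]
  rw [H50.su3inv_conj card_F9 odd_three]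
  obtain ⟨a, -, ha⟩ := J2T.row_refl k i
  refine ((H50.su3inv_eq_iff card_F9 odd_three (pt_norm _) _).mpr ⟨valF a, ?_⟩).symm
  rw [H50.su3inv_mulVec, show pt (mi k) = vecF (rep (midx.getD k.val 0)) from rfl,
    show pt (rowFin k i) = vecF (rep (rowStep k.val i.val)) from rfl, ← vecF_smul, ← ha]
  rw [vrefl, vecF_add, vecF_smul, vecF_smul, valF_two, pt, herm_vecF, neg_one_smul]
  congr 2
  rw [valF, valF, val_gm sqrtm_sq, ← valF, ← valF, valF_two']

theorem act63_gen (k : Fin 4) (i : Fin 63) : act63 (inv63 (mi k)) i = rowFin k i :=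
  idx_eq (conj_row k i)

theorem inv63_mem (i : Fin 63) :
    inv63 i ∈ Subgroup.closure (Set.range fun k => inv63 (mi k)) := by
  obtain ⟨j, hj, hm⟩ := J2T.tree_ind J2T.invTree_ok
    (P := fun n => ∃ j : Fin 63, j.val = n ∧
      inv63 j ∈ Subgroup.closure (Set.range fun k => inv63 (mi k)))
    (fun r hr => ⟨mi 0, by simp at hr; simp [mi, hr], Subgroup.subset_closure ⟨0, rfl⟩⟩)
    (fun g p hg hp ⟨j, hj, hm⟩ hx => ⟨rowFin ⟨g, hg⟩ j, by simp [rowFin, hj], by
      rw [← conj_row]
      exact mul_mem (mul_mem (Subgroup.subset_closure ⟨_, rfl⟩) hm)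
        (inv_mem (Subgroup.subset_closure ⟨_, rfl⟩))⟩)
    i.val i.isLt
  rwa [← Fin.ext hj]

theorem center_eq_bot : Subgroup.center (SU 3 F9 3) = ⊥ := by
  rw [← Subgroup.card_eq_one, H50.card_center_SU card_F9 (by norm_num)]
  norm_num

theorem closure_inv63 : Subgroup.closure (Set.range fun k => inv63 (mi k)) = ⊤ := by
  set N := Subgroup.normalClosure (Set.range inv63)
  have hle : N ≤ Subgroup.closure (Set.range fun k => inv63 (mi k)) := by
    refine (Subgroup.closure_le _).mpr fun x hx => ?_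
    obtain ⟨_, ⟨i, rfl⟩, hc⟩ := Group.mem_conjugatesOfSet_iff.mp hx
    obtain ⟨c, hc⟩ := isConj_iff.mp hc
    rw [idx_spec] at hc
    rw [← hc]
    exact inv63_mem _
  rcases H50.normal_le_center_or_eq_top card_F9 (n := 3) le_rfl (by norm_num) N with h | h
  · exfalso
    have h0 : inv63 0 ∈ N := Subgroup.subset_normalClosure ⟨0, rfl⟩
    have h1 := h h0
    rw [center_eq_bot, Subgroup.mem_bot] at h1
    exact H50.su3inv_ne_one card_F9 odd_three _ _ h1
  · exact top_le_iff.mp (h ▸ hle)

theorem act63_injective : Function.Injective act63 := by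
  rw [← MonoidHom.ker_eq_bot_iff]
  rcases H50.normal_le_center_or_eq_top card_F9 (n := 3) le_rfl (by norm_num) act63.ker with h | h
  · rwa [center_eq_bot, le_bot_iff] at h
  · exfalso
    have hd : ∃ i : Fin 63, rowStep 0 i.val ≠ i.val := by decide +kernel
    obtain ⟨i, hi⟩ := hd
    have h1 : act63 (inv63 (mi 0)) = 1 := by rw [← MonoidHom.mem_ker, h]; trivial
    have := act63_gen 0 i
    rw [h1] at this
    exact hi (congrArg Fin.val this).symm

theorem card_SU : Nat.card (SU 3 F9 3) = 6048 := by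
  have h := H50.card_SU_mul card_F9 (n := 3) (by norm_num)
  rw [H50.card_GU card_F9] at h
  norm_num [Finset.prod_range_succ] at h
  omega

/-! ### The stabiliser -/

attribute [local instance] H91.J2A.ptAction


/-- the line of position `i` -/
def ord (i : Fin 63) : Fin 315 := ⟨J2T.ordAt i.val, (J2T.ord_ok.1 i).1⟩

theorem ord_injective : Function.Injective ord := by
  intro i j e
  have := congrArg (fun x : Fin 315 => J2T.posAt x.val) e
  simp only [ord, (J2T.ord_ok.1 i).2.2, (J2T.ord_ok.1 j).2.2] at this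
  exact Fin.ext this

theorem psi_exists (x : J2A.H100) (i : Fin 63) :
    ∃ j, J2A.act (x : Cfsg.Spor.J2) (ord i) = ord j := by
  have hx : (x : Cfsg.Spor.J2) • (0 : Fin 100) = 0 := x.2
  have h := (J2A.smul_maps (x : Cfsg.Spor.J2) 0 (ord i)).mp (J2T.ord_ok.1 i).2.1
  rw [hx] at h
  obtain ⟨hp, he⟩ := J2T.ord_ok.2 _ h
  exact ⟨⟨_, hp⟩, Fin.ext he.symm⟩

def psiIdx (x : J2A.H100) (i : Fin 63) : Fin 63 := (psi_exists x i).choose

theorem psiIdx_eq {x : J2A.H100} {i j : Fin 63}
    (h : J2A.act (x : Cfsg.Spor.J2) (ord i) = ord j) : psiIdx x i = j :=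
  ord_injective ((psi_exists x i).choose_spec.symm.trans h)

theorem psiIdx_one (i : Fin 63) : psiIdx 1 i = i := psiIdx_eq (by simp)

theorem psiIdx_mul (x y : J2A.H100) (i : Fin 63) :
    psiIdx (x * y) i = psiIdx x (psiIdx y i) :=
  psiIdx_eq (by
    rw [Subgroup.coe_mul, map_mul, Equiv.Perm.mul_apply, (psi_exists y i).choose_spec]
    exact (psi_exists x _).choose_spec)

/-- the stabiliser on the sixty-three lines -/
def psi : J2A.H100 →* Equiv.Perm (Fin 63) where
  toFun x :=
    { toFun := psiIdx x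
      invFun := psiIdx x⁻¹
      left_inv := fun i => by rw [← psiIdx_mul, inv_mul_cancel, psiIdx_one]
      right_inv := fun i => by rw [← psiIdx_mul, mul_inv_cancel, psiIdx_one] }
  map_one' := Equiv.ext psiIdx_one
  map_mul' x y := Equiv.ext (psiIdx_mul x y)

/-- local generators inside the stabiliser -/
def locH (k : Fin 4) : J2A.H100 := ⟨J2A.locGen k, J2A.locGen_mem k⟩

theorem psi_gen (k : Fin 4) : psi (locH k) = act63 (inv63 (mi k)) := by
  ext i
  rw [act63_gen]
  refine congrArg Fin.val (psiIdx_eq (Fin.ext ?_))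
  show (J2A.act (J2A.gen k.castSucc) (ord i)).val = _
  rw [J2A.act_gen]
  exact ((J2T.row_ok k).2.2 i).2

theorem psi_map_loc : (Subgroup.closure (Set.range locH)).map psi = act63.range := by
  rw [MonoidHom.map_closure, ← Set.range_comp, MonoidHom.range_eq_map, ← closure_inv63,
    MonoidHom.map_closure, ← Set.range_comp]
  congr 1
  exact congrArg Set.range (funext psi_gen)

theorem card_range63 : Nat.card act63.range = 6048 := by
  rw [← Nat.card_congr (MonoidHom.ofInjective act63_injective).toEquiv, card_SU]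

theorem locH_top : Subgroup.closure (Set.range locH) = ⊤ := by
  have : Finite J2A.H100 := Nat.finite_of_card_ne_zero (by rw [J2A.H100_card]; norm_num)
  apply Subgroup.eq_top_of_le_card
  rw [J2A.H100_card, ← card_range63, ← psi_map_loc]
  exact Nat.le_of_dvd Nat.card_pos (Subgroup.card_map_dvd _ psi)

theorem psi_range : psi.range = act63.range := by
  rw [MonoidHom.range_eq_map, ← locH_top, psi_map_loc]

theorem psi_injective : Function.Injective psi := by
  have : Finite J2A.H100 := Nat.finite_of_card_ne_zero (by rw [J2A.H100_card]; norm_num)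
  have hb : Function.Bijective psi.rangeRestrict := by
    rw [Nat.bijective_iff_surjective_and_card]
    exact ⟨psi.rangeRestrict_surjective, by rw [psi_range, card_range63, J2A.H100_card]⟩
  intro x y e
  exact hb.1 (Subtype.ext e)

theorem H100_equiv : Nonempty (J2A.H100 ≃* Cfsg.PSU 3 F9 3) := by
  let e1 := (MonoidHom.ofInjective psi_injective).trans
    ((MulEquiv.subgroupCongr psi_range).trans (MonoidHom.ofInjective act63_injective).symm)
  exact ⟨e1.trans ((QuotientGroup.quotientBot (G := SU 3 F9 3)).symm.trans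
    (QuotientGroup.quotientMulEquivOfEq center_eq_bot.symm))⟩

theorem locSub_eq : J2A.locSub = J2A.H100 := by
  have h := congrArg (Subgroup.map J2A.H100.subtype) locH_top
  rw [MonoidHom.map_closure, ← Set.range_comp, ← MonoidHom.range_eq_map,
    Subgroup.range_subtype] at h
  exact h

theorem suborbit (j : Fin 3) : ∃ c : Cfsg.Spor.J2 ⧸ J2A.H100,
    (MulAction.orbit ↥J2A.H100 c).ncard =
      (Finset.univ.filter fun a : Fin 100 => J2T.label a.val = j.val).card := by
  classical
  obtain ⟨x, hx⟩ := J2A.pt_transitive (J2A.subPt j)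
  refine ⟨QuotientGroup.mk x, ?_⟩
  let f : Cfsg.Spor.J2 ⧸ J2A.H100 → Fin 100 :=
    MulAction.ofQuotientStabilizer Cfsg.Spor.J2 (0 : Fin 100)
  have hf : Function.Injective f := MulAction.injective_ofQuotientStabilizer _ _
  have himg : f '' MulAction.orbit ↥J2A.H100 (QuotientGroup.mk x : Cfsg.Spor.J2 ⧸ J2A.H100) =
      MulAction.orbit ↥J2A.H100 (J2A.subPt j) := by
    rw [← hx, MulAction.orbit, MulAction.orbit, ← Set.range_comp]
    congr 1
    funext h
    exact (MulAction.ofQuotientStabilizer_smul _ (0 : Fin 100) (h : Cfsg.Spor.J2)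
      (QuotientGroup.mk x : Cfsg.Spor.J2 ⧸ J2A.H100)).trans rfl
  rw [← Set.ncard_image_of_injective _ hf, himg, ← locSub_eq, J2A.orbit_locSub,
    ← Set.ncard_coe_finset]
  congr 1
  ext a
  simp

end H91.J2U
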