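/- Jordan's theorem on sharply 4-transitive groups (degrees 4, 5, 6, 11) and its consequences. -/
import Cfsg.Agent.H91.SharpTrans

set_option autoImplicit false

namespace H91

open MulAction

section four

variable {G α : Type*} [Group G] [MulAction G α] [Fintype α]

/-- Prescribing four images. -/
theorem four_move (h4 : IsMultiplyPretransitive G α 4) {a b c d a' b' c' d' : α}
    (h : [a, b, c, d].Nodup) (h' : [a', b', c', d'].Nodup) :
    ∃ g : G, g • a = a' ∧ g • b = b' ∧ g • c = c' ∧ g • d = d' := by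
  let u : Fin 4 ↪ α := ⟨![a, b, c, d], (List.nodup_ofFn (f := ![a, b, c, d])).mp (by simpa [List.ofFn_succ] using h)⟩
  let v : Fin 4 ↪ α := ⟨![a', b', c', d'], (List.nodup_ofFn (f := ![a', b', c', d'])).mp (by simpa [List.ofFn_succ] using h')⟩
  obtain ⟨g, hg⟩ := h4.exists_smul_eq u v
  have hi : ∀ i, g • u i = v i := fun i => by rw [← hg]; rfl
  exact ⟨g, hi 0, hi 1, hi 2, hi 3⟩

theorem four_fix (hs : ∀ x : Fin 4 ↪ α, stabilizer G x = ⊥) {a b c d : α}
    (h : [a, b, c, d].Nodup) {g : G} (ha : g • a = a) (hb : g • b = b) (hc : g • c = c)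
    (hd : g • d = d) : g = 1 := by
  let u : Fin 4 ↪ α := ⟨![a, b, c, d], (List.nodup_ofFn (f := ![a, b, c, d])).mp (by simpa [List.ofFn_succ] using h)⟩
  exact sharp_eq_one hs u fun i => by fin_cases i <;> assumption

/-- **Jordan**: degrees of sharply 4-transitive groups. -/
theorem jordan_four (h4 : IsMultiplyPretransitive G α 4)
    (hs : ∀ x : Fin 4 ↪ α, stabilizer G x = ⊥) (hn : 4 ≤ Fintype.card α) :
    Fintype.card α = 4 ∨ Fintype.card α = 5 ∨ Fintype.card α = 6 ∨ Fintype.card α = 11 := by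
  classical
  obtain ⟨⟨w, hw⟩⟩ : Nonempty (Fin 4 ↪ α) :=
    Function.Embedding.nonempty_of_card_le (by simpa using hn)
  obtain ⟨a, ha⟩ : ∃ a, w 0 = a := ⟨_, rfl⟩
  obtain ⟨b, hb⟩ : ∃ b, w 1 = b := ⟨_, rfl⟩
  obtain ⟨c, hc⟩ : ∃ c, w 2 = c := ⟨_, rfl⟩
  obtain ⟨d, hd⟩ : ∃ d, w 3 = d := ⟨_, rfl⟩
  have hab : a ≠ b := ha ▸ hb ▸ fun e => absurd (hw e) (by decide)
  have hac : a ≠ c := ha ▸ hc ▸ fun e => absurd (hw e) (by decide)
  have had : a ≠ d := ha ▸ hd ▸ fun e => absurd (hw e) (by decide)
  have hbc : b ≠ c := hb ▸ hc ▸ fun e => absurd (hw e) (by decide)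
  have hbd : b ≠ d := hb ▸ hd ▸ fun e => absurd (hw e) (by decide)
  have hcd : c ≠ d := hc ▸ hd ▸ fun e => absurd (hw e) (by decide)
  have : FaithfulSMul G α := sharp_faithful hn hs
  -- the set of the other points, and the stabiliser of a, b
  let R := {t : α // t ≠ a ∧ t ≠ b}
  have hR : Nat.card R + 2 = Fintype.card α := by
    rw [Nat.card_eq_fintype_card]
    have h1 : Fintype.card R = (Finset.univ \ ({a, b} : Finset α)).card := by
      rw [Fintype.card_subtype]; congr 1; ext t; simp
    rw [h1, Finset.card_sdiff_of_subset (Finset.subset_univ _), Finset.card_pair hab,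
      Finset.card_univ]
    omega
  have hnd : ∀ {t u : α}, t ≠ a → t ≠ b → u ≠ a → u ≠ b → t ≠ u → [a, b, t, u].Nodup := by
    intro t u h1 h2 h3 h4 h5
    simp [hab, h1.symm, h2.symm, h3.symm, h4.symm, h5]
  let M := stabilizer G a ⊓ stabilizer G b
  have hMR : ∀ g ∈ M, ∀ t : α, t ≠ a → t ≠ b → g • t ≠ a ∧ g • t ≠ b := by
    intro g hg t h1 h2
    exact ⟨fun e => h1 ((MulAction.injective g) (e.trans hg.1.symm)),
      fun e => h2 ((MulAction.injective g) (e.trans hg.2.symm))⟩
  have hM2 : ∀ g ∈ M, ∀ t u : α, t ≠ a → t ≠ b → u ≠ a → u ≠ b → t ≠ u →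
      g • t = t → g • u = u → g = 1 := fun g hg t u h1 h2 h3 h4' h5 e1 e2 =>
    four_fix hs (hnd h1 h2 h3 h4' h5) hg.1 hg.2 e1 e2
  have hMtr : ∀ t u t' u' : R, t ≠ u → t' ≠ u' →
      ∃ g ∈ M, g • (t : α) = t' ∧ g • (u : α) = u' := by
    intro t u t' u' h h'
    obtain ⟨g, g1, g2, g3, g4⟩ := four_move h4
      (hnd t.2.1 t.2.2 u.2.1 u.2.2 (Subtype.coe_ne_coe.mpr h))
      (hnd t'.2.1 t'.2.2 u'.2.1 u'.2.2 (Subtype.coe_ne_coe.mpr h'))
    exact ⟨g, ⟨g1, g2⟩, g3, g4⟩
  -- derangements
  let D : G → Prop := fun g => g ∈ M ∧ ∀ t : α, t ≠ a → t ≠ b → g • t ≠ t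
  have hDconj : ∀ g ∈ M, ∀ u, D u → D (g * u * g⁻¹) := by
    intro g hg u hu
    refine ⟨M.mul_mem (M.mul_mem hg hu.1) (M.inv_mem hg), fun t h1 h2 e => ?_⟩
    obtain ⟨e1, e2⟩ := hMR g⁻¹ (M.inv_mem hg) t h1 h2
    apply hu.2 _ e1 e2
    rwa [mul_smul, mul_smul, ← eq_inv_smul_iff] at e
  have hDcomm : ∀ u, D u → ∀ g ∈ M, g * u = u * g → g = 1 ∨ D g := by
    intro u hu g hg hgu
    by_cases hg1 : g = 1
    · exact Or.inl hg1
    refine Or.inr ⟨hg, fun t h1 h2 e => hg1 ?_⟩
    obtain ⟨e1, e2⟩ := hMR u hu.1 t h1 h2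
    refine hM2 g hg t (u • t) h1 h2 e1 e2 (fun e' => hu.2 t h1 h2 e'.symm) e ?_
    rw [← mul_smul, hgu, mul_smul, e]
  let oc : R := ⟨c, hac.symm, hbc.symm⟩
  let od : R := ⟨d, had.symm, hbd.symm⟩
  have hocd : oc ≠ od := fun e => hcd (congrArg Subtype.val e)
  obtain ⟨q, hq⟩ : ∃ q, Nat.card R = q := ⟨_, rfl⟩
  have hq2 : 2 ≤ q := by omega
  -- |M| = q (q - 1)
  have hMcard : Nat.card M = q * (q - 1) := by
    have e : M ≃ {p : R × R // p.1 ≠ p.2} :=
      Equiv.ofBijective (fun g => ⟨(⟨(g : G) • c, hMR g g.2 c hac.symm hbc.symm⟩,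
          ⟨(g : G) • d, hMR g g.2 d had.symm hbd.symm⟩),
          fun e => hcd (MulAction.injective (g : G) (congrArg Subtype.val e))⟩) (by
        constructor
        · intro g g' h
          have h1 := congrArg (fun p => ((p.1.1 : R) : α)) h
          have h2 := congrArg (fun p => ((p.1.2 : R) : α)) h
          simp only at h1 h2
          have := hM2 ((g' : G)⁻¹ * g) (M.mul_mem (M.inv_mem g'.2) g.2) c d hac.symm hbc.symm
            had.symm hbd.symm hcd (by rw [mul_smul, h1, inv_smul_smul])
            (by rw [mul_smul, h2, inv_smul_smul])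
          exact Subtype.ext (inv_mul_eq_one.mp this).symm
        · rintro ⟨⟨t, u⟩, htu⟩
          obtain ⟨g, hg, g1, g2⟩ := hMtr oc od t u hocd htu
          exact ⟨⟨g, hg⟩, Subtype.ext (Prod.ext (Subtype.ext g1) (Subtype.ext g2))⟩)
    rw [Nat.card_congr e, Nat.card_eq_fintype_card, Fintype.card_subtype,
      show (Finset.univ.filter fun p : R × R => p.1 ≠ p.2) = (Finset.univ : Finset R).offDiag by
        ext p; simp,
      Finset.offDiag_card, Finset.card_univ, ← Nat.card_eq_fintype_card, hq, Nat.mul_sub, mul_one]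
  have hfin : Finite G := by
    have : Finite (Equiv.Perm α) := inferInstance
    exact Finite.of_injective _ (MulAction.toPerm_injective (α := G) (β := α))
  -- stabiliser of c in M
  let Mc := M ⊓ stabilizer G c
  have hMc : Nat.card Mc = q - 1 := by
    have e : Mc ≃ {t : R // t ≠ oc} :=
      Equiv.ofBijective (fun g => ⟨⟨(g : G) • d, hMR g g.2.1 d had.symm hbd.symm⟩, fun e => by
          have h1 : (g : G) • d = c := congrArg Subtype.val e
          exact hcd (MulAction.injective (g : G) ((g.2.2 : (g : G) • c = c).trans h1.symm))⟩) (by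
        constructor
        · intro g g' h
          have h2 := congrArg (fun p => ((p.1 : R) : α)) h
          simp only at h2
          have := hM2 ((g' : G)⁻¹ * g) (M.mul_mem (M.inv_mem g'.2.1) g.2.1) c d hac.symm hbc.symm
            had.symm hbd.symm hcd
            (by rw [mul_smul, (g.2.2 : (g : G) • c = c), inv_smul_eq_iff]; exact (g'.2.2).symm)
            (by rw [mul_smul, h2, inv_smul_smul])
          exact Subtype.ext (inv_mul_eq_one.mp this).symm
        · rintro ⟨t, ht⟩
          obtain ⟨g, hg, g1, g2⟩ := hMtr oc od oc t hocd ht.symm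
          exact ⟨⟨g, hg, g1⟩, Subtype.ext (Subtype.ext g2)⟩)
    rw [Nat.card_congr e, Nat.card_eq_fintype_card, Fintype.card_subtype_compl,
      Fintype.card_subtype_eq, ← Nat.card_eq_fintype_card, hq]
  -- a derangement of prime order
  obtain ⟨p, hp, hpq⟩ := Nat.exists_prime_and_dvd (show q ≠ 1 by omega)
  have : Fact p.Prime := ⟨hp⟩
  obtain ⟨u, hu⟩ := exists_prime_orderOf_dvd_card' (G := M) p (by rw [hMcard]; exact hpq.mul_right _)
  rw [← Subgroup.orderOf_coe] at hu
  have huD : D (u : G) := by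
    refine ⟨u.2, fun t h1 h2 e => ?_⟩
    -- move t to c
    obtain ⟨s, hs'⟩ : ∃ s : R, s ≠ ⟨t, h1, h2⟩ := by
      have : Nontrivial R := Finite.one_lt_card_iff_nontrivial.mp (by omega)
      exact exists_ne _
    obtain ⟨g, hg, g1, -⟩ := hMtr ⟨t, h1, h2⟩ s oc od hs'.symm hocd
    have hmem : g * (u : G) * g⁻¹ ∈ Mc := ⟨M.mul_mem (M.mul_mem hg u.2) (M.inv_mem hg), by
      show (g * (u : G) * g⁻¹) • c = c
      rw [mul_smul, mul_smul, show g⁻¹ • c = t from inv_smul_eq_iff.mpr g1.symm, e]
      exact g1⟩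
    have h3 := orderOf_dvd_natCard (⟨_, hmem⟩ : Mc)
    rw [hMc, ← Subgroup.orderOf_coe, Subtype.coe_mk] at h3
    have h4 : orderOf (g * (u : G) * g⁻¹) = p :=
      (MulEquiv.orderOf_eq (MulAut.conj g) (u : G)).trans hu
    rw [h4] at h3
    have : p ∣ 1 := by
      have := Nat.dvd_sub hpq h3
      rwa [show q - (q - 1) = 1 by omega] at this
    exact hp.one_lt.ne' (Nat.dvd_one.mp this)
  -- derangements are the conjugates of u
  let A := M ⊓ Subgroup.centralizer ({(u : G)} : Set G)
  have hAD : ∀ g ∈ A, g = 1 ∨ D g := fun g hg =>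
    hDcomm _ huD g hg.1 (Subgroup.mem_centralizer_singleton_iff.mp hg.2)
  have hDcard : Nat.card {g : M // D g} ≤ q - 1 := by
    have h1 : Nat.card {g : M // D g} + Nat.card {g : M // ¬ D g} = Nat.card M := by
      rw [← Nat.card_sum, Nat.card_congr (Equiv.sumCompl (fun g : M => D g))]
    -- non-derangements: the identity, or exactly one fixed point
    have h2 : 1 + q * (q - 2) ≤ Nat.card {g : M // ¬ D g} := by
      let f : Unit ⊕ (Σ t : R, {g : G // g ∈ M ∧ g • (t : α) = t ∧ g ≠ 1}) → {g : M // ¬ D g} :=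
        fun x => match x with
        | .inl _ => ⟨1, fun h => h.2 c hac.symm hbc.symm (one_smul _ _)⟩
        | .inr y => ⟨⟨y.2.1, y.2.2.1⟩, fun h => h.2 y.1 y.1.2.1 y.1.2.2 y.2.2.2.1⟩
      have hf : Function.Injective f := by
        rintro (⟨⟩ | ⟨t, g, hg, hgt, hg1⟩) (⟨⟩ | ⟨t', g', hg', hgt', hg1'⟩) h
        · rfl
        · exact absurd (congrArg (fun x => ((x.1 : M) : G)) h).symm hg1'
        · exact absurd (congrArg (fun x => ((x.1 : M) : G)) h) hg1
        · have e : g = g' := congrArg (fun x => ((x.1 : M) : G)) h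
          subst e
          by_cases htt : t = t'
          · subst htt; rfl
          · exact absurd (hM2 g hg t t' t.2.1 t.2.2 t'.2.1 t'.2.2 (Subtype.coe_ne_coe.mpr htt)
              hgt hgt') hg1
      have hcardσ : ∀ t : R, Nat.card {g : G // g ∈ M ∧ g • (t : α) = t ∧ g ≠ 1} = q - 2 := by
        intro t
        obtain ⟨s, hs'⟩ : ∃ s : R, s ≠ t := by
          have : Nontrivial R := Finite.one_lt_card_iff_nontrivial.mp (by omega)
          exact exists_ne _
        obtain ⟨g, hg, g1, -⟩ := hMtr t s oc od hs'.symm hocd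
        have e : {k : G // k ∈ M ∧ k • (t : α) = t ∧ k ≠ 1} ≃ {k : Mc // k ≠ 1} :=
          { toFun := fun k => ⟨⟨g * k.1 * g⁻¹, M.mul_mem (M.mul_mem hg k.2.1) (M.inv_mem hg), by
                show (g * (k.1 : G) * g⁻¹) • c = c
                rw [mul_smul, mul_smul, show g⁻¹ • c = (t : α) from inv_smul_eq_iff.mpr g1.symm,
                  k.2.2.1]
                exact g1⟩, fun e => k.2.2.2 (by
                  have e' : g * (k.1 : G) * g⁻¹ = 1 := congrArg Subtype.val e
                  rwa [conj_eq_one_iff] at e')⟩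
            invFun := fun k => ⟨g⁻¹ * k.1.1 * g, M.mul_mem (M.mul_mem (M.inv_mem hg) k.1.2.1) hg, by
                rw [mul_smul, mul_smul, g1, (k.1.2.2 : (k.1.1 : G) • c = c)]
                exact inv_smul_eq_iff.mpr g1.symm, fun e => k.2 (Subtype.ext (by
                  have e' : g⁻¹ * (k.1.1 : G) * g⁻¹⁻¹ = 1 := by rwa [inv_inv]
                  rwa [conj_eq_one_iff] at e'))⟩
            left_inv := fun k => Subtype.ext (by simp [mul_assoc])
            right_inv := fun k => Subtype.ext (Subtype.ext (by simp [mul_assoc])) }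
        have : Fintype Mc := Fintype.ofFinite _
        rw [Nat.card_congr e, Nat.card_eq_fintype_card, Fintype.card_subtype_compl,
          Fintype.card_subtype_eq, ← Nat.card_eq_fintype_card, hMc]
        omega
      calc 1 + q * (q - 2) = Nat.card (Unit ⊕ (Σ t : R,
              {g : G // g ∈ M ∧ g • (t : α) = t ∧ g ≠ 1})) := by
            rw [Nat.card_sum, Nat.card_sigma, Finset.sum_congr rfl fun t _ => hcardσ t,
              Finset.sum_const, Finset.card_univ, ← Nat.card_eq_fintype_card, hq, smul_eq_mul,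
              Nat.card_unique]
        _ ≤ _ := Nat.card_le_card_of_injective f hf
    have h3 : q * (q - 1) = q * (q - 2) + q := by
      rw [show q - 1 = q - 2 + 1 by omega, Nat.mul_add, mul_one]
    omega
  have hAcard : Nat.card A ≤ q ∧ (∀ g, D g → ∃ k ∈ M, k * (u : G) * k⁻¹ = g) ∧ q ≤ Nat.card A := by
    have hA : Nat.card A ≤ q := by
      have : Nat.card A ≤ Nat.card (Option {g : M // D g}) := by
        apply Nat.card_le_card_of_injective
          (fun g : A => if h : (g : G) = 1 then none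
            else some ⟨⟨g, g.2.1⟩, (hAD g g.2).resolve_left h⟩)
        intro g g' h
        simp only at h
        split_ifs at h with h1 h2
        · exact Subtype.ext (h1.trans h2.symm)
        · exact Subtype.ext (congrArg (fun x : {g : M // D g} => ((x.1 : M) : G)) (Option.some.inj h))
      rw [Finite.card_option] at this
      omega
    -- orbit of u
    have hind : Nat.card M = Nat.card {g : M // ∃ k ∈ M, k * (u : G) * k⁻¹ = (g : G)} * Nat.card A := by
      have e1 : Nat.card {g : M // ∃ k ∈ M, k * (u : G) * k⁻¹ = (g : G)} =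
          Nat.card (orbit (ConjAct M) u) := by
        refine Nat.card_congr (Equiv.subtypeEquivRight fun g => ?_)
        constructor
        · rintro ⟨k, hk, hkg⟩
          exact ⟨ConjAct.toConjAct ⟨k, hk⟩, Subtype.ext hkg⟩
        · rintro ⟨k, rfl⟩
          exact ⟨(ConjAct.ofConjAct k : M), (ConjAct.ofConjAct k).2, rfl⟩
      have e2 : Nat.card (stabilizer (ConjAct M) u) = Nat.card A := by
        refine Nat.card_congr
          { toFun := fun k => ⟨((ConjAct.ofConjAct k.1 : M) : G), (ConjAct.ofConjAct k.1).2, ?_⟩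
            invFun := fun k => ⟨ConjAct.toConjAct ⟨k.1, k.2.1⟩, ?_⟩
            left_inv := fun k => rfl
            right_inv := fun k => rfl }
        · refine Subgroup.mem_centralizer_singleton_iff.mpr ?_
          have h := congrArg Subtype.val (k.2 : k.1 • u = u)
          simp only [ConjAct.smul_def, Subgroup.coe_mul, InvMemClass.coe_inv] at h
          exact mul_inv_eq_iff_eq_mul.mp h
        · rw [mem_stabilizer_iff, ConjAct.smul_def]
          apply Subtype.ext
          simp only [ConjAct.ofConjAct_toConjAct, Subgroup.coe_mul, InvMemClass.coe_inv]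
          rw [mul_inv_eq_iff_eq_mul]
          exact Subgroup.mem_centralizer_singleton_iff.mp k.2.2
      rw [e1, ← e2, ← Nat.card_prod]
      exact Nat.card_congr (ConjAct.toConjAct.toEquiv.trans
        (orbitProdStabilizerEquivGroup (ConjAct M) u).symm)
    let incl : {g : M // ∃ k ∈ M, k * (u : G) * k⁻¹ = (g : G)} → {g : M // D g} := fun g =>
      ⟨g.1, by obtain ⟨k, hk, e⟩ := g.2; rw [← e]; exact hDconj k hk _ huD⟩
    have hincl : Function.Injective incl := fun g g' h => Subtype.ext (congrArg (fun x => x.1) h)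
    have hC := Nat.card_le_card_of_injective incl hincl
    have hAge : q ≤ Nat.card A := by
      by_contra hlt
      have h5 : Nat.card M ≤ (q - 1) * (q - 1) := by
        rw [hind]; exact Nat.mul_le_mul (hC.trans hDcard) (by omega)
      rw [hMcard] at h5
      have := Nat.le_of_mul_le_mul_right h5 (by omega)
      omega
    refine ⟨hA, fun g hg => ?_, hAge⟩
    have hCeq : q - 1 ≤ Nat.card {g : M // ∃ k ∈ M, k * (u : G) * k⁻¹ = (g : G)} := by
      have : Nat.card A = q := le_antisymm hA hAge
      rw [this, hMcard, mul_comm q] at hind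
      exact (Nat.eq_of_mul_eq_mul_right (by omega) hind).le
    have hb := hincl.bijective_of_nat_card_le (hDcard.trans hCeq)
    obtain ⟨g', hg'⟩ := hb.surjective ⟨⟨g, hg.1⟩, hg⟩
    obtain ⟨k, hk, e⟩ := g'.2
    exact ⟨k, hk, e.trans (congrArg (fun x : {g : M // D g} => ((x.1 : M) : G)) hg')⟩
  obtain ⟨hA1, hconjD, hA2⟩ := hAcard
  have hAq : Nat.card A = q := le_antisymm hA1 hA2
  have hDA : ∀ g, D g → g ∈ A := by
    intro g hg
    have hb : Function.Bijective (fun g : A => if h : (g : G) = 1 then none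
        else some (⟨⟨g, g.2.1⟩, (hAD g g.2).resolve_left h⟩ : {g : M // D g})) := by
      refine Function.Injective.bijective_of_nat_card_le ?_ ?_
      · intro g g' h
        simp only at h
        split_ifs at h with h1 h2
        · exact Subtype.ext (h1.trans h2.symm)
        · exact Subtype.ext (congrArg (fun x : {g : M // D g} => ((x.1 : M) : G)) (Option.some.inj h))
      · rw [Finite.card_option]; omega
    obtain ⟨g', hg'⟩ := hb.surjective (some ⟨⟨g, hg.1⟩, hg⟩)
    simp only at hg'
    split_ifs at hg' with h1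
    · have : (g' : G) = g := congrArg (fun x : {g : M // D g} => ((x.1 : M) : G)) (Option.some.inj hg')
      exact this ▸ g'.2
  -- A is abelian of exponent p
  have hAcomm : ∀ g ∈ A, ∀ g' ∈ A, g * g' = g' * g := by
    intro g hg g' hg'
    rcases hAD g hg with rfl | hD
    · simp
    obtain ⟨k, hk, rfl⟩ := hconjD g hD
    -- the conjugate centraliser consists of derangements
    rcases hAD g' hg' with rfl | hD'
    · simp
    have h1 := Subgroup.mem_centralizer_singleton_iff.mp
      (hDA _ (hDconj k⁻¹ (M.inv_mem hk) _ hD')).2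
    rw [inv_inv] at h1
    calc k * (u : G) * k⁻¹ * g' = k * ((u : G) * (k⁻¹ * g' * k)) * k⁻¹ := by group
      _ = k * ((k⁻¹ * g' * k) * (u : G)) * k⁻¹ := by rw [h1]
      _ = g' * (k * (u : G) * k⁻¹) := by group
  have hAp : ∀ g ∈ A, g ^ p = 1 := by
    intro g hg
    rcases hAD g hg with rfl | hD
    · exact one_pow _
    obtain ⟨k, hk, rfl⟩ := hconjD g hD
    rw [conj_pow, ← hu, pow_orderOf_eq_one]; simp
  have hAinj : ∀ g ∈ A, ∀ g' ∈ A, g • c = g' • c → g = g' := by
    intro g hg g' hg' e
    rcases hAD _ (A.mul_mem (A.inv_mem hg') hg) with h | h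
    · exact (inv_mul_eq_one.mp h).symm
    · exact absurd (by rw [mul_smul, e, inv_smul_smul]) (h.2 c hac.symm hbc.symm)
  have hAsurj : ∀ t : R, ∃ g ∈ A, g • c = t := by
    let φ : A → R := fun g => ⟨(g : G) • c, hMR g g.2.1 c hac.symm hbc.symm⟩
    have hφ : Function.Injective φ := fun g g' h =>
      Subtype.ext (hAinj g g.2 g' g'.2 (congrArg Subtype.val h))
    have hb := hφ.bijective_of_nat_card_le (by omega)
    intro t
    obtain ⟨g, hg⟩ := hb.surjective t
    exact ⟨g, g.2, congrArg Subtype.val hg⟩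
  -- involutions normalising M and fixing c
  have key : ∀ x : G, x * x = 1 → x ≠ 1 → x • c = c →
      (∀ g ∈ A, x * g * x ∈ A) → ∀ S : Finset G, (∀ g, g ∈ S ↔ g ∈ A ∧ x * g * x = g) →
      S.card ≤ 3 ∧ ∀ t : R, x • (t : α) = t → ∃ g ∈ S, g • c = t := by
    intro x hxx hx1 hxc hxA S hS
    refine ⟨?_, fun t ht => ?_⟩
    · by_contra hlt
      have hinj : Set.InjOn (fun g : G => g • c) S := fun g hg g' hg' e =>
        hAinj g ((hS g).mp hg).1 g' ((hS g').mp hg').1 e
      have h4S : 4 ≤ (S.image fun g => g • c).card := by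
        rw [Finset.card_image_of_injOn hinj]; omega
      obtain ⟨T, hT, hT4⟩ := Finset.exists_subset_card_eq h4S
      let v : Fin 4 ↪ α := (T.equivFinOfCardEq hT4).symm.toEmbedding.trans ⟨_, Subtype.val_injective⟩
      refine hx1 (sharp_eq_one hs v fun i => ?_)
      obtain ⟨g, hg, e⟩ := Finset.mem_image.mp (hT ((T.equivFinOfCardEq hT4).symm i).2)
      show x • (((T.equivFinOfCardEq hT4).symm i : T) : α) = (((T.equivFinOfCardEq hT4).symm i : T) : α)
      rw [← e]
      calc x • g • c = (x * g * x) • c := by rw [mul_smul, mul_smul, hxc]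
        _ = g • c := by rw [((hS g).mp hg).2]
    · obtain ⟨g, hg, hgt⟩ := hAsurj t
      refine ⟨g, (hS g).mpr ⟨hg, hAinj _ (hxA g hg) _ hg ?_⟩, hgt⟩
      rw [mul_smul, mul_smul, hxc, hgt, ht]
  -- the involution swapping a, b and fixing c, d
  obtain ⟨x, xa, xb, xc, xd⟩ := four_move h4 (hnd hac.symm hbc.symm had.symm hbd.symm hcd)
    (show [b, a, c, d].Nodup by simp [hab.symm, hac, hbc, had, hbd, hcd])
  have hxx : x * x = 1 := four_fix hs (hnd hac.symm hbc.symm had.symm hbd.symm hcd)
    (by rw [mul_smul, xa, xb]) (by rw [mul_smul, xb, xa]) (by rw [mul_smul, xc, xc])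
    (by rw [mul_smul, xd, xd])
  have hx1 : x ≠ 1 := fun e => hab (by rw [e, one_smul] at xa; exact xa)
  have hxM : ∀ g ∈ M, x * g * x ∈ M := by
    intro g hg
    constructor
    · show (x * g * x) • a = a
      rw [mul_smul, mul_smul, xa, (hg.2 : g • b = b), xb]
    · show (x * g * x) • b = b
      rw [mul_smul, mul_smul, xb, (hg.1 : g • a = a), xa]
  have : Fintype G := Fintype.ofFinite G
  have hxA : ∀ g ∈ A, x * g * x ∈ A := by
    intro g hg
    rcases hAD g hg with rfl | hD
    · simp [hxx, A.one_mem]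
    refine hDA _ ⟨hxM g hD.1, fun t h1 h2 e => ?_⟩
    have e1 : x • t ≠ a := fun e' => h2 (by rw [← xa, ← e', ← mul_smul, hxx, one_smul])
    have e2 : x • t ≠ b := fun e' => h1 (by rw [← xb, ← e', ← mul_smul, hxx, one_smul])
    apply hD.2 _ e1 e2
    rw [mul_smul, mul_smul] at e
    calc g • x • t = x • x • g • x • t := by rw [← mul_smul x x, hxx, one_smul]
      _ = x • t := by rw [e]
  let S : Finset G := Finset.univ.filter fun g => g ∈ A ∧ x * g * x = g
  have hS : ∀ g, g ∈ S ↔ g ∈ A ∧ x * g * x = g := fun g => by simp [S]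
  obtain ⟨hS3, hSfix⟩ := key x hxx hx1 xc hxA S hS
  have hxi : x⁻¹ = x := inv_eq_of_mul_eq_one_right hxx
  -- the fixed subgroup
  let C := A ⊓ Subgroup.centralizer ({x} : Set G)
  have hCiff : ∀ g, g ∈ C ↔ g ∈ A ∧ x * g * x = g := by
    intro g
    show g ∈ A ∧ g ∈ Subgroup.centralizer ({x} : Set G) ↔ _
    rw [Subgroup.mem_centralizer_singleton_iff]
    refine and_congr_right fun _ => ⟨fun h => ?_, fun h => ?_⟩
    · rw [mul_assoc, h, ← mul_assoc, hxx, one_mul]
    · nth_rewrite 1 [← h]
      rw [mul_assoc, hxx, mul_one]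
  have hCS : Nat.card C = S.card := by
    rw [Nat.subtype_card S]
    intro g; rw [hS]; exact (hCiff g).symm
  obtain ⟨gd, hgdS, hgd⟩ := hSfix od xd
  have hC2 : 2 ≤ Nat.card C := by
    rw [hCS]
    exact Finset.one_lt_card.mpr ⟨1, (hS 1).mpr ⟨A.one_mem, by rw [mul_one, hxx]⟩, gd, hgdS,
      fun e => hcd (by rw [← e, one_smul] at hgd; exact hgd)⟩
  have hpC : p ∣ Nat.card C := by
    obtain ⟨g, hg⟩ : ∃ g : C, g ≠ 1 := by
      have : Nontrivial C := Finite.one_lt_card_iff_nontrivial.mp hC2
      exact exists_ne _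
    have h1 : orderOf (g : G) = p := orderOf_eq_prime (hAp _ g.2.1) (fun e => hg (Subtype.ext e))
    rw [← h1, Subgroup.orderOf_coe]
    exact orderOf_dvd_natCard g
  have hqpow : ∃ f, q = p ^ f := by
    rw [← hAq]
    exact IsPGroup.iff_card.mp (fun g => ⟨1, Subtype.ext (by rw [pow_one]; exact hAp _ g.2)⟩)
  obtain ⟨f, hf⟩ := hqpow
  have hC3 : Nat.card C ≤ 3 := hCS ▸ hS3
  -- the map g ↦ g * (x g x)
  let φ : A →* A :=
    { toFun := fun g => ⟨(g : G) * (x * (g : G) * x), A.mul_mem g.2 (hxA g g.2)⟩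
      map_one' := Subtype.ext (by simp [hxx])
      map_mul' := fun g g' => Subtype.ext (by
        show (g : G) * (g' : G) * (x * ((g : G) * g') * x) = _
        have h1 := hAcomm (g' : G) g'.2 _ (hxA g g.2)
        calc (g : G) * (g' : G) * (x * ((g : G) * g') * x)
            = (g : G) * ((g' : G) * (x * g * x)) * (x * g' * x) := by
              simp only [mul_assoc]; rw [← mul_assoc x x, hxx, one_mul]
          _ = (g : G) * ((x * g * x) * (g' : G)) * (x * g' * x) := by rw [h1]
          _ = ((g : G) * (x * g * x)) * ((g' : G) * (x * g' * x)) := by simp only [mul_assoc]) }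
  have hprod : q = Nat.card φ.ker * Nat.card φ.range := by
    rw [← hAq, ← Subgroup.index_ker, Subgroup.card_mul_index]
  have hrange : Nat.card φ.range ≤ Nat.card C := by
    refine Nat.card_le_card_of_injective
      (fun g : φ.range => (⟨((g : A) : G), ?_⟩ : C))
      (fun g g' h => Subtype.ext (Subtype.ext (congrArg (fun y : C => (y : G)) h)))
    obtain ⟨k, hk⟩ := g.2
    rw [hCiff]
    refine ⟨(g : A).2, ?_⟩
    rw [← hk]
    show x * ((k : G) * (x * k * x)) * x = (k : G) * (x * k * x)
    calc x * ((k : G) * (x * k * x)) * x = (x * k * x) * k * (x * x) := by simp only [mul_assoc]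
      _ = (k : G) * (x * k * x) := by rw [hxx, mul_one, ← hAcomm _ k.2 _ (hxA k k.2)]
  rcases (show Nat.card C = 2 ∨ Nat.card C = 3 by omega) with hC | hC
  · -- p = 2
    obtain rfl : p = 2 := (Nat.prime_dvd_prime_iff_eq hp Nat.prime_two).mp (hC ▸ hpC)
    have hker : Nat.card φ.ker ≤ Nat.card C := by
      refine Nat.card_le_card_of_injective (fun g : φ.ker => (⟨((g : A) : G), ?_⟩ : C))
        (fun g g' h => Subtype.ext (Subtype.ext (congrArg (fun y : C => (y : G)) h)))
      rw [hCiff]
      refine ⟨(g : A).2, ?_⟩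
      have h1 : ((g : A) : G) * (x * ((g : A) : G) * x) = 1 := congrArg Subtype.val g.2
      have h2 := hAp _ (g : A).2
      rw [sq] at h2
      rw [← inv_eq_of_mul_eq_one_right h1, inv_eq_of_mul_eq_one_right h2]
    have : q ≤ 4 := by
      rw [hprod]; exact (Nat.mul_le_mul hker hrange).trans (by rw [hC])
    have hf2 : f ≤ 2 := by
      by_contra hf2
      have := Nat.pow_le_pow_right (show 0 < 2 by norm_num) (show 3 ≤ f by omega)
      omega
    interval_cases f <;> omega
  · -- p = 3
    obtain rfl : p = 3 := (Nat.prime_dvd_prime_iff_eq hp Nat.prime_three).mp (hC ▸ hpC)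
    -- an involution z in M fixing c
    have hf0 : f ≠ 0 := fun e => by rw [e, pow_zero] at hf; omega
    have : Fact (Nat.Prime 2) := ⟨Nat.prime_two⟩
    obtain ⟨z, hz⟩ := exists_prime_orderOf_dvd_card' (G := Mc) 2 (by
      rw [hMc, hf]
      have : Odd ((3 : ℕ) ^ f) := Odd.pow (by decide)
      obtain ⟨k, hk⟩ := this
      omega)
    rw [← Subgroup.orderOf_coe] at hz
    have hzz : (z : G) * z = 1 := by rw [← sq, ← hz]; exact pow_orderOf_eq_one _
    have hz1 : (z : G) ≠ 1 := fun e => by rw [e, orderOf_one] at hz; omega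
    have hzc : (z : G) • c = c := z.2.2
    have hinv : ∀ w : G, w ∈ Mc → w * w = 1 → w ≠ 1 → ∀ g ∈ A, w * g * w = g⁻¹ := by
      intro w hw hww hw1 g hg
      have hwA : w * g * w ∈ A := by
        rcases hAD g hg with rfl | hD
        · simp [hww, A.one_mem]
        · have h := hDconj w hw.1 g hD
          rw [inv_eq_of_mul_eq_one_right hww] at h
          exact hDA _ h
      have h1 : g * (w * g * w) ∈ A := A.mul_mem hg hwA
      have h2 : w * (g * (w * g * w)) = (g * (w * g * w)) * w := by
        calc w * (g * (w * g * w)) = w * ((w * g * w) * g) := by rw [hAcomm g hg _ hwA]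
          _ = g * w * g := by simp only [← mul_assoc]; rw [hww, one_mul]
          _ = g * (w * g * w) * w := by simp only [mul_assoc]; rw [hww, mul_one]
      rcases hAD _ h1 with h3 | h3
      · exact (inv_eq_of_mul_eq_one_right h3).symm
      · rcases hDcomm _ h3 w hw.1 h2 with h4 | h4
        · exact absurd h4 hw1
        · exact absurd (hw.2 : w • c = c) (h4.2 c hac.symm hbc.symm)
    -- x and z commute
    have hzx : x * z * x = (z : G) := by
      have hw : x * (z : G) * x ∈ Mc := ⟨hxM _ z.2.1, by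
        show (x * (z : G) * x) • c = c
        rw [mul_smul, mul_smul, xc, hzc, xc]⟩
      have hww : x * (z : G) * x * (x * z * x) = 1 := by
        simp only [mul_assoc]
        rw [← mul_assoc x x, hxx, one_mul, ← mul_assoc (z : G) z, hzz, one_mul, hxx]
      have hw1 : x * (z : G) * x ≠ 1 := fun e => hz1 (by
        calc (z : G) = x * (x * z * x) * x := by
              simp only [← mul_assoc]; rw [hxx, one_mul, mul_assoc, hxx, mul_one]
          _ = 1 := by rw [e, mul_one, hxx])
      have h1 := hinv _ hw hww hw1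
      have h2 := hinv _ z.2 hzz hz1
      have hv : (z : G) * (x * z * x) ∈ Mc := Mc.mul_mem z.2 hw
      have hmove : ∀ v g : G, v * v = 1 → v * g * v = g⁻¹ → v * g = g⁻¹ * v := by
        intro v g hvv h
        calc v * g = v * g * v * v := by rw [mul_assoc _ v v, hvv, mul_one]
          _ = g⁻¹ * v := by rw [h]
      have hcomm : ∀ g ∈ A, (z : G) * (x * z * x) * g = g * ((z : G) * (x * z * x)) := by
        intro g hg
        have e1 := hmove _ _ hww (h1 g hg)
        have e2 := hmove _ _ hzz (h2 g⁻¹ (A.inv_mem hg))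
        rw [inv_inv] at e2
        calc (z : G) * (x * z * x) * g = (z : G) * ((x * z * x) * g) := mul_assoc _ _ _
          _ = (z : G) * g⁻¹ * (x * z * x) := by rw [e1, ← mul_assoc]
          _ = g * ((z : G) * (x * z * x)) := by rw [e2, mul_assoc]
      rcases hDcomm _ huD _ hv.1 (hcomm _ ⟨u.2, Subgroup.mem_centralizer_singleton_iff.mpr rfl⟩) with h3 | h3
      · exact (inv_eq_of_mul_eq_one_right h3).symm.trans (inv_eq_of_mul_eq_one_right hzz)
      · exact absurd (hv.2 : ((z : G) * (x * z * x)) • c = c) (h3.2 c hac.symm hbc.symm)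
    let y := x * (z : G)
    have hzx' : (z : G) * x = x * z := by
      nth_rewrite 1 [← hzx]
      rw [mul_assoc, hxx, mul_one]
    have hyy : y * y = 1 := by
      show x * (z : G) * (x * z) = 1
      rw [mul_assoc, ← mul_assoc (z : G) x z, hzx', mul_assoc x, hzz, mul_one, hxx]
    have hy1 : y ≠ 1 := fun e => hab (by
      have : y • a = b := by
        show (x * (z : G)) • a = b
        rw [mul_smul, (z.2.1.1 : (z : G) • a = a), xa]
      rwa [e, one_smul] at this)
    have hyc : y • c = c := by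
      show (x * (z : G)) • c = c
      rw [mul_smul, hzc, xc]
    have hyg : ∀ g, y * g * y = x * ((z : G) * g * z) * x := by
      intro g
      show x * (z : G) * g * (x * z) = _
      calc x * (z : G) * g * (x * z) = x * z * g * (z * x) := by rw [hzx']
        _ = _ := by simp only [mul_assoc]
    have hyA : ∀ g ∈ A, y * g * y ∈ A := fun g hg => by
      rw [hyg, hinv _ z.2 hzz hz1 g hg]; exact hxA _ (A.inv_mem hg)
    let T : Finset G := Finset.univ.filter fun g => g ∈ A ∧ y * g * y = g
    have hT : ∀ g, g ∈ T ↔ g ∈ A ∧ y * g * y = g := fun g => by simp [T]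
    have hT3 := (key y hyy hy1 hyc hyA T hT).1
    have hker : Nat.card φ.ker ≤ T.card := by
      rw [← Nat.card_eq_finsetCard T]
      refine Nat.card_le_card_of_injective (fun g : φ.ker => (⟨((g : A) : G), ?_⟩ : T))
        (fun g g' h => Subtype.ext (Subtype.ext (congrArg (fun y : T => (y : G)) h)))
      rw [hT]
      refine ⟨(g : A).2, ?_⟩
      have h1 : ((g : A) : G) * (x * ((g : A) : G) * x) = 1 := congrArg Subtype.val g.2
      rw [hyg, hinv _ z.2 hzz hz1 _ (g : A).2,
        ← inv_inj, mul_inv_rev, mul_inv_rev, inv_inv, hxi, ← mul_assoc]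
      exact (inv_eq_of_mul_eq_one_right h1).symm
    have : q ≤ 9 := by
      rw [hprod]; exact (Nat.mul_le_mul hker hrange).trans
        ((Nat.mul_le_mul hT3 le_rfl).trans (by rw [hC]))
    have hf2 : f ≤ 2 := by
      by_contra hf2
      have := Nat.pow_le_pow_right (show 0 < 3 by norm_num) (show 3 ≤ f by omega)
      omega
    interval_cases f <;> omega

end four

end H91
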