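/- Sharply k-transitive groups for k ≥ 5. -/
import Cfsg.Agent.H91.Jordan

set_option autoImplicit false

namespace H91

open MulAction

universe u v

/-- The stabiliser step: a statement on degrees for `k` lifts to `k + 1`. -/
theorem sharp_descend {G : Type u} {α : Type v} [Group G] [MulAction G α] [Fintype α] {k : ℕ}
    (h : IsMultiplyPretransitive G α (k + 1)) (hs : ∀ x : Fin (k + 1) ↪ α, stabilizer G x = ⊥)
    (hk : k + 1 ≤ Fintype.card α) (a : α) [Fintype (SubMulAction.ofStabilizer G a)] :
    IsMultiplyPretransitive (stabilizer G a) (SubMulAction.ofStabilizer G a) k ∧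
      (∀ x : Fin k ↪ SubMulAction.ofStabilizer G a, stabilizer (stabilizer G a) x = ⊥) ∧
      Fintype.card (SubMulAction.ofStabilizer G a) + 1 = Fintype.card α := by
  have h1 : IsMultiplyPretransitive G α 1 :=
    isMultiplyPretransitive_of_le (n := k + 1) (by omega) (by rw [Nat.card_eq_fintype_card]; omega)
  have : IsPretransitive G α := is_one_pretransitive_iff.mp h1
  refine ⟨SubMulAction.ofStabilizer.isMultiplyPretransitive.mp h, fun x => sharp_stabilizer hs a x, ?_⟩
  have := SubMulAction.nat_card_ofStabilizer_eq (G := G) a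
  rw [Nat.card_eq_fintype_card, Nat.card_eq_fintype_card] at this
  omega

theorem jordan_five {G : Type u} {α : Type v} [Group G] [MulAction G α] [Fintype α]
    (h : IsMultiplyPretransitive G α 5) (hs : ∀ x : Fin 5 ↪ α, stabilizer G x = ⊥)
    (hn : 5 ≤ Fintype.card α) :
    Fintype.card α = 5 ∨ Fintype.card α = 6 ∨ Fintype.card α = 7 ∨ Fintype.card α = 12 := by
  classical
  obtain ⟨a⟩ : Nonempty α := Fintype.card_pos_iff.mp (by omega)
  obtain ⟨h', hs', hc⟩ := sharp_descend h hs hn a
  have := jordan_four h' hs' (by omega)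
  omega

/-- No sharply 6-transitive group on 13 points. -/
theorem no_sharp_six {G : Type u} {α : Type v} [Group G] [MulAction G α] [Fintype α]
    [IsMultiplyPretransitive G α 6] (hs : ∀ x : Fin 6 ↪ α, stabilizer G x = ⊥)
    (hn : Fintype.card α = 13) : False := by
  classical
  have hcard : Nat.card G = 1235520 := by
    rw [card_eq_descFactorial (by omega) hs, hn]; rfl
  have : FaithfulSMul G α := sharp_faithful (k := 6) (by omega) hs
  have hfin : Finite G := Nat.finite_of_card_ne_zero (by omega)
  have : Nonempty α := Fintype.card_pos_iff.mp (by omega)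
  have : Fact (Nat.Prime 13) := ⟨by norm_num⟩
  obtain ⟨P⟩ := (inferInstance : Nonempty (Sylow 13 G))
  have hP : Nat.card (P : Subgroup G) = 13 := by
    rw [P.card_eq_multiplicity, hcard]
    rw [show (1235520 : ℕ) = 95040 * 13 by norm_num, Nat.factorization_mul (by norm_num) (by norm_num),
      Finsupp.add_apply, Nat.factorization_eq_zero_of_not_dvd (by norm_num),
      Nat.Prime.factorization_self (by norm_num)]
    norm_num
  -- P is transitive
  have hPtr : IsPretransitive (P : Subgroup G) α := by
    obtain ⟨x, hx⟩ := exists_prime_orderOf_dvd_card' (G := (P : Subgroup G)) 13 (by rw [hP])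
    obtain ⟨a, ha⟩ : ∃ a : α, x • a ≠ a := by
      by_contra hno
      simp only [not_exists, not_ne_iff] at hno
      have : (x : G) = 1 := FaithfulSMul.eq_of_smul_eq_smul (α := α) fun a => by
        rw [one_smul]; exact hno a
      rw [show x = 1 from Subtype.ext this, orderOf_one] at hx; omega
    have horb : Nat.card (orbit (P : Subgroup G) a) ∣ 13 := by
      have h := Subgroup.index_dvd_card (stabilizer (P : Subgroup G) a)
      rw [index_stabilizer, hP] at h
      rwa [Nat.card_coe_set_eq]
    have h13 : Nat.card (orbit (P : Subgroup G) a) = 13 := by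
      refine ((Nat.dvd_prime (by norm_num)).mp horb).resolve_left fun h => ?_
      obtain ⟨z, -⟩ := Nat.card_eq_one_iff_unique.mp h
      exact ha (congrArg Subtype.val
        (@Subsingleton.elim _ z ⟨x • a, mem_orbit _ _⟩ ⟨a, mem_orbit_self a⟩))
    have htop : orbit (P : Subgroup G) a = Set.univ := by
      apply Set.eq_of_subset_of_ncard_le (Set.subset_univ _)
      rw [Set.ncard_univ, Nat.card_eq_fintype_card, hn, ← Nat.card_coe_set_eq, h13]
    exact ⟨fun s t => by
      obtain ⟨i, rfl⟩ := htop.ge (Set.mem_univ s)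
      obtain ⟨j, rfl⟩ := htop.ge (Set.mem_univ t)
      exact ⟨j * i⁻¹, by simp [mul_smul]⟩⟩
  have hC : Nat.card (Subgroup.centralizer ((P : Subgroup G) : Set G)) ≤ 13 := by
    obtain ⟨a⟩ := ‹Nonempty α›
    refine le_of_le_of_eq ?_ (Nat.card_eq_fintype_card.trans hn)
    refine Nat.card_le_card_of_injective
      (fun g : Subgroup.centralizer ((P : Subgroup G) : Set G) => (g : G) • a) fun g g' e => ?_
    apply Subtype.ext
    apply FaithfulSMul.eq_of_smul_eq_smul (α := α)
    intro b
    obtain ⟨i, rfl⟩ := exists_smul_eq (P : Subgroup G) a b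
    show (g : G) • ((i : G) • a) = (g' : G) • ((i : G) • a)
    rw [← mul_smul, ← mul_smul, ← Subgroup.mem_centralizer_iff.mp g.2 i i.2,
      ← Subgroup.mem_centralizer_iff.mp g'.2 i i.2, mul_smul, mul_smul]
    exact congrArg _ e
  have hcyc : IsCyclic (P : Subgroup G) := isCyclic_of_prime_card hP
  have hsub : (P : Subgroup G) ≤ Subgroup.centralizer ((P : Subgroup G) : Set G) := by
    let _ := IsCyclic.commGroup (α := (P : Subgroup G))
    intro x hx
    rw [Subgroup.mem_centralizer_iff]
    intro y hy
    exact congrArg Subtype.val (mul_comm (⟨y, hy⟩ : (P : Subgroup G)) ⟨x, hx⟩)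
  have hCeq : Subgroup.centralizer ((P : Subgroup G) : Set G) = P :=
    (Subgroup.eq_of_le_of_card_ge hsub (by rw [hP]; exact hC)).symm
  have h1 := Subgroup.card_dvd_of_injective _
    (QuotientGroup.kerLift_injective (P : Subgroup G).normalizerMonoidHom)
  rw [Subgroup.normalizerMonoidHom_ker, hcyc.card_mulAut, hP, Nat.totient_prime (by norm_num),
    ← Subgroup.index_eq_card, hCeq] at h1
  have h2 := Subgroup.card_mul_index ((P : Subgroup G).subgroupOf
    (Subgroup.normalizer ((P : Subgroup G) : Set G)))
  rw [Nat.card_congr (Subgroup.subgroupOfEquivOfLe (Subgroup.le_normalizer)).toEquiv, hP] at h2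
  have h3 := Subgroup.card_mul_index (Subgroup.normalizer ((P : Subgroup G) : Set G))
  have h4 := card_sylow_modEq_one 13 G
  rw [P.card_eq_index_normalizer] at h4
  rw [hcard, ← h2] at h3
  generalize ((P : Subgroup G).subgroupOf
    (Subgroup.normalizer ((P : Subgroup G) : Set G))).index = d at *
  generalize (Subgroup.normalizer ((P : Subgroup G) : Set G)).index = m at *
  have hd : d ≤ 12 := Nat.le_of_dvd (by norm_num) h1
  unfold Nat.ModEq at h4
  interval_cases d <;> omega

theorem jordan_k (k : ℕ) (hk : 6 ≤ k) : ∀ {G : Type u} {α : Type v} [Group G] [MulAction G α]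
    [Fintype α], IsMultiplyPretransitive G α k → (∀ x : Fin k ↪ α, stabilizer G x = ⊥) →
    k ≤ Fintype.card α →
    Fintype.card α = k ∨ Fintype.card α = k + 1 ∨ Fintype.card α = k + 2 := by
  induction k, hk using Nat.le_induction with
  | base =>
    intro G α _ _ _ h hs hn
    classical
    obtain ⟨a⟩ : Nonempty α := Fintype.card_pos_iff.mp (by omega)
    obtain ⟨h', hs', hc⟩ := sharp_descend h hs hn a
    have h5 := jordan_five h' hs' (by omega)
    have h13 : Fintype.card α ≠ 13 := fun e => no_sharp_six hs e
    omega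
  | succ k hk ih =>
    intro G α _ _ _ h hs hn
    classical
    obtain ⟨a⟩ : Nonempty α := Fintype.card_pos_iff.mp (by omega)
    obtain ⟨h', hs', hc⟩ := sharp_descend h hs hn a
    have := ih h' hs' (by omega)
    omega

end H91
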