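/- Kernel checks of the orbit certificates, and the tests used as class invariants. -/
import Cfsg.Agent.H91.M24OrbitData

set_option autoImplicit false

namespace H91.Orb

/-- All dodecad masks, in the order of their code index. -/
def dodList : List ℕ :=
  ((List.range 4096).map H94.fencode).filter fun m => Nat.beq (H94.fpopc m) 12

def octObjs : List (List ℕ) := H94.octList.map fun m => [m]
def dodObjs : List (List ℕ) := dodList.map fun m => [m]
def sextObjs : List (List ℕ) := H94.sextList.map (H94.parts 6)
def trioObjs : List (List ℕ) := H94.trioList.map (H94.parts 3)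

/-- Number of pairs of members with a given size of intersection. -/
def pairCnt (A B : List ℕ) (k : ℕ) : ℕ :=
  (A.product B).countP fun p => Nat.beq (H94.fpopc (Nat.land p.1 p.2)) k

/-- The invariant of a pair of families. -/
def famVal (A B : List ℕ) : ℕ := 100 * pairCnt A B 0 + pairCnt A B 2

/-- The invariant of a pair of words. -/
def wordVal (a : ℕ) (x : List ℕ) : ℕ := H94.fpopc (Nat.land a (x.headD 0))

def octBase : ℕ := 5279
def dodBase : ℕ := 8245261
def sextBase : List ℕ := [147496, 268544, 1082880, 2621632, 4268048, 8388615]
def trioBase : List ℕ := [4038912, 4346506, 8391797]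

theorem allGens_ok : gensB allGens [] = true := by decide +kernel
theorem octStab_ok : gensB octStab [octBase] = true := by decide +kernel
theorem dodStab_ok : gensB dodStab [dodBase] = true := by decide +kernel
theorem sextStab_ok : gensB sextStab sextBase = true := by decide +kernel
theorem trioStab_ok : gensB trioStab trioBase = true := by decide +kernel

theorem oct_cert : wordsB allGens octSeeds (fun _ => 0) octObjs octW = true := by decide +kernel
theorem dod_cert : wordsB allGens dodSeeds (fun _ => 0) dodObjs dodW = true := by decide +kernel
theorem sext_cert : wordsB allGens sextSeeds (fun _ => 0) sextObjs sextW = true := by decide +kernel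
theorem trio_cert : wordsB allGens trioSeeds (fun _ => 0) trioObjs trioW = true := by decide +kernel

theorem octSub_cert : wordsB octStab octSubSeeds (wordVal octBase) octObjs octSubW = true := by
  decide +kernel
theorem dodSub_cert : wordsB dodStab dodSubSeeds (wordVal dodBase) dodObjs dodSubW = true := by
  decide +kernel
theorem sextSub_cert : wordsB sextStab sextSubSeeds (famVal sextBase) sextObjs sextSubW = true := by
  decide +kernel
theorem trioSub_cert : wordsB trioStab trioSubSeeds (famVal trioBase) trioObjs trioSubW = true := by
  decide +kernel

theorem dodList_length : dodList.length = 2576 := by decide +kernel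

theorem dod_counts : (dodObjs.countP (fun x => Nat.beq (wordVal dodBase x) 4) = 495 ∧
    dodObjs.countP (fun x => Nat.beq (wordVal dodBase x) 6) = 1584 ∧
    dodObjs.countP (fun x => Nat.beq (wordVal dodBase x) 8) = 495) ∧
    dodObjs.all (fun x => [0, 4, 6, 8, 12].contains (wordVal dodBase x)) = true ∧
    dodObjs.countP (fun x => Nat.beq (wordVal dodBase x) 12) = 1 := by decide +kernel

theorem sext_counts : H94.sextList.length = 1771 ∧
    (sextObjs.countP (fun x => Nat.beq (famVal sextBase x) 2412) = 90 ∧
    sextObjs.countP (fun x => Nat.beq (famVal sextBase x) 1600) = 240 ∧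
    sextObjs.countP (fun x => Nat.beq (famVal sextBase x) 1604) = 1440 ∧
    sextObjs.countP (fun x => Nat.beq (famVal sextBase x) 3000) = 1) ∧
    sextObjs.all (fun x => [3000, 2412, 1600, 1604].contains (famVal sextBase x)) = true := by
  decide +kernel

theorem trio_counts : H94.trioList.length = 3795 ∧
    (trioObjs.countP (fun x => Nat.beq (famVal trioBase x) 400) = 42 ∧
    trioObjs.countP (fun x => Nat.beq (famVal trioBase x) 300) = 56 ∧
    trioObjs.countP (fun x => Nat.beq (famVal trioBase x) 104) = 1008 ∧
    trioObjs.countP (fun x => Nat.beq (famVal trioBase x) 6) = 2688 ∧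
    trioObjs.countP (fun x => Nat.beq (famVal trioBase x) 600) = 1) ∧
    trioObjs.all (fun x => [600, 400, 300, 104, 6].contains (famVal trioBase x)) = true := by
  decide +kernel

end H91.Orb
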