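/- Semantic form of the orbit certificates: conjugacy and counts on octads, dodecads, trios, sextets. -/
import Cfsg.Agent.H91.M24Certs
import Cfsg.Agent.H92.OctadBase

set_option autoImplicit false

namespace H91.Orb

open Cfsg
open scoped Pointwise

/-- The members of a list are exactly the objects. -/
structure Listing (Obj : Set (Finset (Finset GolayPt))) (objs : List (List ℕ)) : Prop where
  sound : ∀ x ∈ objs, H94.famList x ∈ Obj
  complete : ∀ A ∈ Obj, ∃ x ∈ objs, H94.famList x = A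
  small : ∀ x ∈ objs, x.Nodup ∧ ∀ m ∈ x, m < 2 ^ 24
  inj : ∀ x ∈ objs, ∀ y ∈ objs, H94.famList x = H94.famList y → x = y
  nodup : objs.Nodup

theorem Listing.ncard {Obj : Set (Finset (Finset GolayPt))} {objs : List (List ℕ)}
    (L : Listing Obj objs) (f : List ℕ → Bool) (P : Finset (Finset GolayPt) → Prop)
    (h : ∀ x ∈ objs, P (H94.famList x) ↔ f x = true) :
    {A | A ∈ Obj ∧ P A}.ncard = objs.countP f := by
  classical
  have hset : {A | A ∈ Obj ∧ P A} = ↑((objs.filter f).toFinset.image H94.famList) := by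
    ext A
    simp only [Set.mem_ofPred_eq, Finset.coe_image, List.coe_toFinset, Set.mem_image,
      List.mem_filter]
    constructor
    · rintro ⟨hA, hP⟩
      obtain ⟨x, hx, rfl⟩ := L.complete A hA
      exact ⟨x, ⟨hx, (h x hx).mp hP⟩, rfl⟩
    · rintro ⟨x, ⟨hx, hf⟩, rfl⟩
      exact ⟨L.sound x hx, (h x hx).mpr hf⟩
  rw [hset, Set.ncard_coe_finset, Finset.card_image_of_injOn,
    List.toFinset_card_of_nodup (L.nodup.filter _), List.countP_eq_length_filter]
  intro x hx y hy e
  simp only [Finset.mem_coe, List.mem_toFinset, List.mem_filter] at hx hy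
  exact L.inj x hx.1 y hy.1 e

theorem Listing.transitive {Obj : Set (Finset (Finset GolayPt))} {objs : List (List ℕ)}
    (L : Listing Obj objs) {gens : List GTab} {seeds : List (ℕ × List ℕ)} {W : List ℕ}
    (h : gensB gens [] = true) (hW : wordsB gens seeds (fun _ => 0) objs W = true)
    {A B : Finset (Finset GolayPt)} (hA : A ∈ Obj) (hB : B ∈ Obj) :
    ∃ g : Equiv.Perm GolayPt, g ∈ M24 ∧ g • A = B := by
  obtain ⟨x, hx, rfl⟩ := L.complete A hA
  obtain ⟨y, hy, rfl⟩ := L.complete B hB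
  obtain ⟨g, hg, -, e⟩ := conj_of_words h hW hx hy rfl
  exact ⟨g, hg, e⟩

/-- Counting pairs of members by intersection. -/
def pairNum (A B : Finset (Finset GolayPt)) (k : ℕ) : ℕ :=
  ((A ×ˢ B).filter fun p => (p.1 ∩ p.2).card = k).card

def famInv (A B : Finset (Finset GolayPt)) : ℕ := 100 * pairNum A B 0 + pairNum A B 2

theorem pairNum_smul (g : Equiv.Perm GolayPt) (A B : Finset (Finset GolayPt)) (k : ℕ) :
    pairNum (g • A) (g • B) k = pairNum A B k := by
  symm
  refine Finset.card_bij (fun p _ => (g • p.1, g • p.2)) ?_ ?_ ?_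
  · rintro ⟨a, b⟩ hp
    simp only [Finset.mem_filter, Finset.mem_product] at hp ⊢
    exact ⟨⟨Finset.smul_mem_smul_finset hp.1.1, Finset.smul_mem_smul_finset hp.1.2⟩,
      by rw [← Finset.smul_finset_inter, Finset.card_smul_finset]; exact hp.2⟩
  · rintro ⟨a, b⟩ _ ⟨c, d⟩ _ e
    exact Prod.ext (MulAction.injective g (congrArg Prod.fst e))
      (MulAction.injective g (congrArg Prod.snd e))
  · rintro ⟨a, b⟩ hp
    simp only [Finset.mem_filter, Finset.mem_product] at hp
    obtain ⟨a', ha', rfl⟩ := Finset.mem_smul_finset.mp hp.1.1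
    obtain ⟨b', hb', rfl⟩ := Finset.mem_smul_finset.mp hp.1.2
    refine ⟨(a', b'), ?_, rfl⟩
    simp only [Finset.mem_filter, Finset.mem_product]
    exact ⟨⟨ha', hb'⟩, by rw [← Finset.card_smul_finset g, Finset.smul_finset_inter]; exact hp.2⟩

theorem famInv_smul (g : Equiv.Perm GolayPt) (A B : Finset (Finset GolayPt)) :
    famInv (g • A) (g • B) = famInv A B := by
  simp [famInv, pairNum_smul]

theorem pairCnt_eq {a b : List ℕ} (ha : a.Nodup ∧ ∀ m ∈ a, m < 2 ^ 24)
    (hb : b.Nodup ∧ ∀ m ∈ b, m < 2 ^ 24) (k : ℕ) :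
    pairNum (H94.famList a) (H94.famList b) k = pairCnt a b k := by
  classical
  rw [pairNum, pairCnt, List.countP_eq_length_filter]
  show _ = (List.filter _ (a ×ˢ b)).length
  rw [← List.toFinset_card_of_nodup ((ha.1.product hb.1).filter _)]
  symm
  refine Finset.card_bij (fun p _ => (H90.setOf' p.1, H90.setOf' p.2)) ?_ ?_ ?_
  · rintro ⟨x, y⟩ hp
    simp only [List.mem_toFinset, List.mem_filter, List.mem_product] at hp
    simp only [Finset.mem_filter, Finset.mem_product]
    refine ⟨⟨H94.mem_famList.mpr ⟨x, hp.1.1, rfl⟩, H94.mem_famList.mpr ⟨y, hp.1.2, rfl⟩⟩, ?_⟩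
    rw [H92.card_inter_setOf', ← H94.fpopc_eq]
    exact Nat.eq_of_beq_eq_true hp.2
  · rintro ⟨x, y⟩ hp ⟨x', y'⟩ hp' e
    simp only [List.mem_toFinset, List.mem_filter, List.mem_product] at hp hp'
    exact Prod.ext (H90.setOf'_injOn (ha.2 _ hp.1.1) (ha.2 _ hp'.1.1) (congrArg Prod.fst e))
      (H90.setOf'_injOn (hb.2 _ hp.1.2) (hb.2 _ hp'.1.2) (congrArg Prod.snd e))
  · rintro ⟨s, t⟩ hp
    simp only [Finset.mem_filter, Finset.mem_product] at hp
    obtain ⟨x, hx, rfl⟩ := H94.mem_famList.mp hp.1.1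
    obtain ⟨y, hy, rfl⟩ := H94.mem_famList.mp hp.1.2
    refine ⟨(x, y), ?_, rfl⟩
    simp only [List.mem_toFinset, List.mem_filter, List.mem_product]
    refine ⟨⟨hx, hy⟩, ?_⟩
    rw [← hp.2, H92.card_inter_setOf', ← H94.fpopc_eq]
    exact Nat.beq_refl _

theorem famVal_eq {a b : List ℕ} (ha : a.Nodup ∧ ∀ m ∈ a, m < 2 ^ 24)
    (hb : b.Nodup ∧ ∀ m ∈ b, m < 2 ^ 24) :
    famInv (H94.famList a) (H94.famList b) = famVal a b := by
  rw [famInv, famVal, pairCnt_eq ha hb, pairCnt_eq ha hb]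

theorem parts_small {n : ℕ} {L : List ℕ} {B : ℕ → Bool} (hB : ∀ x, B x = true → H94.canB n x = true)
    (h : L.all B = true) {x : ℕ} (hx : x ∈ L) :
    H94.canB n x = true ∧ (H94.parts n x).Nodup ∧ ∀ m ∈ H94.parts n x, m < 2 ^ 24 := by
  have hc := hB x (List.all_eq_true.mp h x hx)
  refine ⟨hc, ?_, H94.parts_lt n x⟩
  rw [H94.canB, Bool.and_eq_true] at hc
  exact H94.incrB_nodup hc.2

theorem sext_listing : Listing sextets sextObjs := by
  have hok := H94.sextList_ok
  rw [Bool.and_eq_true] at hok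
  have hcan : ∀ x ∈ H94.sextList, _ := fun x hx =>
    parts_small (n := 6) (B := H94.sextB)
      (fun x h => by simp only [H94.sextB, Bool.and_eq_true] at h; exact h.1.1) hok.1 hx
  constructor
  · intro x hx
    obtain ⟨k, hk, rfl⟩ := List.mem_map.mp hx
    exact H94.sextList_mem_sextets hk
  · intro A hA
    obtain ⟨k, hk, e⟩ := H94.mem_sextets_iff.mp hA
    exact ⟨_, List.mem_map.mpr ⟨k, hk, rfl⟩, e⟩
  · intro x hx
    obtain ⟨k, hk, rfl⟩ := List.mem_map.mp hx
    exact (hcan k hk).2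
  · intro x hx y hy e
    obtain ⟨k, hk, rfl⟩ := List.mem_map.mp hx
    obtain ⟨l, hl, rfl⟩ := List.mem_map.mp hy
    rw [H94.famOf_injOn (hcan k hk).1 (hcan l hl).1 e]
  · refine List.Nodup.map_on ?_ (H94.incrB_nodup hok.2)
    intro k hk l hl e
    exact H94.famOf_injOn (hcan k hk).1 (hcan l hl).1 (congrArg H94.famList e)

theorem trio_listing : Listing trios trioObjs := by
  have hok := H94.trioList_ok
  rw [Bool.and_eq_true] at hok
  have hcan : ∀ x ∈ H94.trioList, _ := fun x hx =>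
    parts_small (n := 3) (B := H94.trioB)
      (fun x h => by simp only [H94.trioB, Bool.and_eq_true] at h; exact h.1.1) hok.1 hx
  constructor
  · intro x hx
    obtain ⟨k, hk, rfl⟩ := List.mem_map.mp hx
    exact H94.mem_trios_iff.mpr ⟨k, hk, rfl⟩
  · intro A hA
    obtain ⟨k, hk, e⟩ := H94.mem_trios_iff.mp hA
    exact ⟨_, List.mem_map.mpr ⟨k, hk, rfl⟩, e⟩
  · intro x hx
    obtain ⟨k, hk, rfl⟩ := List.mem_map.mp hx
    exact (hcan k hk).2
  · intro x hx y hy e
    obtain ⟨k, hk, rfl⟩ := List.mem_map.mp hx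
    obtain ⟨l, hl, rfl⟩ := List.mem_map.mp hy
    rw [H94.famOf_injOn (hcan k hk).1 (hcan l hl).1 e]
  · refine List.Nodup.map_on ?_ (H94.incrB_nodup hok.2)
    intro k hk l hl e
    exact H94.famOf_injOn (hcan k hk).1 (hcan l hl).1 (congrArg H94.famList e)

theorem mem_dodList {m : ℕ} : m ∈ dodList ↔ ∃ n < 4096, H90.popc (H90.encode n) = 12 ∧ H90.encode n = m := by
  simp only [dodList, List.mem_filter, List.mem_map, List.mem_range, H94.fpopc_eq]
  constructor
  · rintro ⟨⟨n, hn, rfl⟩, h⟩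
    rw [H94.fencode_eq n hn] at h ⊢
    exact ⟨n, hn, Nat.eq_of_beq_eq_true h, rfl⟩
  · rintro ⟨n, hn, h, rfl⟩
    exact ⟨⟨n, hn, H94.fencode_eq n hn⟩, by rw [h]; rfl⟩

theorem dodList_nodup : dodList.Nodup := by
  refine List.Nodup.filter _ (List.Nodup.map_on ?_ List.nodup_range)
  intro a ha b hb e
  rw [List.mem_range] at ha hb
  rw [H94.fencode_eq a ha, H94.fencode_eq b hb] at e
  exact H90.encode_injOn ha hb e

/-- Dodecads as one-member families. -/
def dodFams : Set (Finset (Finset GolayPt)) := (fun d => ({d} : Finset (Finset GolayPt))) '' dodecads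

theorem dod_listing : Listing dodFams dodObjs := by
  have hlt : ∀ m ∈ dodList, m < 2 ^ 24 := fun m hm => by
    obtain ⟨n, hn, -, rfl⟩ := mem_dodList.mp hm
    exact H90.encode_lt hn
  constructor
  · intro x hx
    obtain ⟨m, hm, rfl⟩ := List.mem_map.mp hx
    obtain ⟨n, hn, h, rfl⟩ := mem_dodList.mp hm
    exact ⟨_, H90.mem_wordsOfWeight_iff.mpr ⟨n, hn, h, rfl⟩, (famList_single _).symm⟩
  · rintro A ⟨d, hd, rfl⟩
    obtain ⟨n, hn, h, rfl⟩ := H90.mem_wordsOfWeight_iff.mp hd
    exact ⟨_, List.mem_map.mpr ⟨_, mem_dodList.mpr ⟨n, hn, h, rfl⟩, rfl⟩, famList_single _⟩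
  · intro x hx
    obtain ⟨m, hm, rfl⟩ := List.mem_map.mp hx
    exact ⟨List.nodup_singleton m, fun a ha => by rw [List.mem_singleton.mp ha]; exact hlt m hm⟩
  · intro x hx y hy e
    obtain ⟨m, hm, rfl⟩ := List.mem_map.mp hx
    obtain ⟨m', hm', rfl⟩ := List.mem_map.mp hy
    rw [famList_single, famList_single, Finset.singleton_inj] at e
    rw [H90.setOf'_injOn (hlt m hm) (hlt m' hm') e]
  · exact List.Nodup.map (fun a b e => by simpa using e) dodList_nodup

/-- Octads as one-member families. -/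
def octFams : Set (Finset (Finset GolayPt)) := (fun d => ({d} : Finset (Finset GolayPt))) '' octads

theorem oct_listing : Listing octFams octObjs := by
  have hok := H94.octList_ok
  simp only [Bool.and_eq_true] at hok
  constructor
  · intro x hx
    obtain ⟨m, hm, rfl⟩ := List.mem_map.mp hx
    exact ⟨_, (H94.mem_octList_lt hm).2, (famList_single _).symm⟩
  · rintro A ⟨d, hd, rfl⟩
    obtain ⟨m, hm, rfl⟩ := H94.mem_octads_iff.mp hd
    exact ⟨_, List.mem_map.mpr ⟨m, hm, rfl⟩, famList_single _⟩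
  · intro x hx
    obtain ⟨m, hm, rfl⟩ := List.mem_map.mp hx
    exact ⟨List.nodup_singleton m,
      fun a ha => by rw [List.mem_singleton.mp ha]; exact (H94.mem_octList_lt hm).1⟩
  · intro x hx y hy e
    obtain ⟨m, hm, rfl⟩ := List.mem_map.mp hx
    obtain ⟨m', hm', rfl⟩ := List.mem_map.mp hy
    rw [famList_single, famList_single, Finset.singleton_inj] at e
    rw [H90.setOf'_injOn (H94.mem_octList_lt hm).1 (H94.mem_octList_lt hm').1 e]
  · exact List.Nodup.map (fun a b e => by simpa using e) (H94.incrB_nodup hok.1.2)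

theorem octads_transitive {o o' : Finset GolayPt} (h : o ∈ octads) (h' : o' ∈ octads) :
    ∃ g : Equiv.Perm GolayPt, g ∈ M24 ∧ g • o = o' := by
  obtain ⟨g, hg, e⟩ := oct_listing.transitive allGens_ok oct_cert ⟨o, h, rfl⟩ ⟨o', h', rfl⟩
  exact ⟨g, hg, by simpa [Finset.smul_finset_singleton] using e⟩

theorem dodecads_transitive {o o' : Finset GolayPt} (h : o ∈ dodecads) (h' : o' ∈ dodecads) :
    ∃ g : Equiv.Perm GolayPt, g ∈ M24 ∧ g • o = o' := by
  obtain ⟨g, hg, e⟩ := dod_listing.transitive allGens_ok dod_cert ⟨o, h, rfl⟩ ⟨o', h', rfl⟩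
  exact ⟨g, hg, by simpa [Finset.smul_finset_singleton] using e⟩

theorem sextets_transitive {S S' : Finset (Finset GolayPt)} (h : S ∈ sextets) (h' : S' ∈ sextets) :
    ∃ g : Equiv.Perm GolayPt, g ∈ M24 ∧ g • S = S' :=
  sext_listing.transitive allGens_ok sext_cert h h'

theorem trios_transitive {S S' : Finset (Finset GolayPt)} (h : S ∈ trios) (h' : S' ∈ trios) :
    ∃ g : Equiv.Perm GolayPt, g ∈ M24 ∧ g • S = S' :=
  trio_listing.transitive allGens_ok trio_cert h h'

theorem smul_dodecad {g : Equiv.Perm GolayPt} (hg : g ∈ M24) {d : Finset GolayPt} :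
    g • d ∈ dodecads ↔ d ∈ dodecads :=
  ⟨fun h => by
    have := H92.smul_mem_words (M24.inv_mem hg) h
    rwa [inv_smul_smul] at this, fun h => H92.smul_mem_words hg h⟩

theorem smul_octad {g : Equiv.Perm GolayPt} (hg : g ∈ M24) {d : Finset GolayPt} :
    g • d ∈ octads ↔ d ∈ octads :=
  ⟨fun h => by
    have := H92.smul_mem_words (M24.inv_mem hg) h
    rwa [inv_smul_smul] at this, fun h => H92.smul_mem_words hg h⟩

theorem smul_sextet {g : Equiv.Perm GolayPt} (hg : g ∈ M24) {S : Finset (Finset GolayPt)}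
    (hS : S ∈ sextets) : g • S ∈ sextets := by
  refine ⟨by rw [Finset.card_smul_finset]; exact hS.1, fun t ht => ?_, fun t ht u hu hne => ?_⟩
  · obtain ⟨t', ht', rfl⟩ := Finset.mem_smul_finset.mp ht
    rw [Finset.card_smul_finset]; exact hS.2.1 t' ht'
  · obtain ⟨t', ht', rfl⟩ := Finset.mem_smul_finset.mp ht
    obtain ⟨u', hu', rfl⟩ := Finset.mem_smul_finset.mp hu
    rw [← Finset.smul_finset_union, smul_octad hg]
    exact hS.2.2 t' ht' u' hu' (fun e => hne (by rw [e]))

theorem smul_trio {g : Equiv.Perm GolayPt} (hg : g ∈ M24) {S : Finset (Finset GolayPt)}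
    (hS : S ∈ trios) : g • S ∈ trios := by
  refine ⟨by rw [Finset.card_smul_finset]; exact hS.1, fun t ht => ?_, fun t ht u hu hne => ?_⟩
  · obtain ⟨t', ht', rfl⟩ := Finset.mem_smul_finset.mp ht
    rw [smul_octad hg]; exact hS.2.1 t' ht'
  · obtain ⟨t', ht', rfl⟩ := Finset.mem_smul_finset.mp ht
    obtain ⟨u', hu', rfl⟩ := Finset.mem_smul_finset.mp hu
    exact (Finset.disjoint_image (MulAction.injective g)).mpr (hS.2.2 t' ht' u' hu' (fun e => hne (by rw [e])))

/-- Suborbit data of a transitive `M24`-set of families relative to its base point. -/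
structure SubData (Obj : Set (Finset (Finset GolayPt))) (objs : List (List ℕ)) (base : List ℕ) :
    Prop where
  listing : Listing Obj objs
  base_mem : base ∈ objs
  stable : ∀ g : Equiv.Perm GolayPt, g ∈ M24 → ∀ A ∈ Obj, g • A ∈ Obj
  trans : ∀ A ∈ Obj, ∀ B ∈ Obj, ∃ g : Equiv.Perm GolayPt, g ∈ M24 ∧ g • A = B
  conj : ∀ x ∈ objs, ∀ y ∈ objs, famVal base x = famVal base y →
    Moves (H94.famList base) (H94.famList x) (H94.famList y)

variable {Obj : Set (Finset (Finset GolayPt))} {objs : List (List ℕ)} {base : List ℕ}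

theorem SubData.base_val (D : SubData Obj objs base) {x : List ℕ} (hx : x ∈ objs) :
    famInv (H94.famList base) (H94.famList x) = famVal base x :=
  famVal_eq (D.listing.small _ D.base_mem) (D.listing.small _ hx)

theorem SubData.conjugate (D : SubData Obj objs base) {S X Y : Finset (Finset GolayPt)}
    (hS : S ∈ Obj) (hX : X ∈ Obj) (hY : Y ∈ Obj) (h : famInv S X = famInv S Y) :
    ∃ g : Equiv.Perm GolayPt, g ∈ M24 ∧ g • S = S ∧ g • X = Y := by
  obtain ⟨k, hk, hkS⟩ := D.trans S hS _ (D.listing.sound _ D.base_mem)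
  obtain ⟨x, hx, ex⟩ := D.listing.complete _ (D.stable k hk X hX)
  obtain ⟨y, hy, ey⟩ := D.listing.complete _ (D.stable k hk Y hY)
  obtain ⟨g, hg, gS, gX⟩ := D.conj x hx y hy (by
    rw [← D.base_val hx, ← D.base_val hy, ex, ey, ← hkS, famInv_smul, famInv_smul, h])
  rw [ex, ey] at gX
  rw [← hkS] at gS
  refine ⟨k⁻¹ * g * k, M24.mul_mem (M24.mul_mem (M24.inv_mem hk) hg) hk, ?_, ?_⟩
  · rw [mul_smul, mul_smul, gS, inv_smul_smul]
  · rw [mul_smul, mul_smul, gX, inv_smul_smul]

theorem SubData.count (D : SubData Obj objs base) {S : Finset (Finset GolayPt)} (hS : S ∈ Obj)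
    (v : ℕ) : {X | X ∈ Obj ∧ famInv S X = v}.ncard =
      objs.countP (fun x => Nat.beq (famVal base x) v) := by
  obtain ⟨k, hk, hkS⟩ := D.trans S hS _ (D.listing.sound _ D.base_mem)
  rw [← D.listing.ncard (fun x => Nat.beq (famVal base x) v)
      (fun X => famInv (H94.famList base) X = v) (fun x hx => by
        rw [D.base_val hx]; exact ⟨fun h => by rw [h]; exact Nat.beq_refl v, Nat.eq_of_beq_eq_true⟩),
    ← Set.ncard_image_of_injective {X | X ∈ Obj ∧ famInv S X = v} (MulAction.injective k)]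
  congr 1
  ext X
  simp only [Set.mem_image, Set.mem_ofPred_eq]
  constructor
  · rintro ⟨Y, ⟨hY, e⟩, rfl⟩
    exact ⟨D.stable k hk Y hY, by rw [← hkS, famInv_smul, e]⟩
  · rintro ⟨hX, e⟩
    refine ⟨k⁻¹ • X, ⟨D.stable _ (M24.inv_mem hk) X hX, ?_⟩, smul_inv_smul k X⟩
    rw [← famInv_smul k, smul_inv_smul, hkS, e]

theorem SubData.vals (D : SubData Obj objs base) {V : List ℕ}
    (hV : objs.all (fun x => V.contains (famVal base x)) = true) {S X : Finset (Finset GolayPt)}
    (hS : S ∈ Obj) (hX : X ∈ Obj) : famInv S X ∈ V := by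
  obtain ⟨k, hk, hkS⟩ := D.trans S hS _ (D.listing.sound _ D.base_mem)
  obtain ⟨x, hx, ex⟩ := D.listing.complete _ (D.stable k hk X hX)
  rw [← famInv_smul k, hkS, ← ex, D.base_val hx]
  simpa using List.all_eq_true.mp hV x hx

theorem sextData : SubData sextets sextObjs sextBase :=
  ⟨sext_listing, by decide +kernel, fun _ hg _ h => smul_sextet hg h,
    fun _ h _ h' => sextets_transitive h h',
    fun _ hx _ hy e => conj_of_words sextStab_ok sextSub_cert hx hy e⟩

theorem trioData : SubData trios trioObjs trioBase :=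
  ⟨trio_listing, by decide +kernel, fun _ hg _ h => smul_trio hg h,
    fun _ h _ h' => trios_transitive h h',
    fun _ hx _ hy e => conj_of_words trioStab_ok trioSub_cert hx hy e⟩

theorem octads_conjugate {o x y : Finset GolayPt} (ho : o ∈ octads) (hx : x ∈ octads)
    (hy : y ∈ octads) (h : (o ∩ x).card = (o ∩ y).card) :
    ∃ g : Equiv.Perm GolayPt, g ∈ M24 ∧ g • o = o ∧ g • x = y := by
  have hb : octBase ∈ H94.octList := by decide +kernel
  obtain ⟨k, hk, hko⟩ := octads_transitive ho (H94.mem_octList_lt hb).2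
  obtain ⟨a, ha, hax⟩ := H94.mem_octads_iff.mp ((smul_octad hk).mpr hx)
  obtain ⟨c, hc, hcy⟩ := H94.mem_octads_iff.mp ((smul_octad hk).mpr hy)
  obtain ⟨g, hg, g1, g2⟩ := moves_single.mp (by
    have := conj_of_words octStab_ok octSub_cert (x := [a]) (y := [c])
      (List.mem_map.mpr ⟨a, ha, rfl⟩) (List.mem_map.mpr ⟨c, hc, rfl⟩) (by
      show H94.fpopc (Nat.land octBase a) = H94.fpopc (Nat.land octBase c)
      rw [H94.fpopc_eq, H94.fpopc_eq, show Nat.land octBase a = octBase &&& a from rfl,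
        show Nat.land octBase c = octBase &&& c from rfl, ← H92.card_inter_setOf',
        ← H92.card_inter_setOf', hax, hcy, ← hko, H92.card_inter_smul, H92.card_inter_smul, h])
    rwa [famList_single, famList_single, famList_single] at this)
  rw [hax, hcy] at g2
  rw [← hko] at g1
  refine ⟨k⁻¹ * g * k, M24.mul_mem (M24.mul_mem (M24.inv_mem hk) hg) hk, ?_, ?_⟩
  · rw [mul_smul, mul_smul, g1, inv_smul_smul]
  · rw [mul_smul, mul_smul, g2, inv_smul_smul]

theorem dodecads_conjugate {o x y : Finset GolayPt} (ho : o ∈ dodecads) (hx : x ∈ dodecads)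
    (hy : y ∈ dodecads) (h : (o ∩ x).card = (o ∩ y).card) :
    ∃ g : Equiv.Perm GolayPt, g ∈ M24 ∧ g • o = o ∧ g • x = y := by
  have hb : [dodBase] ∈ dodObjs := by decide +kernel
  have hb' : H90.setOf' dodBase ∈ dodecads := by
    obtain ⟨d, hd, e⟩ := dod_listing.sound _ hb
    simp only [famList_single, Finset.singleton_inj] at e
    rwa [← e]
  obtain ⟨k, hk, hko⟩ := dodecads_transitive ho hb'
  obtain ⟨p, hp, hax⟩ := dod_listing.complete {k • x} ⟨_, (smul_dodecad hk).mpr hx, rfl⟩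
  obtain ⟨q, hq, hcy⟩ := dod_listing.complete {k • y} ⟨_, (smul_dodecad hk).mpr hy, rfl⟩
  obtain ⟨a, ha, rfl⟩ := List.mem_map.mp hp
  obtain ⟨c, hc, rfl⟩ := List.mem_map.mp hq
  simp only [famList_single, Finset.singleton_inj] at hax hcy
  obtain ⟨g, hg, g1, g2⟩ := moves_single.mp (by
    have := conj_of_words dodStab_ok dodSub_cert hp hq (by
      show H94.fpopc (Nat.land dodBase a) = H94.fpopc (Nat.land dodBase c)
      rw [H94.fpopc_eq, H94.fpopc_eq, show Nat.land dodBase a = dodBase &&& a from rfl,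
        show Nat.land dodBase c = dodBase &&& c from rfl, ← H92.card_inter_setOf',
        ← H92.card_inter_setOf', hax, hcy, ← hko, H92.card_inter_smul, H92.card_inter_smul, h])
    rwa [famList_single, famList_single, famList_single] at this)
  rw [hax, hcy] at g2
  rw [← hko] at g1
  refine ⟨k⁻¹ * g * k, M24.mul_mem (M24.mul_mem (M24.inv_mem hk) hg) hk, ?_, ?_⟩
  · rw [mul_smul, mul_smul, g1, inv_smul_smul]
  · rw [mul_smul, mul_smul, g2, inv_smul_smul]

theorem dodecad_count {d : Finset GolayPt} (hd : d ∈ dodecads) (v : ℕ) :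
    {x : Finset GolayPt | x ∈ dodecads ∧ (d ∩ x).card = v}.ncard =
      dodObjs.countP (fun x => Nat.beq (wordVal dodBase x) v) := by
  have hb : [dodBase] ∈ dodObjs := by decide +kernel
  have hb' : H90.setOf' dodBase ∈ dodecads := by
    obtain ⟨d', hd', e⟩ := dod_listing.sound _ hb
    simp only [famList_single, Finset.singleton_inj] at e
    rwa [← e]
  obtain ⟨k, hk, hkd⟩ := dodecads_transitive hd hb'
  rw [← dod_listing.ncard (fun x => Nat.beq (wordVal dodBase x) v)
      (fun A => ∀ x ∈ A, (H90.setOf' dodBase ∩ x).card = v) (fun x hx => by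
        obtain ⟨m, -, rfl⟩ := List.mem_map.mp hx
        simp only [famList_single, Finset.mem_singleton, forall_eq, H92.card_inter_setOf']
        show _ ↔ Nat.beq (H94.fpopc (Nat.land dodBase m)) v = true
        rw [H94.fpopc_eq]
        exact ⟨fun h => by rw [show Nat.land dodBase m = dodBase &&& m from rfl, h]; exact Nat.beq_refl v,
          Nat.eq_of_beq_eq_true⟩),
    ← Set.ncard_image_of_injective {x : Finset GolayPt | x ∈ dodecads ∧ (d ∩ x).card = v}
      (f := fun x => ({k • x} : Finset (Finset GolayPt)))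
      (fun x y e => MulAction.injective k (Finset.singleton_inj.mp e))]
  congr 1
  ext A
  simp only [Set.mem_image, Set.mem_ofPred_eq, dodFams]
  constructor
  · rintro ⟨x, ⟨hx, e⟩, rfl⟩
    refine ⟨⟨k • x, (smul_dodecad hk).mpr hx, rfl⟩, ?_⟩
    simp only [Finset.mem_singleton, forall_eq, ← hkd, H92.card_inter_smul, e]
  · rintro ⟨⟨y, hy, rfl⟩, h⟩
    refine ⟨k⁻¹ • y, ⟨(smul_dodecad (M24.inv_mem hk)).mpr hy, ?_⟩, by rw [smul_inv_smul]⟩
    rw [← H92.card_inter_smul k, smul_inv_smul, hkd]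
    exact h y (Finset.mem_singleton_self y)

theorem dodecad_vals {d x : Finset GolayPt} (hd : d ∈ dodecads) (hx : x ∈ dodecads) :
    (d ∩ x).card ∈ [0, 4, 6, 8, 12] := by
  have hb : [dodBase] ∈ dodObjs := by decide +kernel
  have hb' : H90.setOf' dodBase ∈ dodecads := by
    obtain ⟨d', hd', e⟩ := dod_listing.sound _ hb
    simp only [famList_single, Finset.singleton_inj] at e
    rwa [← e]
  obtain ⟨k, hk, hkd⟩ := dodecads_transitive hd hb'
  obtain ⟨p, hp, hpx⟩ := dod_listing.complete {k • x} ⟨_, (smul_dodecad hk).mpr hx, rfl⟩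
  obtain ⟨a, -, rfl⟩ := List.mem_map.mp hp
  simp only [famList_single, Finset.singleton_inj] at hpx
  have h : (wordVal dodBase [a]) ∈ [0, 4, 6, 8, 12] :=
    List.mem_of_elem_eq_true (List.all_eq_true.mp dod_counts.2.1 [a] hp)
  rwa [wordVal, List.headD_cons, H94.fpopc_eq,
    show Nat.land dodBase a = dodBase &&& a from rfl, ← H92.card_inter_setOf', hpx, ← hkd,
    H92.card_inter_smul] at h

end H91.Orb
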