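/- Maximality of point stabilisers from suborbit sizes. -/
import Mathlib

set_option autoImplicit false

namespace H91

open MulAction
open scoped Pointwise

variable {G α : Type*} [Group G] [MulAction G α]

/-- If the stabiliser of `a` is transitive on each class of `cls`, and no union of classes
containing that of `a` other than the trivial ones has size dividing the degree, then the
stabiliser is maximal. -/
theorem isCoatom_stabilizer_of_classes [Finite α] [IsPretransitive G α] [Nontrivial α] (a : α)
    {ι : Type*} [DecidableEq ι] (cls : α → ι) (classes : Finset ι)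
    (hcls : ∀ x, cls x ∈ classes)
    (hsingle : ∀ x, cls x = cls a → x = a)
    (hconj : ∀ x y, cls x = cls y → ∃ g ∈ stabilizer G a, g • x = y)
    (hgood : ∀ I ∈ classes.powerset, cls a ∈ I →
      (∑ i ∈ I, Nat.card {x : α // cls x = i}) ∣ Nat.card α → I = {cls a} ∨ I = classes) :
    IsCoatom (stabilizer G a) := by
  classical
  rw [isCoatom_stabilizer_iff_preprimitive]
  refine IsPreprimitive.of_isTrivialBlock_base a fun {B} haB hB => ?_
  have : Fintype α := Fintype.ofFinite α
  have hstable : ∀ x y, cls x = cls y → x ∈ B → y ∈ B := by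
    intro x y h hx
    obtain ⟨g, hg, rfl⟩ := hconj x y h
    have : g • B = B := by
      rcases isBlock_iff_smul_eq_or_disjoint.mp hB g with h' | h'
      · exact h'
      · exact absurd haB (fun _ => Set.disjoint_left.mp h' ⟨a, haB, hg⟩ haB)
    rw [← this]
    exact Set.smul_mem_smul_set hx
  let I := classes.filter fun i => ∃ x ∈ B, cls x = i
  have hIB : ∀ x, x ∈ B ↔ cls x ∈ I := by
    intro x
    simp only [I, Finset.mem_filter]
    exact ⟨fun h => ⟨hcls x, x, h, rfl⟩, fun ⟨_, y, hy, e⟩ => hstable y x e hy⟩
  have hcard : B.ncard = ∑ i ∈ I, Nat.card {x : α // cls x = i} := by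
    have hB' : B = ↑(Finset.univ.filter fun x => cls x ∈ I) := by ext x; simp [hIB]
    rw [hB', Set.ncard_coe_finset,
      Finset.card_eq_sum_card_fiberwise (f := cls) (s := Finset.univ.filter fun x => cls x ∈ I) (t := I)
      (fun x hx => (Finset.mem_filter.mp hx).2)]
    refine Finset.sum_congr rfl fun i hi => ?_
    rw [Nat.card_eq_fintype_card, Fintype.card_subtype]
    congr 1
    ext x
    simp only [Finset.mem_filter, Finset.mem_univ, true_and]
    exact ⟨fun h => h.2, fun h => ⟨h ▸ hi, h⟩⟩
  rcases hgood I (Finset.mem_powerset.mpr (Finset.filter_subset _ _)) ((hIB a).mp haB)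
    (hcard ▸ hB.ncard_dvd_card ⟨a, haB⟩) with h | h
  · left
    intro x hx y hy
    rw [hIB, h, Finset.mem_singleton] at hx hy
    rw [hsingle x hx, hsingle y hy]
  · right
    exact Set.eq_univ_of_forall fun x => (hIB x).mpr (h.symm ▸ hcls x)

end H91
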