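/- Orbits and maximality for stabilisers in M24; images of small point sets. -/
import Cfsg.Agent.H91.M24Objects
import Cfsg.Agent.H91.Suborbits
import Cfsg.Agent.H90.Group

set_option autoImplicit false

namespace H91.Orb

open Cfsg
open scoped Pointwise

variable {Obj : Set (Finset (Finset GolayPt))} {objs : List (List ℕ)} {base : List ℕ}

theorem SubData.orbit_eq (D : SubData Obj objs base) {S X : Finset (Finset GolayPt)} (hS : S ∈ Obj)
    (hX : X ∈ Obj) : MulAction.orbit ↥(MulAction.stabilizer M24 S) X =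
      {Y | Y ∈ Obj ∧ famInv S Y = famInv S X} := by
  ext Y
  simp only [MulAction.mem_orbit_iff, Set.mem_ofPred_eq]
  constructor
  · rintro ⟨⟨g, hg⟩, rfl⟩
    have hgS : (g : Equiv.Perm GolayPt) • S = S := hg
    refine ⟨D.stable _ g.2 X hX, ?_⟩
    show famInv S ((g : Equiv.Perm GolayPt) • X) = _
    conv_lhs => rw [← hgS, famInv_smul]
  · rintro ⟨hY, e⟩
    obtain ⟨g, hg, gS, gX⟩ := D.conjugate hS hX hY e.symm
    exact ⟨⟨⟨g, hg⟩, gS⟩, gX⟩

theorem SubData.orbit_exists (D : SubData Obj objs base) {S : Finset (Finset GolayPt)} (hS : S ∈ Obj)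
    (v c : ℕ) (h : objs.countP (fun x => Nat.beq (famVal base x) v) = c) (hc : c ≠ 0) :
    ∃ X ∈ Obj, famInv S X = v ∧
      (MulAction.orbit ↥(MulAction.stabilizer M24 S) X).ncard = c ∧
      MulAction.orbit ↥(MulAction.stabilizer M24 S) X = {Y | Y ∈ Obj ∧ famInv S Y = v} := by
  have hn : {Y | Y ∈ Obj ∧ famInv S Y = v}.ncard = c := by rw [D.count hS v, h]
  obtain ⟨X, hX, hv⟩ := Set.nonempty_of_ncard_ne_zero (hn ▸ hc)
  exact ⟨X, hX, hv, by rw [D.orbit_eq hS hX, hv, hn], by rw [D.orbit_eq hS hX, hv]⟩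

theorem SubData.self_of_val (D : SubData Obj objs base) {v : ℕ}
    (h : objs.countP (fun x => Nat.beq (famVal base x) v) = 1) (hb : famVal base base = v)
    {S X : Finset (Finset GolayPt)} (hS : S ∈ Obj) (hX : X ∈ Obj) :
    famInv S X = v ↔ X = S := by
  have hself : famInv S S = v := by
    obtain ⟨k, hk, hkS⟩ := D.trans S hS _ (D.listing.sound _ D.base_mem)
    rw [← famInv_smul k, hkS, D.base_val D.base_mem, hb]
  refine ⟨fun e => ?_, fun e => e ▸ hself⟩
  obtain ⟨a, ha⟩ := Set.ncard_eq_one.mp ((D.count hS v).trans h)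
  have h1 : X ∈ {Y | Y ∈ Obj ∧ famInv S Y = v} := ⟨hX, e⟩
  have h2 : S ∈ {Y | Y ∈ Obj ∧ famInv S Y = v} := ⟨hS, hself⟩
  rw [ha, Set.mem_singleton_iff] at h1 h2
  rw [h1, h2]

theorem SubData.ncard_obj (D : SubData Obj objs base) : Obj.ncard = objs.length := by
  have := D.listing.ncard (fun _ => true) (fun _ => True) (fun _ _ => by simp)
  simpa using this

theorem SubData.coatom (D : SubData Obj objs base) {v₀ : ℕ} {V : Finset ℕ} {L : List ℕ}
    (hone : objs.countP (fun x => Nat.beq (famVal base x) v₀) = 1)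
    (hb : famVal base base = v₀) (hL : objs.all (fun x => L.contains (famVal base x)) = true)
    (hLV : L.toFinset = V) (hnt : 2 ≤ objs.length) (cnt : ℕ → ℕ)
    (hcnt : ∀ v ∈ V, objs.countP (fun x => Nat.beq (famVal base x) v) = cnt v)
    (hgood : ∀ I ∈ V.powerset, v₀ ∈ I → (∑ i ∈ I, cnt i) ∣ objs.length → I = {v₀} ∨ I = V)
    {S : Finset (Finset GolayPt)} (hS : S ∈ Obj) : IsCoatom (MulAction.stabilizer M24 S) := by
  classical
  have horb : MulAction.orbit M24 S = Obj := by
    ext X
    refine ⟨fun h => ?_, fun h => ?_⟩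
    · obtain ⟨g, rfl⟩ := h
      exact D.stable _ g.2 S hS
    · obtain ⟨g, hg, e⟩ := D.trans S hS X h
      exact ⟨⟨g, hg⟩, e⟩
  let a : MulAction.orbit M24 S := ⟨S, MulAction.mem_orbit_self S⟩
  have hst : MulAction.stabilizer M24 a = MulAction.stabilizer M24 S := by
    ext g
    simp only [MulAction.mem_stabilizer_iff, Subtype.ext_iff]
    rfl
  have hcard : Nat.card (MulAction.orbit M24 S) = objs.length := by
    rw [Nat.card_coe_set_eq, horb, D.ncard_obj]
  have : Nontrivial (MulAction.orbit M24 S) := Finite.one_lt_card_iff_nontrivial.mp (by omega)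
  rw [← hst]
  refine H91.isCoatom_stabilizer_of_classes a (fun X => famInv S X.1) V
    (fun X => by rw [← hLV, List.mem_toFinset]; exact D.vals hL hS (horb ▸ X.2))
    (fun X e => Subtype.ext ?_) (fun X Y e => ?_) ?_
  · have hs : famInv S S = v₀ := (D.self_of_val hone hb hS hS).mpr rfl
    exact (D.self_of_val hone hb hS (horb ▸ X.2)).mp (e.trans hs)
  · obtain ⟨g, hg, gS, gX⟩ := D.conjugate hS (horb ▸ X.2) (horb ▸ Y.2) e
    exact ⟨⟨g, hg⟩, Subtype.ext gS, Subtype.ext gX⟩
  · intro I hI haI hdvd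
    have hs : famInv S (a : Finset (Finset GolayPt)) = v₀ := (D.self_of_val hone hb hS hS).mpr rfl
    rw [hs] at haI ⊢
    refine hgood I hI haI ?_
    rw [hcard] at hdvd
    refine (Finset.sum_congr rfl fun v hv => ?_ : ∑ i ∈ I, cnt i = ∑ i ∈ I,
      Nat.card {X : MulAction.orbit M24 S // famInv S X.1 = i}) ▸ hdvd
    rw [← hcnt v (Finset.mem_powerset.mp hI hv), ← D.count hS v, ← Nat.card_coe_set_eq]
    exact Nat.card_congr
      { toFun := fun X => ⟨⟨X.1, by rw [horb]; exact X.2.1⟩, X.2.2⟩
        invFun := fun X => ⟨X.1.1, horb ▸ X.1.2, X.2⟩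
        left_inv := fun _ => rfl
        right_inv := fun _ => rfl }

/-- Ordered transitivity on at most five points. -/
theorem exists_map_list {a b : List GolayPt} (ha : a.Nodup) (hb : b.Nodup)
    (hlen : a.length = b.length) (h5 : a.length ≤ 5) :
    ∃ g : Equiv.Perm GolayPt, g ∈ M24 ∧ a.map g = b := by
  have h := H90.five_transitive
  have hk : MulAction.IsMultiplyPretransitive M24 GolayPt a.length :=
    MulAction.isMultiplyPretransitive_of_le (n := 5) h5 (by simp [GolayPt])
  obtain ⟨g, hg⟩ := hk.exists_smul_eq ⟨a.get, List.nodup_iff_injective_get.mp ha⟩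
    ⟨fun i => b.get (i.cast hlen),
      (List.nodup_iff_injective_get.mp hb).comp (Fin.cast_injective hlen)⟩
  refine ⟨g.1, g.2, List.ext_getElem (by simpa using hlen) fun i h1 h2 => ?_⟩
  rw [List.getElem_map]
  exact congrArg (fun f : Fin a.length ↪ GolayPt => f ⟨i, by simpa using h1⟩) hg

theorem smul_toFinset (g : Equiv.Perm GolayPt) (a : List GolayPt) :
    g • a.toFinset = (a.map g).toFinset := by
  ext x
  simp [Finset.mem_smul_finset]

/-- Two point sets of equal size at most five are conjugate. -/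
theorem exists_map_finset {s t : Finset GolayPt} (h : s.card = t.card) (h5 : s.card ≤ 5) :
    ∃ g : Equiv.Perm GolayPt, g ∈ M24 ∧ g • s = t := by
  obtain ⟨g, hg, e⟩ := exists_map_list s.nodup_toList t.nodup_toList
    (by simp [h]) (by simpa using h5)
  refine ⟨g, hg, ?_⟩
  conv_lhs => rw [← s.toList_toFinset]
  rw [smul_toFinset, e, Finset.toList_toFinset]

theorem ptList_nodup : ∀ k ≤ 5, ((List.range k).map H94.ptN).Nodup := by decide +kernel

/-- An octad and a subset of at most five of its points in normal position. -/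
theorem normal_subset {o s : Finset GolayPt} (ho : o ∈ octads) (hs : s ⊆ o) (h5 : s.card ≤ 5) :
    ∃ g : Equiv.Perm GolayPt, g ∈ M24 ∧ g • o = H90.setOf' H94.baseOctad ∧
      g • s = ((List.range s.card).map H94.ptN).toFinset := by
  obtain ⟨u, hsu, huo, hu5⟩ := Finset.exists_subsuperset_card_eq hs h5 (by rw [ho.2]; norm_num)
  have hnd : (s.toList ++ (u \ s).toList).Nodup :=
    List.nodup_append'.mpr ⟨s.nodup_toList, (u \ s).nodup_toList, by
      intro x hx hx'
      rw [Finset.mem_toList] at hx hx'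
      exact (Finset.mem_sdiff.mp hx').2 hx⟩
  have hlen : (s.toList ++ (u \ s).toList).length = 5 := by
    rw [List.length_append, Finset.length_toList, Finset.length_toList,
      Finset.card_sdiff_of_subset hsu, hu5]
    omega
  obtain ⟨g, hg, e⟩ := exists_map_list hnd (ptList_nodup 5 le_rfl) (by simp [hlen]) (by omega)
  rw [List.map_append] at e
  have e1 : s.toList.map g = (List.range s.card).map H94.ptN := by
    have := congrArg (List.take s.card) e
    rwa [List.take_left' (by simp), ← List.map_take, List.take_range, min_eq_left h5] at this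
  refine ⟨g, hg, H92.eq_baseOctad ((smul_octad hg).mpr ho) fun i hi => ?_, ?_⟩
  · have hmem : H94.ptN i ∈ (List.range 5).map H94.ptN :=
      List.mem_map.mpr ⟨i, List.mem_range.mpr hi, rfl⟩
    rw [← e, ← List.map_append, List.mem_map] at hmem
    obtain ⟨x, hx, hxi⟩ := hmem
    rw [← hxi, H92.mem_smul_apply]
    simp only [List.mem_append, Finset.mem_toList, Finset.mem_sdiff] at hx
    rcases hx with hx | hx
    · exact hs hx
    · exact huo hx.1
  · conv_lhs => rw [← s.toList_toFinset]
    rw [smul_toFinset, e1]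

end H91.Orb
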