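/- Orbits of stabilisers of two- and three-point sets. -/
import Cfsg.Agent.H91.M24Max
import Cfsg.Agent.H94.Steiner
import Cfsg.Agent.H94.Chain

set_option autoImplicit false

namespace H91.Orb

open Cfsg
open scoped Pointwise

/-- Six distinct points in normal position. -/
theorem normal_six {a : List GolayPt} {f : GolayPt} (hn : (a ++ [f]).Nodup) (h5 : a.length = 5) :
    ∃ g : Equiv.Perm GolayPt, g ∈ M24 ∧ a.map g = (List.range 5).map H94.ptN ∧
      ((∃ o ∈ octads, (a ++ [f]).toFinset ⊆ o) → g f = H94.ptN 7) ∧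
      ((¬ ∃ o ∈ octads, (a ++ [f]).toFinset ⊆ o) → g f = H94.ptN 5) := by
  obtain ⟨hna, -, hd⟩ := List.nodup_append'.mp hn
  obtain ⟨g, hg, e⟩ := exists_map_list hna (ptList_nodup 5 le_rfl) (by simp [h5]) (by omega)
  have hfa : f ∉ a := fun h => hd h (List.mem_singleton_self f)
  have hx5 : Nat.blt (H94.idxN (g f)) 5 = false := by
    by_contra hb
    simp only [Bool.not_eq_false] at hb
    have hlt : H94.idxN (g f) < 5 := Nat.le_of_ble_eq_true hb
    have hmem : g f ∈ a.map g := by
      rw [e]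
      exact List.mem_map.mpr ⟨_, List.mem_range.mpr hlt, H94.ptN_idxN _⟩
    obtain ⟨x, hx, hxf⟩ := List.mem_map.mp hmem
    exact hfa (g.injective hxf ▸ hx)
  have hO : H90.isCode H94.baseOctad = true ∧ H90.popc H94.baseOctad = 8 ∧
      H94.baseOctad < 2 ^ 24 ∧ H94.bitB H94.baseOctad 7 = true ∧
      H94.bitB H94.baseOctad 5 = false ∧
      ((List.range 5).all fun i => H94.bitB H94.baseOctad i) = true := by decide +kernel
  obtain ⟨hc, h8, hlt, h7, h5', hfirst⟩ := hO
  have hbase := H94.mem_golay_octad hlt hc h8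
  -- the sixth point lies in an octad with the others exactly when it lands in the base octad
  have hiff : (∃ o ∈ octads, (a ++ [f]).toFinset ⊆ o) ↔
      H94.bitB H94.baseOctad (H94.idxN (g f)) = true := by
    rw [H94.bitB_eq, ← H94.mem_setOf'_idxN]
    constructor
    · rintro ⟨o, ho, hsub⟩
      rw [← H92.eq_baseOctad ((smul_octad hg).mpr ho) (fun i hi => ?_), H92.mem_smul_apply]
      · exact hsub (by simp)
      · have hmem : H94.ptN i ∈ a.map g := by
          rw [e]; exact List.mem_map.mpr ⟨i, List.mem_range.mpr hi, rfl⟩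
        obtain ⟨x, hx, hxi⟩ := List.mem_map.mp hmem
        rw [← hxi, H92.mem_smul_apply]
        exact hsub (by simp [hx])
    · intro hgf
      refine ⟨g⁻¹ • H90.setOf' H94.baseOctad, (smul_octad (M24.inv_mem hg)).mpr hbase, ?_⟩
      intro p hp
      rw [H92.mem_inv_smul]
      simp only [List.mem_toFinset, List.mem_append, List.mem_singleton] at hp
      rcases hp with hp | rfl
      · have : g p ∈ a.map g := List.mem_map_of_mem hp
        rw [e, List.mem_map] at this
        obtain ⟨i, hi, hip⟩ := this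
        rw [← hip, H94.mem_setOf'_ptN (by rw [List.mem_range] at hi; omega), ← H94.bitB_eq]
        exact List.all_eq_true.mp hfirst i hi
      · exact hgf
  have key : ∀ x y, x < 24 → y < 24 → H94.bitB H94.baseOctad x = true → Nat.blt x 5 = false →
      H94.bitB H94.baseOctad y = false →
      ∃ k : Equiv.Perm GolayPt, k ∈ M24 ∧ ((List.range 5).map H94.ptN).map ⇑(k⁻¹) =
        (List.range 5).map H94.ptN ∧ k (H94.ptN 7) = H94.ptN x ∧ k (H94.ptN 5) = H94.ptN y := by
    intro x y hx hy hbx hb5 hby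
    have h1 := List.all_eq_true.mp H94.stab5_cover x (List.mem_range.mpr hx)
    simp only [hbx, hb5, Bool.not_true, Bool.false_or] at h1
    have h2 := List.all_eq_true.mp h1 y (List.mem_range.mpr hy)
    rw [hby, Bool.false_or, List.any_eq_true] at h2
    obtain ⟨t, ht, ht'⟩ := h2
    rw [Bool.and_eq_true] at ht'
    have hv := List.all_eq_true.mp H94.stab5_ok t ht
    rw [Bool.and_eq_true] at hv
    obtain ⟨k, hk, hR⟩ := H94.exists_perm_of_memB hv.1
    refine ⟨k, hk, ?_, H94.idxN_injective ?_, H94.idxN_injective ?_⟩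
    · rw [List.map_map]
      refine List.map_congr_left fun i hi => ?_
      rw [Function.comp_apply, Equiv.Perm.inv_def, Equiv.symm_apply_eq]
      apply H94.idxN_injective
      rw [List.mem_range] at hi
      rw [← hR i (by omega), Nat.eq_of_beq_eq_true
        (List.all_eq_true.mp hv.2 i (List.mem_range.mpr hi)), H94.idxN_ptN (by omega)]
    · rw [← hR 7 (by norm_num), Nat.eq_of_beq_eq_true ht'.1, H94.idxN_ptN hx]
    · rw [← hR 5 (by norm_num), Nat.eq_of_beq_eq_true ht'.2, H94.idxN_ptN hy]
  cases hb : H94.bitB H94.baseOctad (H94.idxN (g f)) with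
  | true =>
    obtain ⟨k, hk, hk5, hk7, -⟩ := key _ 5 (H94.idxN_lt _) (by norm_num) hb hx5 h5'
    refine ⟨k⁻¹ * g, M24.mul_mem (M24.inv_mem hk) hg, ?_, fun _ => ?_, fun h => ?_⟩
    · rw [Equiv.Perm.coe_mul, ← List.map_map, e, hk5]
    · rw [Equiv.Perm.mul_apply, Equiv.Perm.inv_def, Equiv.symm_apply_eq, hk7, H94.ptN_idxN]
    · exact absurd (hiff.mpr hb) h
  | false =>
    obtain ⟨k, hk, hk5, -, hky⟩ :=
      key 7 _ (by norm_num) (H94.idxN_lt _) h7 (by decide) hb
    refine ⟨k⁻¹ * g, M24.mul_mem (M24.inv_mem hk) hg, ?_, fun h => ?_, fun _ => ?_⟩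
    · rw [Equiv.Perm.coe_mul, ← List.map_map, e, hk5]
    · rw [hiff.mp h] at hb
      exact Bool.noConfusion hb
    · rw [Equiv.Perm.mul_apply, Equiv.Perm.inv_def, Equiv.symm_apply_eq, hky, H94.ptN_idxN]

/-- Conjugacy of six-point sequences. -/
theorem exists_map_six {l l' : List GolayPt} (hl : l.Nodup) (hl' : l'.Nodup) (h6 : l.length = 6)
    (h6' : l'.length = 6)
    (h : (∃ o ∈ octads, l.toFinset ⊆ o) ↔ (∃ o ∈ octads, l'.toFinset ⊆ o)) :
    ∃ g : Equiv.Perm GolayPt, g ∈ M24 ∧ l.map g = l' := by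
  rcases l.eq_nil_or_concat' with rfl | ⟨a, f, rfl⟩
  · simp at h6
  rcases l'.eq_nil_or_concat' with rfl | ⟨a', f', rfl⟩
  · simp at h6'
  obtain ⟨g, hg, e, et, ef⟩ := normal_six hl (by simpa using h6)
  obtain ⟨g', hg', e', et', ef'⟩ := normal_six hl' (by simpa using h6')
  have hf : g f = g' f' := by
    by_cases hc : ∃ o ∈ octads, (a ++ [f]).toFinset ⊆ o
    · rw [et hc, et' (h.mp hc)]
    · rw [ef hc, ef' (fun hc' => hc (h.mpr hc'))]
  refine ⟨g'⁻¹ * g, M24.mul_mem (M24.inv_mem hg') hg, ?_⟩
  have hid : ∀ l : List GolayPt, (l.map g').map ⇑(g'⁻¹) = l := by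
    intro l; simp [List.map_map, Function.comp_def]
  rw [Equiv.Perm.coe_mul, ← List.map_map, List.map_append, e, List.map_singleton, hf, ← e',
    ← List.map_singleton (f := ⇑g'), ← List.map_append, hid]

/-- A conjugating element for two sequences sends the matching part sets to each other. -/
theorem exists_conj_of_lists {s x y : Finset GolayPt} (hs : x.card = y.card)
    (hi : (s ∩ x).card = (s ∩ y).card) (hsmall : (s ∪ x).card ≤ 6)
    (hoct : (s ∪ x).card = 6 →
      ((∃ o ∈ octads, s ∪ x ⊆ o) ↔ (∃ o ∈ octads, s ∪ y ⊆ o))) :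
    ∃ g : Equiv.Perm GolayPt, g ∈ M24 ∧ g • s = s ∧ g • x = y := by
  let L : Finset GolayPt → List GolayPt := fun z =>
    (s ∩ z).toList ++ ((s \ z).toList ++ (z \ s).toList)
  have hnd : ∀ z, (L z).Nodup := by
    intro z
    simp only [L, List.nodup_append', Finset.nodup_toList, true_and, List.Disjoint,
      Finset.mem_toList, List.mem_append, Finset.mem_inter, Finset.mem_sdiff]
    refine ⟨fun p h1 h2 => h2.2 h1.1, fun p h1 h2 => ?_⟩
    rcases h2 with h2 | h2
    · exact h2.2 h1.2
    · exact h2.2 h1.1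
  have htf : ∀ z, (L z).toFinset = s ∪ z := by
    intro z; ext p
    simp only [L, List.mem_toFinset, List.mem_append, Finset.mem_toList, Finset.mem_inter,
      Finset.mem_sdiff, Finset.mem_union]
    tauto
  have hlen : ∀ z, (L z).length = (s ∪ z).card := fun z => by
    rw [← htf z, List.toFinset_card_of_nodup (hnd z)]
  have hu : (s ∪ x).card = (s ∪ y).card := by
    have h1 := Finset.card_union_add_card_inter s x
    have h2 := Finset.card_union_add_card_inter s y
    omega
  obtain ⟨g, hg, e⟩ : ∃ g : Equiv.Perm GolayPt, g ∈ M24 ∧ (L x).map g = L y := by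
    rcases Nat.lt_or_eq_of_le hsmall with h5 | h6
    · exact exists_map_list (hnd x) (hnd y) (by rw [hlen, hlen, hu]) (by rw [hlen]; omega)
    · exact exists_map_six (hnd x) (hnd y) (by rw [hlen, h6]) (by rw [hlen, ← hu, h6])
        (by rw [htf, htf]; exact hoct h6)
  simp only [L, List.map_append] at e
  have hc : ((s ∩ x).toList.map g).length = (s ∩ y).toList.length := by simp [hi]
  obtain ⟨e1, e2⟩ := List.append_inj e hc
  have hc2 : ((s \ x).toList.map g).length = (s \ y).toList.length := by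
    have h1 := Finset.card_inter_add_card_sdiff s x
    have h2 := Finset.card_inter_add_card_sdiff s y
    simp only [List.length_map, Finset.length_toList]
    omega
  obtain ⟨e2, e3⟩ := List.append_inj e2 hc2
  have key : ∀ A B : Finset GolayPt, A.toList.map g = B.toList → g • A = B := by
    intro A B h
    conv_lhs => rw [← A.toList_toFinset]
    rw [smul_toFinset, h, Finset.toList_toFinset]
  refine ⟨g, hg, ?_, ?_⟩
  · have hd : ∀ z : Finset GolayPt, s = (s ∩ z) ∪ (s \ z) := fun z => by
      rw [Finset.union_comm, Finset.sdiff_union_inter]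
    conv_lhs => rw [hd x]
    conv_rhs => rw [hd y]
    rw [Finset.smul_finset_union, key _ _ e1, key _ _ e2]
  · have hd : ∀ z : Finset GolayPt, z = (s ∩ z) ∪ (z \ s) := fun z => by
      rw [Finset.inter_comm, Finset.union_comm, Finset.sdiff_union_inter]
    conv_lhs => rw [hd x]
    conv_rhs => rw [hd y]
    rw [Finset.smul_finset_union, key _ _ e1, key _ _ e3]

/-- Number of `k`-subsets meeting a set in exactly `j` points. -/
theorem card_powerset_inter (s : Finset GolayPt) {j k : ℕ} (hjk : j ≤ k) :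
    ((Finset.univ.powersetCard k).filter fun x => (s ∩ x).card = j).card =
      s.card.choose j * (24 - s.card).choose (k - j) := by
  classical
  have hc : sᶜ.card = 24 - s.card := by
    rw [Finset.card_compl]
    congr 1
  rw [← hc, ← Finset.card_powersetCard, ← Finset.card_powersetCard, ← Finset.card_product]
  refine Finset.card_bij' (fun x _ => (s ∩ x, x \ s)) (fun p _ => p.1 ∪ p.2) ?_ ?_ ?_ ?_
  · intro x hx
    simp only [Finset.mem_filter, Finset.mem_powersetCard] at hx
    simp only [Finset.mem_product, Finset.mem_powersetCard]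
    refine ⟨⟨Finset.inter_subset_left, hx.2⟩, fun p hp => ?_, ?_⟩
    · simp only [Finset.mem_sdiff, Finset.mem_compl] at hp ⊢
      exact hp.2
    · have := Finset.card_inter_add_card_sdiff x s
      rw [Finset.inter_comm] at this
      omega
  · rintro ⟨a, b⟩ h
    simp only [Finset.mem_product, Finset.mem_powersetCard] at h
    simp only [Finset.mem_filter, Finset.mem_powersetCard]
    have hd : Disjoint a b := Finset.disjoint_left.mpr fun p hp hp' =>
      Finset.mem_compl.mp (h.2.1 hp') (h.1.1 hp)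
    refine ⟨⟨Finset.subset_univ _, by rw [Finset.card_union_of_disjoint hd]; omega⟩, ?_⟩
    rw [← h.1.2]
    congr 1
    ext p
    simp only [Finset.mem_inter, Finset.mem_union]
    exact ⟨fun h' => h'.2.elim id fun hb => absurd h'.1 (Finset.mem_compl.mp (h.2.1 hb)),
      fun h' => ⟨h.1.1 h', Or.inl h'⟩⟩
  · intro x _
    rw [Finset.inter_comm, Finset.union_comm, Finset.sdiff_union_inter]
  · rintro ⟨a, b⟩ h
    simp only [Finset.mem_product, Finset.mem_powersetCard] at h
    simp only [Prod.mk.injEq]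
    constructor
    · ext p
      simp only [Finset.mem_inter, Finset.mem_union]
      exact ⟨fun h' => h'.2.elim id fun hb => absurd h'.1 (Finset.mem_compl.mp (h.2.1 hb)),
        fun h' => ⟨h.1.1 h', Or.inl h'⟩⟩
    · ext p
      simp only [Finset.mem_sdiff, Finset.mem_union]
      exact ⟨fun h' => h'.1.resolve_left fun ha => h'.2 (h.1.1 ha),
        fun h' => ⟨Or.inr h', Finset.mem_compl.mp (h.2.1 h')⟩⟩

/-- Twenty-one octads through three points, each giving ten triads. -/
theorem card_octad_triads {T : Finset GolayPt} (hT : T.card = 3) :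
    {U : Finset GolayPt | U.card = 3 ∧ Disjoint T U ∧ ∃ o ∈ octads, T ∪ U ⊆ o}.ncard = 210 := by
  classical
  let F := (H94.blockSet octads).filter (T ⊆ ·)
  have hF : F.card = 21 := by
    have h := H94.steiner_lambda H90.octads_steiner T (by omega)
    have hu : Fintype.card GolayPt = 24 := rfl
    rw [hT, hu, show Nat.choose (8 - 3) (5 - 3) = 10 from rfl,
      show Nat.choose (24 - 3) (5 - 3) = 210 from rfl] at h
    show ((H94.blockSet octads).filter (T ⊆ ·)).card = 21
    omega
  have hset : {U : Finset GolayPt | U.card = 3 ∧ Disjoint T U ∧ ∃ o ∈ octads, T ∪ U ⊆ o} =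
      ↑(F.biUnion fun o => (o \ T).powersetCard 3) := by
    ext U
    simp only [Set.mem_ofPred_eq, Finset.coe_biUnion, Set.mem_iUnion, Finset.mem_coe, F,
      Finset.mem_filter, H94.mem_blockSet, Finset.mem_powersetCard, exists_prop]
    constructor
    · rintro ⟨hc, hd, o, ho, hsub⟩
      exact ⟨o, ⟨ho, Finset.union_subset_left hsub⟩, fun p hp => Finset.mem_sdiff.mpr
        ⟨hsub (Finset.mem_union_right _ hp), fun hp' => Finset.disjoint_left.mp hd hp' hp⟩, hc⟩
    · rintro ⟨o, ⟨ho, hTo⟩, hU, hc⟩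
      refine ⟨hc, Finset.disjoint_left.mpr fun p hp hp' => (Finset.mem_sdiff.mp (hU hp')).2 hp,
        o, ho, Finset.union_subset hTo (hU.trans Finset.sdiff_subset)⟩
  rw [hset, Set.ncard_coe_finset, Finset.card_biUnion]
  · have h10 : ∀ o ∈ F, ((o \ T).powersetCard 3).card = 10 := by
      intro o ho
      simp only [F, Finset.mem_filter, H94.mem_blockSet] at ho
      rw [Finset.card_powersetCard, Finset.card_sdiff_of_subset ho.2, ho.1.2, hT]
      rfl
    rw [Finset.sum_const_nat h10, hF]
  · intro o ho o' ho' hne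
    simp only [F, Finset.coe_filter, Set.mem_ofPred_eq, H94.mem_blockSet] at ho ho'
    rw [Function.onFun, Finset.disjoint_left]
    intro U hU hU'
    rw [Finset.mem_powersetCard] at hU hU'
    refine hne (H90.octad_eq_of_five_le_inter ho.1 ho'.1 (le_trans ?_ (Finset.card_le_card
      (s := T ∪ U) fun p hp => ?_)))
    · rw [Finset.card_union_of_disjoint, hT, hU.2]
      · norm_num
      · exact Finset.disjoint_left.mpr fun p hp hp' => (Finset.mem_sdiff.mp (hU.1 hp')).2 hp
    · rcases Finset.mem_union.mp hp with hp | hp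
      · exact Finset.mem_inter.mpr ⟨ho.2 hp, ho'.2 hp⟩
      · exact Finset.mem_inter.mpr
          ⟨(Finset.mem_sdiff.mp (hU.1 hp)).1, (Finset.mem_sdiff.mp (hU'.1 hp)).1⟩

theorem ncard_other_triads {T : Finset GolayPt} (hT : T.card = 3) :
    {U : Finset GolayPt | U.card = 3 ∧ Disjoint T U ∧ ¬ ∃ o ∈ octads, T ∪ U ⊆ o}.ncard = 1120 := by
  classical
  have hall : {U : Finset GolayPt | U.card = 3 ∧ Disjoint T U}.ncard = 1330 := by
    have h := card_powerset_inter T (Nat.zero_le 3)
    rw [hT] at h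
    refine Eq.trans ?_ (h.trans rfl)
    rw [← Set.ncard_coe_finset]
    congr 1
    ext U
    simp [Finset.disjoint_iff_inter_eq_empty]
  have hd : {U : Finset GolayPt | U.card = 3 ∧ Disjoint T U ∧ ¬ ∃ o ∈ octads, T ∪ U ⊆ o} =
      {U : Finset GolayPt | U.card = 3 ∧ Disjoint T U} \
        {U : Finset GolayPt | U.card = 3 ∧ Disjoint T U ∧ ∃ o ∈ octads, T ∪ U ⊆ o} := by
    ext U
    rw [Set.mem_sdiff]
    exact ⟨fun h => ⟨⟨h.1, h.2.1⟩, fun h' => h.2.2 h'.2.2⟩,
      fun h => ⟨h.1.1, h.1.2, fun h' => h.2 ⟨h.1.1, h.1.2, h'⟩⟩⟩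
  have hsub : {U : Finset GolayPt | U.card = 3 ∧ Disjoint T U ∧ ∃ o ∈ octads, T ∪ U ⊆ o} ⊆
      {U : Finset GolayPt | U.card = 3 ∧ Disjoint T U} := fun U hU => ⟨hU.1, hU.2.1⟩
  rw [hd, Set.ncard_sdiff hsub (Set.toFinite _), hall, card_octad_triads hT]

/-- Maximality for stabilisers of small point sets, given classes for the stabiliser's orbits. -/
theorem coatom_small {k : ℕ} (hk : k ≤ 5) (hk0 : 1 ≤ k) {s : Finset GolayPt} (hs : s.card = k)
    (cls : Finset GolayPt → ℕ) (V : Finset ℕ) (cnt : ℕ → ℕ)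
    (hV : ∀ x : Finset GolayPt, x.card = k → cls x ∈ V)
    (hsingle : ∀ x : Finset GolayPt, x.card = k → cls x = cls s → x = s)
    (hconj : ∀ x y : Finset GolayPt, x.card = k → y.card = k → cls x = cls y →
      ∃ g : Equiv.Perm GolayPt, g ∈ M24 ∧ g • s = s ∧ g • x = y)
    (hcnt : ∀ i ∈ V, {x : Finset GolayPt | x.card = k ∧ cls x = i}.ncard = cnt i)
    (hgood : ∀ I ∈ V.powerset, cls s ∈ I → (∑ i ∈ I, cnt i) ∣ (24 : ℕ).choose k →
      I = {cls s} ∨ I = V) :
    IsCoatom (MulAction.stabilizer M24 s) := by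
  classical
  have horb : MulAction.orbit M24 s = {x : Finset GolayPt | x.card = k} := by
    ext x
    refine ⟨?_, fun h => ?_⟩
    · rintro ⟨g, rfl⟩
      exact (Finset.card_smul_finset (g : Equiv.Perm GolayPt) s).trans hs
    · obtain ⟨g, hg, e⟩ := exists_map_finset (s := s) (t := x) (hs.trans h.symm) (by omega)
      exact ⟨⟨g, hg⟩, e⟩
  let a : MulAction.orbit M24 s := ⟨s, MulAction.mem_orbit_self s⟩
  have hst : MulAction.stabilizer M24 a = MulAction.stabilizer M24 s := by
    ext g
    simp only [MulAction.mem_stabilizer_iff, Subtype.ext_iff]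
    rfl
  have hcard : Nat.card (MulAction.orbit M24 s) = (24 : ℕ).choose k := by
    have hu : Fintype.card GolayPt = 24 := rfl
    rw [Nat.card_coe_set_eq, horb, show {x : Finset GolayPt | x.card = k} =
      ↑((Finset.univ : Finset GolayPt).powersetCard k) by ext x; simp, Set.ncard_coe_finset,
      Finset.card_powersetCard, Finset.card_univ, hu]
  have : Nontrivial (MulAction.orbit M24 s) := Finite.one_lt_card_iff_nontrivial.mp (by
    rw [hcard]
    interval_cases k <;> decide)
  have hm : ∀ x : MulAction.orbit M24 s, x.1.card = k := fun x => by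
    have h := x.2
    simp only [horb, Set.mem_ofPred_eq] at h
    exact h
  rw [← hst]
  refine H91.isCoatom_stabilizer_of_classes a (fun x => cls x.1) V (fun x => hV _ (hm x))
    (fun x e => Subtype.ext (hsingle _ (hm x) e)) (fun x y e => ?_) ?_
  · obtain ⟨g, hg, gs, gx⟩ := hconj _ _ (hm x) (hm y) e
    exact ⟨⟨g, hg⟩, Subtype.ext gs, Subtype.ext gx⟩
  · intro I hI haI hdvd
    refine hgood I hI haI ?_
    rw [hcard] at hdvd
    refine (Finset.sum_congr rfl fun v hv => ?_ : ∑ i ∈ I, cnt i = ∑ i ∈ I,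
      Nat.card {X : MulAction.orbit M24 s // cls X.1 = i}) ▸ hdvd
    rw [← hcnt v (Finset.mem_powerset.mp hI hv), ← Nat.card_coe_set_eq]
    exact Nat.card_congr
      { toFun := fun X => ⟨⟨X.1, by rw [horb]; exact X.2.1⟩, X.2.2⟩
        invFun := fun X => ⟨X.1.1, hm X.1, X.2⟩
        left_inv := fun _ => rfl
        right_inv := fun _ => rfl }

end H91.Orb
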