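/- The action of an octad stabiliser on the octad and on its complement. -/
import Cfsg.Agent.H91.SmallSets
import Cfsg.Agent.H92.OctadBase

set_option autoImplicit false

namespace H91.Oct

open Cfsg
open scoped Pointwise

abbrev inO (i : ℕ) : Bool := H94.bitB H94.baseOctad i

theorem cyc_ok : ((List.range 24).all fun x => (List.range 24).all fun y => (List.range 24).all fun z =>
    !inO x || !inO y || !inO z || Nat.blt x 5 || Nat.blt y 5 || Nat.blt z 5 ||
    Nat.beq x y || Nat.beq x z || Nat.beq y z ||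
    H94.stab5.any fun t => Nat.beq (H94.pap t x) y && Nat.beq (H94.pap t y) z &&
      Nat.beq (H94.pap t z) x) = true := by decide +kernel

theorem fix_ok : (H94.stab5.all fun t => (List.range 24).all fun x =>
    !inO x || Nat.blt x 5 || !Nat.beq (H94.pap t x) x ||
      (List.range 24).all fun y => !inO y || Nat.beq (H94.pap t y) y) = true := by decide +kernel

theorem out_ok : ((List.range 24).all fun y => inO y ||
    H94.stab5.any fun t => Nat.beq (H94.pap t 5) y &&
      (List.range 24).all fun x => !inO x || Nat.beq (H94.pap t x) x) = true := by decide +kernel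

theorem first_in : ((List.range 5).all inO && inO 7 && !inO 5) = true := by decide +kernel

theorem mem_base {p : GolayPt} :
    p ∈ H90.setOf' H94.baseOctad ↔ inO (H94.idxN p) = true := by
  rw [inO, H94.bitB_eq, H94.mem_setOf'_idxN]

theorem base_octad : H90.setOf' H94.baseOctad ∈ octads :=
  H94.mem_golay_octad (by decide +kernel) (by decide +kernel) (by decide +kernel)

theorem stab5_perm {t : ℕ} (ht : t ∈ H94.stab5) :
    ∃ g : Equiv.Perm GolayPt, g ∈ M24 ∧ H94.Reps t g ∧ ∀ i < 5, g (H94.ptN i) = H94.ptN i := by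
  have hv := List.all_eq_true.mp H94.stab5_ok t ht
  rw [Bool.and_eq_true] at hv
  obtain ⟨k, hk, hR⟩ := H94.exists_perm_of_memB hv.1
  refine ⟨k, hk, hR, fun i hi => H94.idxN_injective ?_⟩
  rw [← hR i (by omega), Nat.eq_of_beq_eq_true (List.all_eq_true.mp hv.2 i (List.mem_range.mpr hi)),
    H94.idxN_ptN (by omega)]

theorem reps_apply_iff {t : ℕ} {g : Equiv.Perm GolayPt} (h : H94.Reps t g) (p q : GolayPt) :
    g p = q ↔ H94.pap t (H94.idxN p) = H94.idxN q := by
  rw [h _ (H94.idxN_lt p), H94.ptN_idxN]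
  exact H94.idxN_injective.eq_iff.symm

/-- Only the identity fixes the base octad and a further point. -/
theorem eq_one_base {g : Equiv.Perm GolayPt} (hg : g ∈ M24)
    (hfix : ∀ p ∈ H90.setOf' H94.baseOctad, g p = p) (h5 : g (H94.ptN 5) = H94.ptN 5) : g = 1 := by
  refine H94.eq_one_of_fix_base hg fun i hi => ?_
  have hf := first_in
  simp only [Bool.and_eq_true] at hf
  have h0 : ∀ i < 24, inO i = true → g (H94.ptN i) = H94.ptN i := fun i hi h =>
    hfix _ (mem_base.mpr (by rw [H94.idxN_ptN hi]; exact h))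
  simp only [List.mem_cons, List.not_mem_nil, or_false] at hi
  rcases hi with rfl | rfl | rfl | rfl | rfl | rfl | rfl
  iterate 5 exact h0 _ (by norm_num) (List.all_eq_true.mp hf.1.1 _ (List.mem_range.mpr (by norm_num)))
  · exact h0 _ (by norm_num) hf.1.2
  · exact h5

theorem eq_one_of_fix_octad {o : Finset GolayPt} (ho : o ∈ octads) {p : GolayPt} (hp : p ∉ o)
    {g : Equiv.Perm GolayPt} (hg : g ∈ M24) (hfix : ∀ q ∈ o, g q = q) (hgp : g p = p) : g = 1 := by
  obtain ⟨k, hk, hko, hkp⟩ := H92.normal_out ho hp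
  have h := eq_one_base (g := k * g * k⁻¹) (M24.mul_mem (M24.mul_mem hk hg) (M24.inv_mem hk))
    (fun q hq => by
      rw [Equiv.Perm.mul_apply, Equiv.Perm.mul_apply, hfix _ ?_, Equiv.Perm.inv_def,
        Equiv.apply_symm_apply]
      rw [← hko, ← inv_inv k, H92.mem_inv_smul] at hq
      exact hq)
    (by rw [← hkp, Equiv.Perm.mul_apply, Equiv.Perm.mul_apply, Equiv.Perm.inv_def,
      Equiv.symm_apply_apply, hgp])
  exact conj_eq_one_iff.mp h

/-- The fixator of an octad is transitive outside it. -/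
theorem exists_fix_octad_map {o : Finset GolayPt} (ho : o ∈ octads) {p q : GolayPt} (hp : p ∉ o)
    (hq : q ∉ o) : ∃ g : Equiv.Perm GolayPt, g ∈ M24 ∧ (∀ x ∈ o, g x = x) ∧ g p = q := by
  obtain ⟨k, hk, hko, hkp⟩ := H92.normal_out ho hp
  have hy : inO (H94.idxN (k q)) = false := by
    by_contra hb
    simp only [Bool.not_eq_false] at hb
    have h := mem_base.mpr hb
    rw [← hko, H92.mem_smul_apply] at h
    exact hq h
  have h1 := List.all_eq_true.mp out_ok _ (List.mem_range.mpr (H94.idxN_lt (k q)))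
  rw [hy, Bool.false_or, List.any_eq_true] at h1
  obtain ⟨t, ht, htt⟩ := h1
  rw [Bool.and_eq_true] at htt
  obtain ⟨g, hg, hR, -⟩ := stab5_perm ht
  refine ⟨k⁻¹ * g * k, M24.mul_mem (M24.mul_mem (M24.inv_mem hk) hg) hk, fun x hx => ?_, ?_⟩
  · have hx' : inO (H94.idxN (k x)) = true := mem_base.mp (by rw [← hko, H92.mem_smul_apply]; exact hx)
    have h2 := List.all_eq_true.mp htt.2 _ (List.mem_range.mpr (H94.idxN_lt (k x)))
    rw [hx', Bool.not_true, Bool.false_or] at h2
    rw [Equiv.Perm.mul_apply, Equiv.Perm.mul_apply,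
      (reps_apply_iff hR _ _).mpr (Nat.eq_of_beq_eq_true h2), Equiv.Perm.inv_def,
      Equiv.symm_apply_apply]
  · rw [Equiv.Perm.mul_apply, Equiv.Perm.mul_apply, hkp, Equiv.Perm.inv_def, Equiv.symm_apply_eq]
    refine (reps_apply_iff hR _ _).mpr ?_
    rw [H94.idxN_ptN (by norm_num)]
    exact Nat.eq_of_beq_eq_true htt.1

/-- Five points of an octad in normal position. -/
theorem normal_five {o s : Finset GolayPt} (ho : o ∈ octads) (hs : s ⊆ o) (h5 : s.card = 5) :
    ∃ k : Equiv.Perm GolayPt, k ∈ M24 ∧ k • o = H90.setOf' H94.baseOctad ∧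
      (∀ p ∈ s, H94.idxN (k p) < 5) ∧
      ∀ p ∈ o, p ∉ s → inO (H94.idxN (k p)) = true ∧ Nat.blt (H94.idxN (k p)) 5 = false := by
  obtain ⟨k, hk, hko, hks⟩ := Orb.normal_subset ho hs h5.le
  rw [h5] at hks
  refine ⟨k, hk, hko, fun p hp => ?_, fun p hp hps => ⟨?_, ?_⟩⟩
  · have : k p ∈ k • s := (H92.mem_smul_apply k s p).mpr hp
    rw [hks, List.mem_toFinset, List.mem_map] at this
    obtain ⟨i, hi, e⟩ := this
    rw [← e, H94.idxN_ptN (by rw [List.mem_range] at hi; omega)]
    exact List.mem_range.mp hi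
  · exact mem_base.mp (by rw [← hko, H92.mem_smul_apply]; exact hp)
  · by_contra hb
    simp only [Bool.not_eq_false] at hb
    apply hps
    rw [← H92.mem_smul_apply k, hks, List.mem_toFinset, List.mem_map]
    exact ⟨_, List.mem_range.mpr (Nat.le_of_ble_eq_true hb), H94.ptN_idxN _⟩

/-- Three-cycles of an octad are induced. -/
theorem exists_three_cycle {o : Finset GolayPt} (ho : o ∈ octads) {a b c : GolayPt} (ha : a ∈ o)
    (hb : b ∈ o) (hc : c ∈ o) (hab : a ≠ b) (hac : a ≠ c) (hbc : b ≠ c) :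
    ∃ g : Equiv.Perm GolayPt, g ∈ M24 ∧ g • o = o ∧ g a = b ∧ g b = c ∧ g c = a ∧
      ∀ p ∈ o, p ≠ a → p ≠ b → p ≠ c → g p = p := by
  classical
  have hsub : ({a, b, c} : Finset GolayPt) ⊆ o := by
    intro x hx
    simp only [Finset.mem_insert, Finset.mem_singleton] at hx
    rcases hx with rfl | rfl | rfl <;> assumption
  have h3 : ({a, b, c} : Finset GolayPt).card = 3 := Finset.card_eq_three.mpr ⟨a, b, c, hab, hac, hbc, rfl⟩
  have hs : (o \ {a, b, c}).card = 5 := by rw [Finset.card_sdiff_of_subset hsub, h3, ho.2]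
  obtain ⟨k, hk, hko, hks, hkr⟩ := normal_five ho Finset.sdiff_subset hs
  obtain ⟨hxO, hx5⟩ := hkr a ha (by simp)
  obtain ⟨hyO, hy5⟩ := hkr b hb (by simp)
  obtain ⟨hzO, hz5⟩ := hkr c hc (by simp)
  have hne : ∀ p q : GolayPt, p ≠ q → Nat.beq (H94.idxN (k p)) (H94.idxN (k q)) = false := by
    intro p q h
    by_contra hb'
    simp only [Bool.not_eq_false] at hb'
    exact h (k.injective (H94.idxN_injective (Nat.eq_of_beq_eq_true hb')))
  have h1 := List.all_eq_true.mp (List.all_eq_true.mp (List.all_eq_true.mp cyc_ok _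
    (List.mem_range.mpr (H94.idxN_lt (k a)))) _ (List.mem_range.mpr (H94.idxN_lt (k b)))) _
    (List.mem_range.mpr (H94.idxN_lt (k c)))
  simp only [hxO, hyO, hzO, hx5, hy5, hz5, hne a b hab, hne a c hac, hne b c hbc, Bool.not_true,
    Bool.false_or, List.any_eq_true, Bool.and_eq_true] at h1
  obtain ⟨t, ht, ⟨txy, tyz⟩, tzx⟩ := h1
  obtain ⟨g, hg, hR, hg5⟩ := stab5_perm ht
  have hmap : ∀ p q : GolayPt, H94.pap t (H94.idxN (k p)) = H94.idxN (k q) →
      (k⁻¹ * g * k) p = q := by
    intro p q h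
    rw [Equiv.Perm.mul_apply, Equiv.Perm.mul_apply, (reps_apply_iff hR _ _).mpr h,
      Equiv.Perm.inv_def, Equiv.symm_apply_apply]
  have hgo : g • H90.setOf' H94.baseOctad = H90.setOf' H94.baseOctad := by
    refine H92.eq_baseOctad ((Orb.smul_octad hg).mpr base_octad) fun i hi => ?_
    rw [← hg5 i hi, H92.mem_smul_apply, mem_base, H94.idxN_ptN (by omega)]
    have hf := first_in
    simp only [Bool.and_eq_true] at hf
    exact List.all_eq_true.mp hf.1.1 i (List.mem_range.mpr hi)
  refine ⟨k⁻¹ * g * k, M24.mul_mem (M24.mul_mem (M24.inv_mem hk) hg) hk, ?_,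
    hmap a b (Nat.eq_of_beq_eq_true txy), hmap b c (Nat.eq_of_beq_eq_true tyz),
    hmap c a (Nat.eq_of_beq_eq_true tzx), fun p hp h1' h2' h3' => ?_⟩
  · rw [mul_smul, mul_smul, hko, hgo, ← hko, inv_smul_smul]
  · have hlt := hks p (Finset.mem_sdiff.mpr ⟨hp, by simp [h1', h2', h3']⟩)
    have := hg5 _ hlt
    rw [H94.ptN_idxN] at this
    rw [Equiv.Perm.mul_apply, Equiv.Perm.mul_apply, this, Equiv.Perm.inv_def,
      Equiv.symm_apply_apply]

/-- No element of an octad stabiliser moves exactly two points of the octad. -/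
theorem no_transposition {o : Finset GolayPt} (ho : o ∈ octads) {a b : GolayPt} (ha : a ∈ o)
    (hb : b ∈ o) (hab : a ≠ b) {g : Equiv.Perm GolayPt} (hg : g ∈ M24)
    (hfix : ∀ p ∈ o, p ≠ a → p ≠ b → g p = p) : g a ≠ b := by
  classical
  intro hgab
  have hsub : ({a, b} : Finset GolayPt) ⊆ o := by
    intro x hx
    simp only [Finset.mem_insert, Finset.mem_singleton] at hx
    rcases hx with rfl | rfl <;> assumption
  obtain ⟨c, hc⟩ : (o \ {a, b}).Nonempty := Finset.card_pos.mp (by
    rw [Finset.card_sdiff_of_subset hsub, Finset.card_pair hab, ho.2]; norm_num)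
  rw [Finset.mem_sdiff] at hc
  simp only [Finset.mem_insert, Finset.mem_singleton, not_or] at hc
  have hsub' : ({a, b, c} : Finset GolayPt) ⊆ o := by
    intro x hx
    simp only [Finset.mem_insert, Finset.mem_singleton] at hx
    rcases hx with rfl | rfl | rfl
    exacts [ha, hb, hc.1]
  have h3 : ({a, b, c} : Finset GolayPt).card = 3 :=
    Finset.card_eq_three.mpr ⟨a, b, c, hab, Ne.symm hc.2.1, Ne.symm hc.2.2, rfl⟩
  obtain ⟨k, hk, hko, hks, hkr⟩ := normal_five ho (Finset.sdiff_subset (t := {a, b, c}))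
    (by rw [Finset.card_sdiff_of_subset hsub', h3, ho.2])
  have hconj : ∀ p : GolayPt, (k * g * k⁻¹) (k p) = k (g p) := fun p => by
    simp [Equiv.Perm.mul_apply]
  have hfix5 : ∀ i < 5, (k * g * k⁻¹) (H94.ptN i) = H94.ptN i := by
    intro i hi
    have hmem : k⁻¹ (H94.ptN i) ∈ o := by
      rw [← H92.mem_smul_apply k, hko, Equiv.Perm.inv_def, Equiv.apply_symm_apply, mem_base,
        H94.idxN_ptN (by omega)]
      have hf := first_in
      simp only [Bool.and_eq_true] at hf
      exact List.all_eq_true.mp hf.1.1 i (List.mem_range.mpr hi)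
    have hne : ∀ p ∈ ({a, b, c} : Finset GolayPt), k⁻¹ (H94.ptN i) ≠ p := by
      intro p hp e
      have := (hkr p (hsub' hp) (by simp [hp])).2
      rw [← e, Equiv.Perm.inv_def, Equiv.apply_symm_apply, H94.idxN_ptN (by omega)] at this
      rw [show Nat.blt i 5 = true from Nat.ble_eq_true_of_le hi] at this
      exact Bool.noConfusion this
    rw [Equiv.Perm.mul_apply, Equiv.Perm.mul_apply, hfix _ hmem (hne a (by simp)) (hne b (by simp)),
      Equiv.Perm.inv_def, Equiv.apply_symm_apply]
  obtain ⟨t, ht, hR⟩ := H94.stab5_complete (M24.mul_mem (M24.mul_mem hk hg) (M24.inv_mem hk)) hfix5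
  have hgc : g c = c := hfix c hc.1 hc.2.1 hc.2.2
  obtain ⟨hzO, hz5⟩ := hkr c hc.1 (by simp)
  have h1 := List.all_eq_true.mp (List.all_eq_true.mp fix_ok t ht) _
    (List.mem_range.mpr (H94.idxN_lt (k c)))
  have htc : H94.pap t (H94.idxN (k c)) = H94.idxN (k c) :=
    (reps_apply_iff hR _ _).mp (by rw [hconj, hgc])
  rw [hzO, hz5, htc, show Nat.beq (H94.idxN (k c)) (H94.idxN (k c)) = true from Nat.beq_refl _]
    at h1
  simp only [Bool.not_true, Bool.false_or] at h1
  have h2 := List.all_eq_true.mp h1 _ (List.mem_range.mpr (H94.idxN_lt (k a)))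
  rw [(hkr a ha (by simp)).1, Bool.not_true, Bool.false_or] at h2
  have h3' := (reps_apply_iff hR _ _).mpr (Nat.eq_of_beq_eq_true h2)
  rw [hconj, hgab] at h3'
  exact hab (k.injective h3').symm

/-- The permutations of an octad induced by `M24`. -/
def induced (o : Finset GolayPt) : Subgroup (Equiv.Perm ↥o) where
  carrier := {e | ∃ g : Equiv.Perm GolayPt, g ∈ M24 ∧ g • o = o ∧ ∀ x : ↥o, g x = (e x : GolayPt)}
  mul_mem' := by
    rintro e f ⟨g, hg, ho, he⟩ ⟨h, hh, ho', hf⟩
    exact ⟨g * h, M24.mul_mem hg hh, by rw [mul_smul, ho', ho], fun x => by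
      rw [Equiv.Perm.mul_apply, hf, he, Equiv.Perm.mul_apply]⟩
  one_mem' := ⟨1, M24.one_mem, one_smul _ _, fun _ => rfl⟩
  inv_mem' := by
    rintro e ⟨g, hg, ho, he⟩
    refine ⟨g⁻¹, M24.inv_mem hg, by rw [inv_smul_eq_iff, ho], fun x => ?_⟩
    rw [Equiv.Perm.inv_def, Equiv.symm_apply_eq, he, Equiv.Perm.inv_def, Equiv.apply_symm_apply]

theorem induced_eq {o : Finset GolayPt} (ho : o ∈ octads) : induced o = alternatingGroup ↥o := by
  classical
  have hge : alternatingGroup ↥o ≤ induced o := by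
    rw [← Equiv.Perm.closure_three_cycles_eq_alternating, Subgroup.closure_le]
    intro σ hσ
    have h3 : σ ^ 3 = 1 := by rw [← hσ.orderOf]; exact pow_orderOf_eq_one σ
    obtain ⟨a, ha⟩ : σ.support.Nonempty := Finset.card_pos.mp (by rw [hσ.card_support]; norm_num)
    rw [Equiv.Perm.mem_support] at ha
    have h3a : σ (σ (σ a)) = a := by
      have := congrArg (fun τ : Equiv.Perm ↥o => τ a) h3
      simpa [pow_succ, Equiv.Perm.mul_apply] using this
    have hab : (a : GolayPt) ≠ σ a := fun h => ha (Subtype.ext h.symm)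
    have hbc : (σ a : GolayPt) ≠ σ (σ a) := fun h => ha (σ.injective (Subtype.ext h)).symm
    have hac : (a : GolayPt) ≠ σ (σ a) := fun h => by
      have h' : σ (σ a) = a := (Subtype.ext h).symm
      rw [h'] at h3a
      exact ha h3a
    obtain ⟨g, hg, hgo, g1, g2, g3, gfix⟩ :=
      exists_three_cycle ho a.2 (σ a).2 (σ (σ a)).2 hab hac hbc
    refine ⟨g, hg, hgo, fun x => ?_⟩
    by_cases e1 : x = a
    · subst e1; exact g1
    by_cases e2 : x = σ a
    · subst e2; exact g2
    by_cases e3 : x = σ (σ a)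
    · subst e3; rw [g3, h3a]
    · have hsup : σ.support = {a, σ a, σ (σ a)} := by
        refine (Finset.eq_of_subset_of_card_le ?_ ?_).symm
        · intro y hy
          simp only [Finset.mem_insert, Finset.mem_singleton] at hy
          rw [Equiv.Perm.mem_support]
          rcases hy with rfl | rfl | rfl
          · exact ha
          · exact fun h => ha (σ.injective h)
          · exact fun h => ha (σ.injective (σ.injective h))
        · rw [hσ.card_support, Finset.card_eq_three.mpr ⟨a, σ a, σ (σ a),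
            fun h => hab (congrArg Subtype.val h), fun h => hac (congrArg Subtype.val h),
            fun h => hbc (congrArg Subtype.val h), rfl⟩]
      have hx : σ x = x := Equiv.Perm.notMem_support.mp (by simp [hsup, e1, e2, e3])
      rw [hx]
      exact gfix x x.2 (fun h => e1 (Subtype.ext h)) (fun h => e2 (Subtype.ext h))
        (fun h => e3 (Subtype.ext h))
  refine le_antisymm (fun e he => ?_) hge
  by_contra hodd
  obtain ⟨a, b, hab⟩ : ∃ a b : ↥o, a ≠ b := by
    obtain ⟨a, ha, b, hb, h⟩ := Finset.one_lt_card.mp (show 1 < o.card by rw [ho.2]; norm_num)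
    exact ⟨⟨a, ha⟩, ⟨b, hb⟩, fun h' => h (congrArg Subtype.val h')⟩
  have hsign : Equiv.Perm.sign e = -1 := by
    rcases Int.units_eq_one_or (Equiv.Perm.sign e) with h | h
    · exact absurd (Equiv.Perm.mem_alternatingGroup.mpr h) hodd
    · exact h
  have heven : e⁻¹ * Equiv.swap a b ∈ alternatingGroup ↥o := by
    rw [Equiv.Perm.mem_alternatingGroup, map_mul, map_inv, hsign, Equiv.Perm.sign_swap hab]
    decide
  obtain ⟨g, hg, hgo, hgx⟩ : Equiv.swap a b ∈ induced o := by
    have := mul_mem he (hge heven)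
    rwa [mul_inv_cancel_left] at this
  refine no_transposition ho a.2 b.2 (fun h => hab (Subtype.ext h)) hg (fun p hp h1 h2 => ?_) ?_
  · rw [hgx ⟨p, hp⟩, Equiv.swap_apply_of_ne_of_ne (fun h => h1 (congrArg Subtype.val h))
      (fun h => h2 (congrArg Subtype.val h))]
  · rw [hgx a, Equiv.swap_apply_left]

end H91.Oct
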