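/- Automorphisms of the derived systems S(4,7,23) and S(3,6,22). -/
import Cfsg.Agent.H90.SteinerAut
import Cfsg.Agent.H95.M22Simple
import Cfsg.Agent.H91.OctadAction
import Cfsg.Agent.H91.SmallSets

set_option autoImplicit false
set_option maxRecDepth 4000

noncomputable section

namespace H91.Derived

open Cfsg Finset
open scoped Pointwise

abbrev Word : Type := GolayPt → ZMod 2

/-- the code is generated by masks allowed by `p` -/
def certB (p : ℕ → Bool) (cert : List (List ℕ)) : Bool :=
  Nat.beq cert.length 12 && (List.zip H90.rows cert).all fun rc =>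
    rc.2.all p && Nat.beq (rc.2.foldr Nat.xor 0) rc.1

theorem code_le {p : ℕ → Bool} {cert : List (List ℕ)} (hc : certB p cert = true)
    (D : Submodule (ZMod 2) Word) (hD : ∀ m, p m = true → H90.wordOf m ∈ D) : golayCode ≤ D := by
  intro w hw
  obtain ⟨n, -, rfl⟩ := H90.mem_golayCode_iff.mp hw
  refine H90.wordOf_xorSel_mem (C := D) H90.rows n fun r hr => ?_
  simp only [certB, Bool.and_eq_true, List.all_eq_true] at hc
  obtain ⟨i, hi, rfl⟩ := List.getElem_of_mem hr
  have hi' : i < cert.length := by
    rw [Nat.eq_of_beq_eq_true hc.1]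
    simpa [H90.rows] using hi
  have hz : (H90.rows[i], cert[i]) ∈ List.zip H90.rows cert := by
    rw [List.mem_iff_getElem]
    exact ⟨i, by simp [hi, hi'], by simp⟩
  have h := hc.2 _ hz
  have e := Nat.eq_of_beq_eq_true h.2
  simp only at e
  rw [← e]
  have key : ∀ l : List ℕ, (∀ m ∈ l, p m = true) → H90.wordOf (l.foldr Nat.xor 0) ∈ D := by
    intro l
    induction l with
    | nil => intro _; simp [H90.wordOf_zero]
    | cons a l ih =>
      intro hl
      rw [List.foldr_cons, show Nat.xor a (l.foldr Nat.xor 0) = a ^^^ l.foldr Nat.xor 0 from rfl,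
        H90.wordOf_xor]
      exact D.add_mem (hD a (hl a List.mem_cons_self))
        (ih fun m hm => hl m (List.mem_cons_of_mem _ hm))
  exact key _ h.1

def octBit (m : ℕ) : Bool := H94.octB m && H94.bitB m 23

def oct22 (m : ℕ) : Bool := octBit m && H94.bitB m 0

def zMask : ℕ := 13938692

def cert23 : List (List ℕ) := [[13062145], [13062145, 9347075], [13938692], [13062145, 11100169],
  [10170384], [11952160], [15515712], [13062145, 14254209], [9347075, 11731203],
  [13062145, 12325377], [11654144], [14919680]]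

def cert22 : List (List ℕ) := [[13062145], [13062145, 9347075], [13938692], [13062145, 11100169],
  [13062145, 8966165, 13938692], [13062145, 10846245, 13938692], [11100169, 9506893, 13938692],
  [13062145, 14254209], [9347075, 11731203], [13062145, 12325377],
  [13062145, 10630149, 13938692], [13062145, 15747077, 13938692]]

theorem cert23_ok : certB octBit cert23 = true := by decide +kernel

theorem cert22_ok : certB (fun m => oct22 m || Nat.beq m zMask) cert22 = true := by decide +kernel

theorem idx_special : H90.idx (none : GolayPt) = 23 ∧ H90.idx (some 0 : GolayPt) = 0 := by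
  decide +kernel

theorem none_mem_setOf' {m : ℕ} : (none : GolayPt) ∈ H90.setOf' m ↔ H94.bitB m 23 = true := by
  rw [H90.mem_setOf', idx_special.1, H94.bitB_eq]; rfl

theorem zero_mem_setOf' {m : ℕ} : (some 0 : GolayPt) ∈ H90.setOf' m ↔ H94.bitB m 0 = true := by
  rw [H90.mem_setOf', idx_special.2, H94.bitB_eq]; rfl

theorem word2_setOf' (m : ℕ) : H94.word2 (H90.setOf' m) = H90.wordOf m := by
  funext p
  simp [H94.word2, H90.wordOf, H90.mem_setOf']

theorem word2_mem {s : Finset GolayPt} :
    H94.word2 s ∈ golayCode ↔ s ∈ supports (golayCode : Set Word) := by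
  constructor
  · exact fun h => ⟨_, h, H94.sup2_word2 s⟩
  · rintro ⟨w, hw, rfl⟩
    rw [show H94.word2 (support₂ w) = w from H94.word2_sup2 w]
    exact hw

theorem word2_image (σ : Equiv.Perm GolayPt) (s : Finset GolayPt) :
    H94.word2 (s.image σ) = LinearMap.funLeft (ZMod 2) (ZMod 2) σ.symm (H94.word2 s) := by
  funext p
  have : p ∈ s.image σ ↔ σ.symm p ∈ s := by
    rw [mem_image]
    exact ⟨fun ⟨a, ha, e⟩ => by rw [← e, Equiv.symm_apply_apply]; exact ha,
      fun h => ⟨_, h, σ.apply_symm_apply p⟩⟩
  simp [H94.word2, LinearMap.funLeft_apply, this]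

theorem mem_M24_of_span {p : ℕ → Bool} {cert : List (List ℕ)} (hc : certB p cert = true)
    {σ : Equiv.Perm GolayPt}
    (h : ∀ m, p m = true → H94.word2 ((H90.setOf' m).image σ) ∈ golayCode) : σ ∈ M24 := by
  rw [H90.mem_M24_iff_words]
  intro w hw
  have := code_le hc (golayCode.comap (LinearMap.funLeft (ZMod 2) (ZMod 2) σ.symm)) (fun m hm => by
    rw [Submodule.mem_comap, ← word2_setOf', ← word2_image]
    exact h m hm) hw
  exact this

/-! ### S(4,7,23) -/

theorem mem_model23 {b : Finset (ZMod 23)} : b ∈ H90.model23 ↔ insertNone b ∈ octads := by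
  constructor
  · rintro ⟨o, ho, hn, rfl⟩
    rwa [insertNone_eraseNone, insert_eq_of_mem hn]
  · exact fun h => ⟨_, h, none_mem_insertNone, (eraseNone_insertNone b).symm⟩

theorem insertNone_image (σ : Equiv.Perm (ZMod 23)) (b : Finset (ZMod 23)) :
    (insertNone b).image (Equiv.optionCongr σ) = insertNone (b.image σ) := by
  ext (_ | x) <;> simp [H90.exists_insertNone]

theorem optionCongr_mem {σ : Equiv.Perm (ZMod 23)} (h : σ ∈ setSystemAut H90.model23) :
    Equiv.optionCongr σ ∈ M24 := by
  refine mem_M24_of_span cert23_ok fun m hm => ?_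
  rw [octBit, Bool.and_eq_true] at hm
  have hn : (none : GolayPt) ∈ H90.setOf' m := none_mem_setOf'.mpr hm.2
  have hb : eraseNone (H90.setOf' m) ∈ H90.model23 := ⟨_, H94.octB_mem hm.1, hn, rfl⟩
  have himg : (eraseNone (H90.setOf' m)).image σ ∈ H90.model23 := by
    rw [← H90.mem_setSystemAut_iff.mp h]
    exact ⟨_, hb, rfl⟩
  rw [word2_mem, show H90.setOf' m = insertNone (eraseNone (H90.setOf' m)) by
    rw [insertNone_eraseNone, insert_eq_of_mem hn], insertNone_image]
  exact (mem_model23.mp himg).1

theorem aut_of_mem {τ : Equiv.Perm GolayPt} (hτ : τ ∈ M24) {σ : Equiv.Perm (ZMod 23)}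
    (e : Equiv.optionCongr σ = τ) : σ ∈ setSystemAut H90.model23 := by
  rw [H90.mem_setSystemAut_iff]
  refine Set.eq_of_subset_of_ncard_le ?_
    (by rw [Set.ncard_image_of_injective _ (Finset.image_injective σ.injective)]) (Set.toFinite _)
  rintro _ ⟨b, hb, rfl⟩
  rw [mem_model23] at hb ⊢
  rw [← insertNone_image, e]
  exact H90.image_mem_wordsOfWeight hτ hb

def aut23Hom : ↥(setSystemAut H90.model23) →* ↥(MulAction.stabilizer M24 (none : GolayPt)) where
  toFun σ := ⟨⟨Equiv.optionCongr σ.1, optionCongr_mem σ.2⟩, rfl⟩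
  map_one' := Subtype.ext (Subtype.ext (Equiv.ext fun x => by cases x <;> rfl))
  map_mul' σ τ := Subtype.ext (Subtype.ext (Equiv.ext fun x => by cases x <;> rfl))

theorem aut23Hom_bijective : Function.Bijective aut23Hom := by
  constructor
  · intro σ τ h
    refine Subtype.ext (Equiv.ext fun x => Option.some_injective _ ?_)
    exact congrArg (fun g : ↥(MulAction.stabilizer M24 (none : GolayPt)) =>
      (g.1 : Equiv.Perm GolayPt) (some x)) h
  · rintro ⟨⟨τ, hτ⟩, hn⟩
    have hn' : τ none = none := hn
    have e : Equiv.optionCongr (Equiv.removeNone τ) = τ := by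
      refine Equiv.ext fun x => ?_
      cases x with
      | none => simp [hn']
      | some x =>
        obtain ⟨y, hy⟩ : ∃ y, τ (some x) = some y := by
          rcases h : τ (some x) with _ | y
          · exact absurd (τ.injective (h.trans hn'.symm)) (by simp)
          · exact ⟨y, rfl⟩
        simp [hn', hy]
    exact ⟨⟨_, aut_of_mem hτ e⟩, Subtype.ext (Subtype.ext e)⟩

theorem s23_aut {α : Type*} [Fintype α] [DecidableEq α] {B : Set (Finset α)}
    (hα : Fintype.card α = 23) (hB : IsSteinerSystem 4 7 B) :
    IsSimpleGroup (setSystemAut B) ∧ Nat.card (setSystemAut B) = 10200960 ∧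
      MulAction.IsMultiplyPretransitive (setSystemAut B) α 4 := by
  obtain ⟨e, he⟩ := H90.s23_iso hα hB
  let F : setSystemAut B ≃* MulAction.stabilizer M24 (none : GolayPt) :=
    (H90.setSystemAutEquiv e he).trans (MulEquiv.ofBijective aut23Hom aut23Hom_bijective)
  haveI := H90.stabilizer_none_simple
  refine ⟨F.isSimpleGroup, by rw [Nat.card_congr F.toEquiv, H90.natCard_stab_point], ⟨fun x y => ?_⟩⟩
  let L : (Fin 4 ↪ α) → List GolayPt := fun z => none :: List.ofFn (fun i => some (e (z i)))
  have hnd : ∀ z, (L z).Nodup := fun z => List.nodup_cons.mpr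
    ⟨by simp, List.nodup_ofFn.mpr fun i j h => z.injective (e.injective (Option.some.inj h))⟩
  obtain ⟨g, hg, hgl⟩ := Orb.exists_map_list (hnd x) (hnd y) (by simp [L]) (by simp [L])
  simp only [L, List.map_cons, List.cons.injEq, List.map_ofFn, List.ofFn_inj] at hgl
  obtain ⟨σ, hσ⟩ := F.surjective ⟨⟨g, hg⟩, hgl.1⟩
  refine ⟨σ, DFunLike.ext _ _ fun i => ?_⟩
  have h1 := congrArg (fun t : ↥(MulAction.stabilizer M24 (none : GolayPt)) =>
    (t.1 : Equiv.Perm GolayPt) (some (e (x i)))) hσ
  change some (e.permCongr σ.1 (e (x i))) = g (some (e (x i))) at h1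
  have h2 : g (some (e (x i))) = some (e (y i)) := congrFun hgl.2 i
  rw [h2, Option.some.injEq, Equiv.permCongr_apply, Equiv.symm_apply_apply] at h1
  exact e.injective h1

/-! ### S(3,6,22) -/

abbrev Pts22 : Type := {x : ZMod 23 // x ≠ 0}

def pairPts : Finset GolayPt := {none, some 0}

def up22 (b : Finset Pts22) : Finset GolayPt :=
  insert none (insert (some 0) (b.image fun x => some x.1))

theorem some_mem_up22 {b : Finset Pts22} {x : ZMod 23} (hx : x ≠ 0) :
    (some x : GolayPt) ∈ up22 b ↔ (⟨x, hx⟩ : Pts22) ∈ b := by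
  simp only [up22, mem_insert, reduceCtorEq, Option.some.injEq, hx, false_or, mem_image]
  exact ⟨fun ⟨a, ha, e⟩ => by rwa [show (⟨x, hx⟩ : Pts22) = a from Subtype.ext e.symm],
    fun h => ⟨_, h, rfl⟩⟩

theorem up22_down {o : Finset GolayPt} (hn : (none : GolayPt) ∈ o) (h0 : (some 0 : GolayPt) ∈ o) :
    up22 ((eraseNone o).subtype fun x => x ≠ 0) = o := by
  ext (_ | x)
  · simp [up22, hn]
  · by_cases hx : x = 0
    · subst hx; simp [up22, h0]
    · rw [some_mem_up22 hx]; simp

theorem mem_model22 {b : Finset Pts22} : b ∈ H90.model22 ↔ up22 b ∈ octads := by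
  constructor
  · rintro ⟨o, ho, hn, h0, rfl⟩
    rwa [up22_down hn h0]
  · refine fun h => ⟨_, h, by simp [up22], by simp [up22], ?_⟩
    ext ⟨x, hx⟩
    simp [some_mem_up22 hx]

/-- a permutation of the 22 points, fixing the two others -/
def ext22 : Equiv.Perm Pts22 →* Equiv.Perm GolayPt where
  toFun σ := Equiv.optionCongr (Equiv.Perm.ofSubtype σ)
  map_one' := by rw [map_one]; exact Equiv.optionCongr_refl
  map_mul' σ τ := by rw [map_mul]; exact Equiv.ext fun x => by cases x <;> rfl

theorem ext22_none (σ : Equiv.Perm Pts22) : ext22 σ none = none := rfl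

theorem ext22_some (σ : Equiv.Perm Pts22) (x : Pts22) : ext22 σ (some x.1) = some (σ x).1 :=
  congrArg some (Equiv.Perm.ofSubtype_apply_coe σ x)

theorem ext22_zero (σ : Equiv.Perm Pts22) : ext22 σ (some 0) = some 0 :=
  congrArg some (Equiv.Perm.ofSubtype_apply_of_not_mem σ (by simp))

theorem up22_image (σ : Equiv.Perm Pts22) (b : Finset Pts22) :
    (up22 b).image (ext22 σ) = up22 (b.image σ) := by
  simp only [up22, image_insert, ext22_none, ext22_zero, image_image]
  congr 2
  exact image_congr fun x _ => ext22_some σ x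

def flip22 : Equiv.Perm GolayPt := Equiv.swap none (some 0)

theorem flip_up22 (b : Finset Pts22) : (up22 b).image flip22 = up22 b := by
  simp only [up22, image_insert, flip22, Equiv.swap_apply_left, Equiv.swap_apply_right, image_image]
  rw [insert_comm]
  congr 2
  refine image_congr fun x _ => ?_
  exact Equiv.swap_apply_of_ne_of_ne (by simp) (by simp [x.2])

theorem flip_not_mem : flip22 ∉ M24 := by
  intro h
  have hr : ∃ r ∈ H94.octList, H94.bitB r 23 = false ∧ H94.bitB r 0 = false := by decide +kernel
  obtain ⟨r, hr, h23, h0⟩ := hr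
  have ho := (H94.mem_octList_lt hr).2
  obtain ⟨p, hp⟩ : ((H90.setOf' r)ᶜ \ pairPts).Nonempty := card_pos.mp (by
    have h1 := le_card_sdiff pairPts (H90.setOf' r)ᶜ
    have h2 : pairPts.card ≤ 2 := card_le_two
    have h3 : (H90.setOf' r)ᶜ.card = 16 := by rw [card_compl, ho.2]; rfl
    omega)
  simp only [mem_sdiff, mem_compl, pairPts, mem_insert, mem_singleton, not_or] at hp
  have hone := Oct.eq_one_of_fix_octad ho hp.1 h (fun q hq => ?_)
    (Equiv.swap_apply_of_ne_of_ne hp.2.1 hp.2.2)
  · have := congrArg (fun g : Equiv.Perm GolayPt => g none) hone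
    simp [flip22] at this
  · refine Equiv.swap_apply_of_ne_of_ne (fun e => ?_) (fun e => ?_)
    · subst e; rw [none_mem_setOf', h23] at hq; exact Bool.noConfusion hq
    · subst e; rw [zero_mem_setOf', h0] at hq; exact Bool.noConfusion hq

theorem mem_code_of_orth {v : Word} (hv : ∀ w ∈ golayCode, ∑ i, w i * v i = 0) : v ∈ golayCode := by
  set B := (dotProductEquiv (ZMod 2) GolayPt).toLinearMap
  set D := LinearMap.BilinForm.orthogonal B golayCode with hD
  have hle : golayCode ≤ D := fun x hx =>
    LinearMap.BilinForm.mem_orthogonal_iff.mpr fun w hw => H95.sdCode_golay.orth w hw x hx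
  have hfin : Module.finrank (ZMod 2) D = Module.finrank (ZMod 2) golayCode := by
    rw [hD, LinearMap.BilinForm.finrank_orthogonal H95.dot2_nondeg,
      Module.finrank_fintype_fun_eq_card, H94.card_golayPt, H94.golay_like.dim]
  rw [Submodule.eq_of_le_of_finrank_eq hle hfin.symm]
  exact LinearMap.BilinForm.mem_orthogonal_iff.mpr hv

theorem cast_dot (s t : Finset GolayPt) :
    ∑ i, H94.word2 s i * H94.word2 t i = (((s ∩ t).card : ℕ) : ZMod 2) := by
  rw [H94.dot_eq_card, H94.sup2_word2, H94.sup2_word2]

theorem exists_ext_mem {σ : Equiv.Perm Pts22} (h : σ ∈ setSystemAut H90.model22) :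
    ext22 σ ∈ M24 ∨ flip22 * ext22 σ ∈ M24 := by
  classical
  have hz : H90.setOf' zMask ∈ octads ∧ (none : GolayPt) ∈ H90.setOf' zMask ∧
      (some 0 : GolayPt) ∉ H90.setOf' zMask := by
    refine ⟨H94.octB_mem (by decide +kernel), none_mem_setOf'.mpr (by decide +kernel),
      fun h => ?_⟩
    rw [zero_mem_setOf'] at h
    exact absurd h (by decide +kernel)
  have hblock : ∀ m, oct22 m = true → ∃ b ∈ H90.model22, up22 b = H90.setOf' m := by
    intro m hm
    simp only [oct22, octBit, Bool.and_eq_true] at hm
    refine ⟨_, ⟨_, H94.octB_mem hm.1.1, none_mem_setOf'.mpr hm.1.2, zero_mem_setOf'.mpr hm.2, rfl⟩,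
      up22_down (none_mem_setOf'.mpr hm.1.2) (zero_mem_setOf'.mpr hm.2)⟩
  have haut : (fun b => b.image σ) '' H90.model22 = H90.model22 := H90.mem_setSystemAut_iff.mp h
  set z' := (H90.setOf' zMask).image (ext22 σ) with hz'
  have hzn : (none : GolayPt) ∈ z' := mem_image.mpr ⟨none, hz.2.1, ext22_none σ⟩
  have hz0 : (some 0 : GolayPt) ∉ z' := fun h => hz.2.2 (by
    obtain ⟨a, ha, e⟩ := mem_image.mp h
    rwa [(ext22 σ).injective (e.trans (ext22_zero σ).symm)] at ha)
  -- orthogonality to the lifted blocks
  have horth : ∀ b ∈ H90.model22,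
      ∑ i, H94.word2 (up22 b) i * H94.word2 z' i = 0 ∧
      ∑ i, H94.word2 (up22 b) i * H94.word2 pairPts i = 0 := by
    intro b hb
    constructor
    · obtain ⟨c, hc, rfl⟩ : b ∈ (fun b => b.image σ) '' H90.model22 := haut.symm ▸ hb
      rw [cast_dot, hz', ← up22_image, ← image_inter _ _ (ext22 σ).injective,
        card_image_of_injective _ (ext22 σ).injective, ← cast_dot]
      exact H95.sdCode_golay.orth _ (word2_mem.mpr (mem_model22.mp hc).1) _ (word2_mem.mpr hz.1.1)
    · rw [cast_dot, show up22 b ∩ pairPts = pairPts from inter_eq_right.mpr (by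
        simp [pairPts, up22, subset_iff]), pairPts, card_pair (by simp)]
      rfl
  -- the image of the extra word, possibly flipped
  obtain ⟨k, hk, hk'⟩ : ∃ k : Equiv.Perm GolayPt, (k = ext22 σ ∨ k = flip22 * ext22 σ) ∧
      H94.word2 ((H90.setOf' zMask).image k) ∈ golayCode := by
    have hzp : ∑ i, H94.word2 (H90.setOf' zMask) i * H94.word2 pairPts i = 1 := by
      rw [cast_dot, show H90.setOf' zMask ∩ pairPts = {none} by
        ext (_ | x)
        · simp [pairPts, hz.2.1]
        · simp only [pairPts, mem_inter, mem_insert, mem_singleton, reduceCtorEq, iff_false,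
            false_or, Option.some.injEq, not_and]
          rintro h rfl
          exact hz.2.2 h, card_singleton]
      rfl
    have hflip : (H90.setOf' zMask).image (flip22 * ext22 σ) = symmDiff z' pairPts := by
      rw [Equiv.Perm.coe_mul, ← image_image, ← hz']
      ext p
      simp only [mem_image, mem_symmDiff, pairPts, mem_insert, mem_singleton, flip22]
      rcases eq_or_ne p none with rfl | hp
      · exact ⟨fun ⟨a, ha, e⟩ => absurd ((Equiv.swap_apply_eq_iff.mp e).trans
          (Equiv.swap_apply_left _ _) ▸ ha) hz0, fun h => by simp [hzn] at h⟩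
      rcases eq_or_ne p (some 0) with rfl | hp0
      · exact ⟨fun _ => Or.inr ⟨Or.inr rfl, hz0⟩, fun _ => ⟨none, hzn, Equiv.swap_apply_left _ _⟩⟩
      · simp only [hp, hp0, or_self, not_false_eq_true, and_true, false_and, or_false]
        exact ⟨fun ⟨a, ha, e⟩ => by
          rwa [(Equiv.swap_apply_eq_iff.mp e).trans (Equiv.swap_apply_of_ne_of_ne hp hp0)] at ha,
          fun ha => ⟨p, ha, Equiv.swap_apply_of_ne_of_ne hp hp0⟩⟩
    have key : ∀ v : Word, (∀ b ∈ H90.model22, ∑ i, H94.word2 (up22 b) i * v i = 0) →
        ∑ i, H94.word2 (H90.setOf' zMask) i * v i = 0 → v ∈ golayCode := by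
      intro v hv hvz
      refine mem_code_of_orth fun w hw => ?_
      let D : Submodule (ZMod 2) Word :=
        { carrier := {w | ∑ i, w i * v i = 0}
          add_mem' := fun {a b} ha hb => by
            simp only [Set.mem_ofPred_eq, Pi.add_apply, add_mul, sum_add_distrib] at *
            rw [ha, hb, add_zero]
          zero_mem' := by simp
          smul_mem' := fun c {a} ha => by
            simp only [Set.mem_ofPred_eq, Pi.smul_apply, smul_eq_mul, mul_assoc, ← mul_sum] at *
            rw [ha, mul_zero] }
      refine code_le cert22_ok D (fun m hm => ?_) hw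
      rw [← word2_setOf']
      rw [Bool.or_eq_true] at hm
      rcases hm with hm | hm
      · obtain ⟨b, hb, e⟩ := hblock m hm
        rw [← e]; exact hv b hb
      · rw [Nat.eq_of_beq_eq_true hm]; exact hvz
    rcases H94.zmod2_cases (∑ i, H94.word2 (H90.setOf' zMask) i * H94.word2 z' i) with h0 | h1
    · exact ⟨_, Or.inl rfl, key _ (fun b hb => (horth b hb).1) h0⟩
    · refine ⟨_, Or.inr rfl, ?_⟩
      rw [hflip, show H94.word2 (symmDiff z' pairPts) = H94.word2 z' + H94.word2 pairPts from
        H94.sup2_injective (by rw [H94.sup2_add, H94.sup2_word2, H94.sup2_word2, H94.sup2_word2])]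
      refine key _ (fun b hb => ?_) ?_
      · simp only [Pi.add_apply, mul_add, sum_add_distrib, (horth b hb).1, (horth b hb).2, add_zero]
      · simp only [Pi.add_apply, mul_add, sum_add_distrib, h1, hzp]
        decide
  have hmem : k ∈ M24 := by
    refine mem_M24_of_span cert22_ok fun m hm => ?_
    rw [Bool.or_eq_true] at hm
    rcases hm with hm | hm
    · obtain ⟨b, hb, e⟩ := hblock m hm
      have hc : up22 (b.image σ) ∈ octads :=
        mem_model22.mp (haut ▸ Set.mem_image_of_mem (fun b => Finset.image σ b) hb)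
      rw [← e, word2_mem]
      rcases hk with rfl | rfl
      · rw [up22_image]; exact hc.1
      · rw [Equiv.Perm.coe_mul, ← image_image, up22_image, flip_up22]; exact hc.1
    · rw [Nat.eq_of_beq_eq_true hm]; exact hk'
  rcases hk with rfl | rfl
  · exact Or.inl hmem
  · exact Or.inr hmem

abbrev pairStab : Subgroup M24 := MulAction.stabilizer M24 pairPts

theorem pair_keeps (g : pairStab) (x : ZMod 23) (hx : x ≠ 0) :
    ∃ y : Pts22, (g.1 : Equiv.Perm GolayPt) (some x) = some y.1 := by
  have hg : (g.1 : Equiv.Perm GolayPt) • pairPts = pairPts := g.2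
  have hn : (g.1 : Equiv.Perm GolayPt) (some x) ∉ pairPts := fun h => by
    rw [← hg, H92.mem_smul_apply] at h
    simp [pairPts, hx] at h
  rcases h : (g.1 : Equiv.Perm GolayPt) (some x) with _ | y
  · rw [h] at hn; exact absurd (by simp [pairPts]) hn
  · rw [h] at hn
    exact ⟨⟨y, fun e => hn (by simp [pairPts, e])⟩, rfl⟩

def restFun (g : pairStab) (x : Pts22) : Pts22 := (pair_keeps g x.1 x.2).choose

theorem restFun_spec (g : pairStab) (x : Pts22) :
    (g.1 : Equiv.Perm GolayPt) (some x.1) = some (restFun g x).1 :=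
  (pair_keeps g x.1 x.2).choose_spec

theorem restFun_mul (g h : pairStab) (x : Pts22) :
    restFun (g * h) x = restFun g (restFun h x) := by
  refine Subtype.ext (Option.some.inj ?_)
  rw [← restFun_spec, ← restFun_spec, ← restFun_spec]
  rfl

theorem restFun_one (x : Pts22) : restFun 1 x = x := by
  refine Subtype.ext (Option.some.inj ?_)
  rw [← restFun_spec]
  rfl

def restPerm : pairStab →* Equiv.Perm Pts22 where
  toFun g :=
    { toFun := restFun g
      invFun := restFun g⁻¹
      left_inv := fun x => by rw [← restFun_mul, inv_mul_cancel, restFun_one]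
      right_inv := fun x => by rw [← restFun_mul, mul_inv_cancel, restFun_one] }
  map_one' := Equiv.ext restFun_one
  map_mul' g h := Equiv.ext (restFun_mul g h)

theorem restPerm_mem (g : pairStab) : restPerm g ∈ setSystemAut H90.model22 := by
  rw [H90.mem_setSystemAut_iff]
  refine Set.eq_of_subset_of_ncard_le ?_
    (by rw [Set.ncard_image_of_injective _ (Finset.image_injective (restPerm g).injective)])
    (Set.toFinite _)
  rintro _ ⟨b, hb, rfl⟩
  rw [mem_model22] at hb ⊢
  have hg : pairPts.image (g.1 : Equiv.Perm GolayPt) = pairPts := g.2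
  have : up22 (b.image (restPerm g)) = (up22 b).image (g.1 : Equiv.Perm GolayPt) := by
    have hu : ∀ c : Finset Pts22, up22 c = pairPts ∪ c.image (fun x => some x.1) := by
      intro c
      simp [up22, pairPts, insert_union]
    rw [hu, hu, image_union, hg, image_image, image_image]
    congr 1
    exact image_congr fun x _ => (restFun_spec g x).symm
  rw [this]
  exact H90.image_mem_wordsOfWeight g.1.2 hb

def aut22Hom : pairStab →* setSystemAut H90.model22 := restPerm.codRestrict _ restPerm_mem

theorem aut22Hom_bijective : Function.Bijective aut22Hom := by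
  constructor
  · rw [injective_iff_map_eq_one]
    intro g hg
    have hfix : ∀ x : Pts22, (g.1 : Equiv.Perm GolayPt) (some x.1) = some x.1 := fun x => by
      rw [restFun_spec]
      exact congrArg (fun t : setSystemAut H90.model22 => some ((t.1 x).1)) hg
    by_contra hne
    refine flip_not_mem ?_
    convert g.1.2
    refine Equiv.ext fun p => ?_
    have hmem : ∀ q ∈ pairPts, (g.1 : Equiv.Perm GolayPt) q ∈ pairPts := fun q hq => by
      have h := (H92.mem_smul_apply (g.1 : Equiv.Perm GolayPt) pairPts q).mpr hq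
      rwa [show (g.1 : Equiv.Perm GolayPt) • pairPts = pairPts from g.2] at h
    have hnn : (g.1 : Equiv.Perm GolayPt) none = some 0 := by
      rcases Finset.mem_insert.mp (hmem none (by simp [pairPts])) with h | h
      · exfalso
        apply hne
        refine Subtype.ext (Subtype.ext (Equiv.ext fun q => ?_))
        rcases q with _ | x
        · exact h
        · by_cases hx : x = 0
          · subst hx
            rcases Finset.mem_insert.mp (hmem (some 0) (by simp [pairPts])) with h' | h'
            · exact absurd ((g.1 : Equiv.Perm GolayPt).injective (h'.trans h.symm)) (by simp)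
            · exact Finset.mem_singleton.mp h'
          · exact hfix ⟨x, hx⟩
      · exact Finset.mem_singleton.mp h
    have h0n : (g.1 : Equiv.Perm GolayPt) (some 0) = none := by
      rcases Finset.mem_insert.mp (hmem (some 0) (by simp [pairPts])) with h | h
      · exact h
      · exact absurd ((g.1 : Equiv.Perm GolayPt).injective
          ((Finset.mem_singleton.mp h).trans hnn.symm)) (by simp)
    rcases p with _ | x
    · rw [hnn]; exact Equiv.swap_apply_left _ _
    · by_cases hx : x = 0
      · subst hx; rw [h0n]; exact Equiv.swap_apply_right _ _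
      · rw [hfix ⟨x, hx⟩]; exact Equiv.swap_apply_of_ne_of_ne (by simp) (by simp [hx])
  · rintro ⟨σ, hσ⟩
    have hflip : ∀ x : Pts22, flip22 (some x.1) = some x.1 := fun x =>
      Equiv.swap_apply_of_ne_of_ne (by simp) (by simp [x.2])
    obtain ⟨k, hk, hkp, hks⟩ : ∃ k : Equiv.Perm GolayPt, k ∈ M24 ∧ k • pairPts = pairPts ∧
        ∀ x : Pts22, k (some x.1) = some (σ x).1 := by
      rcases exists_ext_mem hσ with h | h
      · refine ⟨_, h, ?_, ext22_some σ⟩
        show pairPts.image (ext22 σ) = pairPts
        simp [pairPts, image_insert, ext22_none, ext22_zero]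
      · refine ⟨_, h, ?_, fun x => by rw [Equiv.Perm.mul_apply, ext22_some, hflip]⟩
        show pairPts.image (flip22 * ext22 σ) = pairPts
        rw [Equiv.Perm.coe_mul, ← image_image]
        simp [pairPts, image_insert, ext22_none, ext22_zero, flip22, Finset.pair_comm]
    refine ⟨⟨⟨k, hk⟩, hkp⟩, Subtype.ext (Equiv.ext fun x => Subtype.ext (Option.some.inj ?_))⟩
    show some (restFun _ x).1 = _
    rw [← restFun_spec]
    exact hks x

/-- the pointwise stabiliser inside the setwise one -/
def ptsStab : Subgroup pairStab :=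
  (MulAction.stabilizer M24 (none : GolayPt) ⊓ MulAction.stabilizer M24 (some 0 : GolayPt)).subgroupOf
    pairStab

theorem card_pairStab : Nat.card pairStab = 887040 := by
  have horb : MulAction.orbit M24 pairPts = {x : Finset GolayPt | x.card = 2} := by
    have h2 : pairPts.card = 2 := card_pair (by simp)
    ext x
    refine ⟨?_, fun h => ?_⟩
    · rintro ⟨g, rfl⟩
      exact (Finset.card_smul_finset (g : Equiv.Perm GolayPt) _).trans h2
    · obtain ⟨g, hg, e⟩ := Orb.exists_map_finset (s := pairPts) (t := x) (h2.trans h.symm) (by omega)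
      exact ⟨⟨g, hg⟩, e⟩
  have h := pairStab.card_mul_index
  rw [MulAction.index_stabilizer, horb, H90.natCard_M24,
    show {x : Finset GolayPt | x.card = 2} = ↑((univ : Finset GolayPt).powersetCard 2) by ext x; simp,
    Set.ncard_coe_finset, card_powersetCard, card_univ, H94.card_golayPt,
    show Nat.choose 24 2 = 276 by decide +kernel] at h
  omega

theorem ptsStab_le : MulAction.stabilizer M24 (none : GolayPt) ⊓
    MulAction.stabilizer M24 (some 0 : GolayPt) ≤ pairStab := by
  intro g hg
  show pairPts.image (g : Equiv.Perm GolayPt) = pairPts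
  have h1 : (g : Equiv.Perm GolayPt) none = none := hg.1
  have h2 : (g : Equiv.Perm GolayPt) (some 0) = some 0 := hg.2
  simp [pairPts, image_insert, h1, h2]

theorem s22_aut {α : Type*} [Fintype α] [DecidableEq α] {B : Set (Finset α)}
    (hα : Fintype.card α = 22) (hB : IsSteinerSystem 3 6 B) :
    Nat.card (setSystemAut B) = 887040 ∧
      MulAction.IsMultiplyPretransitive (setSystemAut B) α 3 ∧
      ∃ H : Subgroup (setSystemAut B), H.index = 2 ∧ IsSimpleGroup H ∧ Nat.card H = 443520 := by
  obtain ⟨e, he⟩ := H90.s22_iso hα hB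
  let F : pairStab ≃* setSystemAut B :=
    (MulEquiv.ofBijective aut22Hom aut22Hom_bijective).trans (H90.setSystemAutEquiv e he).symm
  have hF : ∀ (g : pairStab) (a : α), (g.1 : Equiv.Perm GolayPt) (some (e a).1) =
      some (e ((F g).1 a)).1 := by
    intro g a
    rw [restFun_spec]
    show some (restFun g (e a)).1 = some (e (e.symm.permCongr (restPerm g) a)).1
    rw [Equiv.permCongr_apply, Equiv.apply_symm_apply, Equiv.symm_symm]
    rfl
  have hcardG : Nat.card (setSystemAut B) = 887040 := by
    rw [← Nat.card_congr F.toEquiv, card_pairStab]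
  have he2 : ptsStab ≃* ↥(MulAction.stabilizer M24 (none : GolayPt) ⊓
      MulAction.stabilizer M24 (some 0 : GolayPt)) := Subgroup.subgroupOfEquivOfLe ptsStab_le
  let H := ptsStab.map F.toMonoidHom
  have hH : ptsStab ≃* H := ptsStab.equivMapOfInjective _ F.injective
  have hcardH : Nat.card H = 443520 := by
    rw [← Nat.card_congr hH.toEquiv, Nat.card_congr he2.toEquiv, H90.natCard_stab_pair (by simp)]
  refine ⟨hcardG, ⟨fun x y => ?_⟩, H, ?_, ?_, hcardH⟩
  · let L : (Fin 3 ↪ α) → List GolayPt := fun z =>
      none :: some 0 :: List.ofFn (fun i => some (e (z i)).1)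
    have hnd : ∀ z, (L z).Nodup := fun z => by
      refine List.nodup_cons.mpr ⟨by simp [List.mem_ofFn], List.nodup_cons.mpr ⟨?_,
        List.nodup_ofFn.mpr fun i j h => z.injective (e.injective (Subtype.ext (Option.some.inj h)))⟩⟩
      simp only [List.mem_ofFn, not_exists]
      exact fun i h => (e (z i)).2 (Option.some.inj h)
    obtain ⟨g, hg, hgl⟩ := Orb.exists_map_list (hnd x) (hnd y) (by simp [L]) (by simp [L])
    simp only [L, List.map_cons, List.cons.injEq, List.map_ofFn, List.ofFn_inj] at hgl
    have hgp : (⟨g, hg⟩ : M24) ∈ pairStab := ptsStab_le ⟨hgl.1, hgl.2.1⟩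
    refine ⟨F ⟨⟨g, hg⟩, hgp⟩, DFunLike.ext _ _ fun i => e.injective (Subtype.ext (Option.some.inj ?_))⟩
    exact (hF ⟨⟨g, hg⟩, hgp⟩ (x i)).symm.trans (congrFun hgl.2.2 i)
  · have h := H.card_mul_index
    rw [hcardH, hcardG] at h
    omega
  · haveI := H95.pair_stab_simple (p := (none : GolayPt)) (q := some 0) (by simp)
    exact (hH.symm.trans he2).isSimpleGroup

end H91.Derived
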