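/- Counting in a Steiner system S(3,6,22): block intersections and the two graphs built from it. -/
import Cfsg.Agent.H94.Steiner

set_option autoImplicit false

namespace H91

open Finset

variable {α : Type*} [Fintype α] [DecidableEq α] {B : Set (Finset α)}

theorem s22_lambda (hα : Fintype.card α = 22) (hB : Cfsg.IsSteinerSystem 3 6 B) :
    (H94.blockSet B).card = 77 ∧ (∀ p, ((H94.blockSet B).filter (p ∈ ·)).card = 21) ∧
      ∀ p q, p ≠ q → ((H94.blockSet B).filter (fun d => p ∈ d ∧ q ∈ d)).card = 5 := by
  refine ⟨?_, fun p => ?_, fun p q hpq => ?_⟩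
  · have h := H94.steiner_lambda hB ∅ (by simp)
    simp only [empty_subset, filter_true, card_empty, Nat.sub_zero, hα] at h
    norm_num [Nat.choose] at h
    omega
  · have h := H94.steiner_lambda hB {p} (by simp)
    simp only [singleton_subset_iff, card_singleton, hα] at h
    norm_num [Nat.choose] at h
    omega
  · have h := H94.steiner_lambda hB {p, q} (by rw [card_pair hpq]; norm_num)
    simp only [card_pair hpq, hα, insert_subset_iff, singleton_subset_iff] at h
    norm_num [Nat.choose] at h
    omega

theorem s22_inter_le (hB : Cfsg.IsSteinerSystem 3 6 B) {b c : Finset α} (hb : b ∈ B) (hc : c ∈ B)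
    (hne : b ≠ c) : (b ∩ c).card ≤ 2 := by
  by_contra h
  obtain ⟨s, hs, hcard⟩ := exists_subset_card_eq (show 3 ≤ (b ∩ c).card by omega)
  exact hne (H94.steiner_unique hB hb hc hcard (hs.trans inter_subset_left)
    (hs.trans inter_subset_right))

theorem sum_inter_eq (F : Finset (Finset α)) (b : Finset α) :
    ∑ d ∈ F, (d ∩ b).card = ∑ p ∈ b, (F.filter (p ∈ ·)).card := by
  have : ∀ d : Finset α, (d ∩ b).card = (b.filter (· ∈ d)).card := fun d => by
    congr 1; ext; simp [and_comm]
  simp only [this, card_eq_sum_ones, sum_filter]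
  exact sum_comm

theorem s22_sum_inter (hα : Fintype.card α = 22) (hB : Cfsg.IsSteinerSystem 3 6 B) {b : Finset α}
    (hb : b ∈ B) : ∑ d ∈ H94.blockSet B, (d ∩ b).card = 126 := by
  rw [sum_inter_eq, sum_const_nat (fun p _ => (s22_lambda hα hB).2.1 p), hB.1 b hb]

theorem s22_sum_mul (hα : Fintype.card α = 22) (hB : Cfsg.IsSteinerSystem 3 6 B) {b c : Finset α}
    (hb : b ∈ B) (hc : c ∈ B) :
    ∑ d ∈ H94.blockSet B, (d ∩ b).card * (d ∩ c).card = 180 + 16 * (b ∩ c).card := by
  have h : ∀ d : Finset α, (d ∩ b).card * (d ∩ c).card =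
      ((b ×ˢ c).filter (fun x => x.1 ∈ d ∧ x.2 ∈ d)).card := fun d => by
    rw [← card_product]; congr 1; ext ⟨u, v⟩; simp; tauto
  simp only [h, card_eq_sum_ones (((b ×ˢ c)).filter _), sum_filter]
  rw [sum_comm]
  have h2 : ∀ x ∈ b ×ˢ c,
      (∑ d ∈ H94.blockSet B, if x.1 ∈ d ∧ x.2 ∈ d then 1 else 0) =
        5 + if x.1 = x.2 then 16 else 0 := by
    intro x _
    rw [← sum_filter, ← card_eq_sum_ones]
    by_cases hx : x.1 = x.2
    · rw [if_pos hx, ← hx]; simp only [and_self]; rw [(s22_lambda hα hB).2.1]
    · rw [if_neg hx, (s22_lambda hα hB).2.2 _ _ hx]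
  rw [sum_congr rfl h2, sum_add_distrib, sum_const, smul_eq_mul, card_product, hB.1 b hb,
    hB.1 c hc, ← sum_filter, sum_const, smul_eq_mul]
  have : ((b ×ˢ c).filter fun x => x.1 = x.2).card = (b ∩ c).card := by
    apply card_nbij' (fun x => x.1) (fun u => (u, u))
    · intro x hx; simp only [coe_filter, mem_product, Set.mem_ofPred_eq] at hx
      simp only [mem_coe, mem_inter]; exact ⟨hx.1.1, hx.2 ▸ hx.1.2⟩
    · intro u hu; simp only [mem_coe, mem_inter] at hu
      simp only [coe_filter, mem_product, Set.mem_ofPred_eq]; exact ⟨hu, trivial⟩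
    · intro x hx; simp only [coe_filter, Set.mem_ofPred_eq] at hx
      exact Prod.ext rfl hx.2
    · intro u _; rfl
  rw [this]; ring

/-- Two blocks meet in 0 or 2 points. -/
theorem s22_inter (hα : Fintype.card α = 22) (hB : Cfsg.IsSteinerSystem 3 6 B) {b c : Finset α}
    (hb : b ∈ B) (hc : c ∈ B) (hne : b ≠ c) : (b ∩ c).card = 0 ∨ (b ∩ c).card = 2 := by
  have h1 := s22_sum_inter hα hB hb
  have h2 := s22_sum_mul hα hB hb hb
  rw [inter_self, hB.1 b hb] at h2
  have hb' : b ∈ H94.blockSet B := H94.mem_blockSet.mpr hb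
  have hc' : c ∈ (H94.blockSet B).erase b := mem_erase.mpr ⟨hne.symm, H94.mem_blockSet.mpr hc⟩
  rw [← add_sum_erase _ _ hb', inter_self, hB.1 b hb] at h1 h2
  have hz : ∑ d ∈ (H94.blockSet B).erase b,
      ((d ∩ b).card * 2 - (d ∩ b).card * (d ∩ b).card) = 0 := by
    rw [sum_tsub_distrib, ← sum_mul]
    · omega
    · intro d hd
      obtain ⟨hdb, hd⟩ := mem_erase.mp hd
      exact Nat.mul_le_mul_left _ (s22_inter_le hB (H94.mem_blockSet.mp hd) hb hdb)
  have h3 := (sum_eq_zero_iff.mp hz) c hc'
  have h4 := s22_inter_le hB hc hb hne.symm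
  rw [inter_comm]
  interval_cases (c ∩ b).card <;> omega

/-- Indicator of disjointness. -/
def disjInd (d b : Finset α) : ℤ := if Disjoint d b then 1 else 0

theorem s22_two_disjInd (hα : Fintype.card α = 22) (hB : Cfsg.IsSteinerSystem 3 6 B)
    {d b : Finset α} (hd : d ∈ B) (hb : b ∈ B) :
    2 * disjInd d b = 2 - ((d ∩ b).card : ℤ) + (if d = b then 4 else 0) := by
  unfold disjInd
  by_cases hdb : d = b
  · subst hdb
    have hne : ¬ Disjoint d d := by
      intro h
      have := hB.1 d hd
      rw [disjoint_self_iff_empty d] at h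
      simp [h] at this
    rw [if_neg hne, inter_self, hB.1 d hd, if_pos rfl]; norm_num
  · rw [if_neg hdb]
    rcases s22_inter hα hB hd hb hdb with h | h
    · rw [if_pos (disjoint_iff_inter_eq_empty.mpr (card_eq_zero.mp h)), h]; norm_num
    · rw [if_neg, h]
      · norm_num
      · intro h'; rw [disjoint_iff_inter_eq_empty.mp h'] at h; simp at h

theorem disjInd_sum_eq (F : Finset (Finset α)) (P : Finset α → Prop) [DecidablePred P] :
    ∑ d ∈ F, (if P d then (1 : ℤ) else 0) = ((F.filter P).card : ℤ) := by
  rw [sum_boole]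

theorem s22_disjoint_count (hα : Fintype.card α = 22) (hB : Cfsg.IsSteinerSystem 3 6 B)
    {b : Finset α} (hb : b ∈ B) :
    ((H94.blockSet B).filter (Disjoint · b)).card = 16 := by
  have hb' : b ∈ H94.blockSet B := H94.mem_blockSet.mpr hb
  have h : ∑ d ∈ H94.blockSet B, 2 * disjInd d b = 32 := by
    rw [sum_congr rfl fun d hd => s22_two_disjInd hα hB (H94.mem_blockSet.mp hd) hb,
      sum_add_distrib, sum_sub_distrib, sum_const, (s22_lambda hα hB).1, ← Nat.cast_sum,
      s22_sum_inter hα hB hb, sum_ite_eq' _ b, if_pos hb']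
    norm_num
  rw [← mul_sum] at h
  simp only [disjInd, disjInd_sum_eq] at h
  omega

theorem s22_common_disjoint (hα : Fintype.card α = 22) (hB : Cfsg.IsSteinerSystem 3 6 B)
    {b c : Finset α} (hb : b ∈ B) (hc : c ∈ B) (hne : b ≠ c) :
    ((H94.blockSet B).filter (fun d => Disjoint d b ∧ Disjoint d c)).card = 2 * (b ∩ c).card := by
  have hb' : b ∈ H94.blockSet B := H94.mem_blockSet.mpr hb
  have hc' : c ∈ H94.blockSet B := H94.mem_blockSet.mpr hc
  have key : ∀ d ∈ H94.blockSet B, 4 * (disjInd d b * disjInd d c) =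
      4 + ((((d ∩ b).card * (d ∩ c).card : ℕ) : ℤ)) - 2 * ((d ∩ b).card : ℤ)
        - 2 * ((d ∩ c).card : ℤ)
        + (if d = b then 8 - 4 * ((b ∩ c).card : ℤ) else 0)
        + (if d = c then 8 - 4 * ((b ∩ c).card : ℤ) else 0) := by
    intro d hd
    have hd := H94.mem_blockSet.mp hd
    rw [show 4 * (disjInd d b * disjInd d c) = (2 * disjInd d b) * (2 * disjInd d c) by ring,
      s22_two_disjInd hα hB hd hb, s22_two_disjInd hα hB hd hc]
    by_cases h1 : d = b
    · subst h1; rw [if_pos rfl, if_pos rfl, if_neg hne, if_neg hne]; push_cast; ring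
    · by_cases h2 : d = c
      · subst h2
        rw [if_pos rfl, if_pos rfl, if_neg h1, if_neg h1, inter_comm b d]; push_cast; ring
      · rw [if_neg h1, if_neg h1, if_neg h2, if_neg h2]; push_cast; ring
  have h : ∑ d ∈ H94.blockSet B, 4 * (disjInd d b * disjInd d c) = 8 * ((b ∩ c).card : ℤ) := by
    rw [sum_congr rfl key]
    simp only [sum_add_distrib, sum_sub_distrib, sum_ite_eq', if_pos hb', if_pos hc', sum_const,
      ← mul_sum, ← Nat.cast_sum, (s22_lambda hα hB).1, s22_sum_inter hα hB hb,
      s22_sum_inter hα hB hc, s22_sum_mul hα hB hb hc]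
    push_cast; ring
  rw [← mul_sum] at h
  have h2 : ∀ d, disjInd d b * disjInd d c = if Disjoint d b ∧ Disjoint d c then 1 else 0 := by
    intro d; unfold disjInd; split_ifs <;> simp_all
  simp only [h2, disjInd_sum_eq] at h
  omega

theorem s22_point_disjoint (hα : Fintype.card α = 22) (hB : Cfsg.IsSteinerSystem 3 6 B)
    {b : Finset α} (hb : b ∈ B) {a : α} (ha : a ∉ b) :
    ((H94.blockSet B).filter (fun d => a ∈ d ∧ Disjoint d b)).card = 6 := by
  have h30 : ∑ d ∈ (H94.blockSet B).filter (a ∈ ·), (d ∩ b).card = 30 := by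
    rw [sum_inter_eq, sum_const_nat (m := 5), hB.1 b hb]
    intro q hq
    rw [filter_filter]
    exact (s22_lambda hα hB).2.2 a q (fun e => ha (e ▸ hq))
  have h : ∑ d ∈ (H94.blockSet B).filter (a ∈ ·), 2 * disjInd d b = 12 := by
    have hterm : ∀ d ∈ (H94.blockSet B).filter (a ∈ ·),
        2 * disjInd d b = 2 - ((d ∩ b).card : ℤ) := by
      intro d hd
      obtain ⟨hd, had⟩ := mem_filter.mp hd
      rw [s22_two_disjInd hα hB (H94.mem_blockSet.mp hd) hb, if_neg (fun e : d = b => ha (e ▸ had)),
        add_zero]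
    rw [sum_congr rfl hterm, sum_sub_distrib, sum_const, (s22_lambda hα hB).2.1,
      ← Nat.cast_sum, h30]
    norm_num
  rw [← mul_sum] at h
  simp only [disjInd, disjInd_sum_eq, filter_filter] at h
  omega

/-- Counting over the vertex set of the point-block graph. -/
theorem card_option_sum {β : Type*} [Fintype β] (S : Set (Option (α ⊕ β))) [Fintype S]
    [DecidablePred (· ∈ S)] :
    Fintype.card S = (if none ∈ S then 1 else 0) +
      (univ.filter fun a : α => some (Sum.inl a) ∈ S).card +
      (univ.filter fun b : β => some (Sum.inr b) ∈ S).card := by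
  classical
  rw [← Set.toFinset_card, show S.toFinset = univ.filter (· ∈ S) by ext; simp]
  simp only [card_eq_sum_ones, sum_filter]
  rw [Fintype.sum_option, Fintype.sum_sum_type, add_assoc]

theorem card_filter_blocks [Fintype B] (P : Finset α → Prop) [DecidablePred P] :
    (univ.filter fun b : B => P b).card = ((H94.blockSet B).filter P).card := by
  refine card_bij (fun (b : B) _ => (b : Finset α)) ?_ ?_ ?_
  · intro b hb; simp only [mem_filter, mem_univ, true_and] at hb
    simp [H94.mem_blockSet, hb]
  · intro b _ c _ h; exact Subtype.ext h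
  · intro d hd; simp only [mem_filter, H94.mem_blockSet] at hd
    exact ⟨⟨d, hd.1⟩, by simp [hd.2], rfl⟩

theorem blockGraph_adj {hne : ∀ b ∈ B, (b : Finset α).Nonempty} {b c : B} :
    (Cfsg.blockGraph B).Adj b c ↔ Disjoint (b : Finset α) (c : Finset α) := by
  simp only [Cfsg.blockGraph, SimpleGraph.fromRel_adj]
  constructor
  · rintro ⟨-, h | h⟩
    · exact h
    · exact h.symm
  · intro h
    refine ⟨fun e => ?_, Or.inl h⟩
    subst e
    exact (hne b b.2).ne_empty ((disjoint_self_iff_empty _).mp h)

theorem steiner_nonempty (hB : Cfsg.IsSteinerSystem 3 6 B) : ∀ b ∈ B, (b : Finset α).Nonempty :=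
  fun b hb => card_pos.mp (by rw [hB.1 b hb]; norm_num)

theorem blockGraph_srg (hα : Fintype.card α = 22) (hB : Cfsg.IsSteinerSystem 3 6 B) [Fintype B]
    [DecidableRel (Cfsg.blockGraph B).Adj] : (Cfsg.blockGraph B).IsSRGWith 77 16 0 4 := by
  classical
  have hadj : ∀ b c : B, (Cfsg.blockGraph B).Adj b c ↔ Disjoint (b : Finset α) (c : Finset α) :=
    fun b c => blockGraph_adj (hne := steiner_nonempty hB)
  refine ⟨?_, ?_, ?_, ?_⟩
  · have := card_filter_blocks (B := B) (fun _ => True)
    simpa [(s22_lambda hα hB).1] using this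
  · intro b
    rw [← SimpleGraph.card_neighborFinset_eq_degree, ← s22_disjoint_count hα hB b.2,
      ← card_filter_blocks (B := B)]
    congr 1
    ext c
    simp [SimpleGraph.mem_neighborFinset, hadj, disjoint_comm]
  all_goals
    intro b c
  on_goal 2 => intro hne'
  all_goals
    intro hbc
    rw [hadj] at hbc
    have hne : (b : Finset α) ≠ c := by
      intro e
      first
        | exact (steiner_nonempty hB b b.2).ne_empty ((disjoint_self_iff_empty _).mp (e ▸ hbc))
        | exact hne' (Subtype.ext e)
    rw [← Set.toFinset_card]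
    rw [show ((Cfsg.blockGraph B).commonNeighbors b c).toFinset =
      univ.filter (fun d : B => Disjoint (d : Finset α) b ∧ Disjoint (d : Finset α) c) by
        ext d; simp [SimpleGraph.mem_commonNeighbors, hadj, disjoint_comm],
      card_filter_blocks (B := B) (fun d => Disjoint d b ∧ Disjoint d c),
      s22_common_disjoint hα hB b.2 c.2 hne]
  · rw [disjoint_iff_inter_eq_empty.mp hbc]; simp
  · rcases s22_inter hα hB b.2 c.2 hne with h | h
    · exact absurd (disjoint_iff_inter_eq_empty.mpr (card_eq_zero.mp h)) hbc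
    · rw [h]

theorem pointBlockGraph_srg (hα : Fintype.card α = 22) (hB : Cfsg.IsSteinerSystem 3 6 B)
    [Fintype B] [DecidableRel (Cfsg.pointBlockGraph B).Adj] :
    (Cfsg.pointBlockGraph B).IsSRGWith 100 22 0 6 := by
  classical
  have hne := steiner_nonempty hB
  have ann : ¬ (Cfsg.pointBlockGraph B).Adj none none := by simp
  have anp : ∀ a, (Cfsg.pointBlockGraph B).Adj none (some (Sum.inl a)) := by
    intro a; simp [Cfsg.pointBlockGraph, Cfsg.pointBlockRel]
  have anb : ∀ b, ¬ (Cfsg.pointBlockGraph B).Adj none (some (Sum.inr b)) := by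
    intro a; simp [Cfsg.pointBlockGraph, Cfsg.pointBlockRel]
  have app : ∀ a a', ¬ (Cfsg.pointBlockGraph B).Adj (some (Sum.inl a)) (some (Sum.inl a')) := by
    intro a a'; simp [Cfsg.pointBlockGraph, Cfsg.pointBlockRel]
  have apb : ∀ a (b : B), (Cfsg.pointBlockGraph B).Adj (some (Sum.inl a)) (some (Sum.inr b)) ↔ a ∈ (b : Finset α) := by
    intro a b; simp [Cfsg.pointBlockGraph, Cfsg.pointBlockRel]
  have abb : ∀ b c : B, (Cfsg.pointBlockGraph B).Adj (some (Sum.inr b)) (some (Sum.inr c)) ↔
      Disjoint (b : Finset α) (c : Finset α) := by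
    intro b c
    rw [← blockGraph_adj (hne := hne)]
    simp [Cfsg.pointBlockGraph, Cfsg.pointBlockRel, Cfsg.blockGraph]
  have apn : ∀ a, (Cfsg.pointBlockGraph B).Adj (some (Sum.inl a)) none := fun a => (anp a).symm
  have abn : ∀ b, ¬ (Cfsg.pointBlockGraph B).Adj (some (Sum.inr b)) none := fun b h => anb b h.symm
  have abp : ∀ (b : B) a, (Cfsg.pointBlockGraph B).Adj (some (Sum.inr b)) (some (Sum.inl a)) ↔ a ∈ (b : Finset α) :=
    fun b a => by rw [SimpleGraph.adj_comm, apb]
  obtain ⟨hF, h21, h5⟩ := s22_lambda hα hB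
  have hblock : ∀ b : B, (univ.filter fun c : B => Disjoint (b : Finset α) (c : Finset α)).card = 16 := by
    intro b
    rw [card_filter_blocks (B := B) (fun d => Disjoint (b : Finset α) d)]
    simp only [disjoint_comm (a := (b : Finset α))]
    exact s22_disjoint_count hα hB b.2
  have hmem : ∀ b : B, (univ.filter fun a : α => a ∈ (b : Finset α)).card = 6 := by
    intro b; rw [filter_mem_eq_inter, univ_inter]; exact hB.1 b b.2
  refine ⟨?_, ?_, ?_, ?_⟩
  · rw [Fintype.card_option, Fintype.card_sum, hα]
    have h1 := card_filter_blocks (B := B) (fun _ => True)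
    have h : Fintype.card B = 77 := by simpa [hF] using h1
    rw [h]
  · intro v
    rw [← SimpleGraph.card_neighborSet_eq_degree, card_option_sum]
    rcases v with _ | a | b
    · simp [SimpleGraph.mem_neighborSet, ann, anp, anb, hα]
    · simp only [SimpleGraph.mem_neighborSet, apn, app, apb, if_true, filter_false, card_empty]
      rw [card_filter_blocks (B := B) (fun d => a ∈ d), h21]
    · simp only [SimpleGraph.mem_neighborSet, abn, abp, abb, if_false, hblock, hmem]
  · intro v w hvw
    rw [card_option_sum]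
    rcases v with _ | a | b <;> rcases w with _ | a' | c
    · exact absurd hvw ann
    · simp [SimpleGraph.mem_commonNeighbors, anp, anb, ann, app, apn]
    · exact absurd hvw (anb c)
    · simp [SimpleGraph.mem_commonNeighbors, anp, anb, ann, app, apn]
    · exact absurd hvw (app a a')
    · rw [apb] at hvw
      simp only [SimpleGraph.mem_commonNeighbors, apn, abn, app, abp, apb, abb, and_false,
        false_and, if_false, filter_false, card_empty, zero_add]
      rw [card_filter_blocks (B := B) (fun d => a ∈ d ∧ Disjoint (c : Finset α) d), card_eq_zero,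
        filter_eq_empty_iff]
      rintro d - ⟨hd, hdis⟩
      exact disjoint_left.mp hdis hvw hd
    · exact absurd hvw (abn b)
    · rw [abp] at hvw
      simp only [SimpleGraph.mem_commonNeighbors, apn, abn, app, abp, apb, abb, and_false,
        false_and, if_false, filter_false, card_empty, zero_add]
      rw [card_filter_blocks (B := B) (fun d => Disjoint (b : Finset α) d ∧ a' ∈ d), card_eq_zero,
        filter_eq_empty_iff]
      rintro d - ⟨hdis, hd⟩
      exact disjoint_left.mp hdis hvw hd
    · rw [abb] at hvw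
      have hbc : (b : Finset α) ≠ c := fun e =>
        (hne b b.2).ne_empty ((disjoint_self_iff_empty _).mp (e ▸ hvw))
      simp only [SimpleGraph.mem_commonNeighbors, abn, abp, abb, and_false, if_false, zero_add]
      have h1 : (univ.filter fun a : α => a ∈ (b : Finset α) ∧ a ∈ (c : Finset α)).card = 0 := by
        rw [card_eq_zero, filter_eq_empty_iff]
        rintro a - ⟨h1, h2⟩
        exact disjoint_left.mp hvw h1 h2
      rw [h1, zero_add,
        card_filter_blocks (B := B) (fun d => Disjoint (b : Finset α) d ∧ Disjoint (c : Finset α) d)]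
      simp only [disjoint_comm (a := (b : Finset α)), disjoint_comm (a := (c : Finset α))]
      rw [s22_common_disjoint hα hB b.2 c.2 hbc, disjoint_iff_inter_eq_empty.mp hvw]
      simp
  · intro v w hne' hvw
    rw [card_option_sum]
    rcases v with _ | a | b <;> rcases w with _ | a' | c
    · exact absurd rfl hne'
    · exact absurd (anp a') hvw
    · simp only [SimpleGraph.mem_commonNeighbors, ann, anp, anb, abn, abp, false_and, true_and,
        if_false, filter_false, card_empty, add_zero, zero_add, hmem]
    · exact absurd (apn a) hvw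
    · have hap : a ≠ a' := fun e => hne' (by rw [e])
      simp only [SimpleGraph.mem_commonNeighbors, apn, app, apb, and_self, if_true, filter_false,
        card_empty, add_zero]
      rw [card_filter_blocks (B := B) (fun d => a ∈ d ∧ a' ∈ d), h5 a a' hap]
    · rw [apb] at hvw
      simp only [SimpleGraph.mem_commonNeighbors, apn, abn, app, abp, apb, abb, and_false,
        false_and, if_false, filter_false, card_empty, zero_add]
      rw [card_filter_blocks (B := B) (fun d => a ∈ d ∧ Disjoint (c : Finset α) d)]
      simp only [disjoint_comm (a := (c : Finset α))]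
      exact s22_point_disjoint hα hB c.2 hvw
    · simp only [SimpleGraph.mem_commonNeighbors, ann, anp, anb, abn, abp, and_false, and_true,
        if_false, filter_false, card_empty, add_zero, zero_add, hmem]
    · rw [abp] at hvw
      simp only [SimpleGraph.mem_commonNeighbors, apn, abn, app, abp, apb, abb, and_false,
        false_and, if_false, filter_false, card_empty, zero_add]
      rw [card_filter_blocks (B := B) (fun d => Disjoint (b : Finset α) d ∧ a' ∈ d)]
      simp only [disjoint_comm (a := (b : Finset α)), and_comm (b := a' ∈ _)]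
      exact s22_point_disjoint hα hB b.2 hvw
    · rw [abb] at hvw
      have hbc : (b : Finset α) ≠ c := fun e => hne' (by rw [Subtype.ext e])
      simp only [SimpleGraph.mem_commonNeighbors, abn, abp, abb, and_false, if_false, zero_add]
      rw [card_filter_blocks (B := B) (fun d => Disjoint (b : Finset α) d ∧ Disjoint (c : Finset α) d)]
      simp only [disjoint_comm (a := (b : Finset α)), disjoint_comm (a := (c : Finset α))]
      rw [s22_common_disjoint hα hB b.2 c.2 hbc,
        show (univ.filter fun a : α => a ∈ (b : Finset α) ∧ a ∈ (c : Finset α)) = (b : Finset α) ∩ c by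
          ext; simp]
      rcases s22_inter hα hB b.2 c.2 hbc with h | h
      · exact absurd (disjoint_iff_inter_eq_empty.mpr (card_eq_zero.mp h)) hvw
      · rw [h]

end H91
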