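/- Five-vertex cocliques of a strongly regular graph with parameters (15, 6, 1, 3). -/
import Mathlib

set_option autoImplicit false

namespace H91.T6

open Finset

variable {V : Type*} [Fintype V] [DecidableEq V] {G : SimpleGraph V} [DecidableRel G.Adj]

/-- The parameters, as facts about neighbour sets. -/
structure Params (G : SimpleGraph V) [DecidableRel G.Adj] : Prop where
  card : Fintype.card V = 15
  deg : ∀ v, (G.neighborFinset v).card = 6
  lam : ∀ v w, G.Adj v w → (G.neighborFinset v ∩ G.neighborFinset w).card = 1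
  mu : ∀ v w, v ≠ w → ¬ G.Adj v w → (G.neighborFinset v ∩ G.neighborFinset w).card = 3

/-- five pairwise non-adjacent vertices -/
def IsFive (G : SimpleGraph V) (X : Finset V) : Prop :=
  X.card = 5 ∧ ∀ x ∈ X, ∀ y ∈ X, ¬ G.Adj x y

variable (h : Params G)
include h

theorem common_eq {v w x y : V} (hvw : G.Adj v w) (hxv : G.Adj x v) (hxw : G.Adj x w)
    (hyv : G.Adj y v) (hyw : G.Adj y w) : x = y := by
  obtain ⟨z, hz⟩ := card_eq_one.mp (h.lam v w hvw)
  have hx : x ∈ G.neighborFinset v ∩ G.neighborFinset w := by simp [hxv.symm, hxw.symm]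
  have hy : y ∈ G.neighborFinset v ∩ G.neighborFinset w := by simp [hyv.symm, hyw.symm]
  rw [hz, mem_singleton] at hx hy
  rw [hx, hy]


/-- Through two non-adjacent vertices there is exactly one five-vertex coclique. -/
theorem five_through_pair {p r : V} (hne : p ≠ r) (hpr : ¬ G.Adj p r) :
    ∃ X : Finset V, (IsFive G X ∧ p ∈ X ∧ r ∈ X) ∧ ∀ Y, IsFive G Y → p ∈ Y → r ∈ Y → Y = X := by
  classical
  have hrp : ¬ G.Adj r p := fun e => hpr e.symm
  set T := G.neighborFinset p ∩ G.neighborFinset r with hT
  have hT3 : T.card = 3 := h.mu p r hne hpr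
  set M := (univ \ (G.neighborFinset p ∪ G.neighborFinset r)) \ {p, r} with hM
  have hM4 : M.card = 4 := by
    have hu : (G.neighborFinset p ∪ G.neighborFinset r).card = 9 := by
      have := card_union_add_card_inter (G.neighborFinset p) (G.neighborFinset r)
      rw [h.deg, h.deg, ← hT, hT3] at this
      omega
    have hsub : ({p, r} : Finset V) ⊆ univ \ (G.neighborFinset p ∪ G.neighborFinset r) := by
      intro x hx
      simp only [mem_insert, mem_singleton] at hx
      rcases hx with rfl | rfl
      · simp [hrp]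
      · simp [hpr]
    rw [hM, card_sdiff_of_subset hsub, card_sdiff_of_subset (subset_univ _), card_univ, h.card, hu,
      card_pair hne]
  have memM : ∀ s, s ∈ M ↔ s ≠ p ∧ s ≠ r ∧ ¬ G.Adj p s ∧ ¬ G.Adj r s := by
    intro s
    simp [hM, not_or]
    tauto
  have memT : ∀ q, q ∈ T ↔ G.Adj p q ∧ G.Adj r q := by intro q; simp [hT]
  have hTind : ∀ q ∈ T, ∀ q' ∈ T, ¬ G.Adj q q' := by
    intro q hq q' hq' hadj
    rw [memT] at hq hq'
    exact hne (common_eq h hadj hq.1 hq'.1 hq.2 hq'.2)
  -- each common neighbour has two neighbours in `M`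
  have hq2 : ∀ q ∈ T, (G.neighborFinset q ∩ M).card = 2 := by
    intro q hq
    have hq' := (memT q).mp hq
    have e : G.neighborFinset q ∩ M = ((G.neighborFinset q \ G.neighborFinset p) \
        G.neighborFinset r) \ {p, r} := by
      ext s
      simp [hM, not_or]
      tauto
    have e1 : (G.neighborFinset q \ G.neighborFinset p).card = 5 := by
      have := card_inter_add_card_sdiff (G.neighborFinset q) (G.neighborFinset p)
      rw [h.lam q p hq'.1.symm, h.deg] at this
      omega
    have e2 : ((G.neighborFinset q \ G.neighborFinset p) \ G.neighborFinset r).card = 4 := by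
      have hin : (G.neighborFinset q \ G.neighborFinset p) ∩ G.neighborFinset r =
          G.neighborFinset q ∩ G.neighborFinset r := by
        ext s
        simp only [mem_inter, mem_sdiff, SimpleGraph.mem_neighborFinset]
        refine ⟨fun hs => ⟨hs.1.1, hs.2⟩, fun hs => ⟨⟨hs.1, fun hps => ?_⟩, hs.2⟩⟩
        exact hTind q hq s ((memT s).mpr ⟨hps, hs.2⟩) hs.1
      have := card_inter_add_card_sdiff (G.neighborFinset q \ G.neighborFinset p) (G.neighborFinset r)
      rw [hin, h.lam q r hq'.2.symm, e1] at this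
      omega
    have hsub : ({p, r} : Finset V) ⊆
        (G.neighborFinset q \ G.neighborFinset p) \ G.neighborFinset r := by
      intro x hx
      simp only [mem_insert, mem_singleton] at hx
      rcases hx with rfl | rfl <;>
        simp [hq'.1.symm, hq'.2.symm, hpr, hrp]
    rw [e, card_sdiff_of_subset hsub, e2, card_pair hne]
  -- those two are adjacent
  have hedge : ∀ q ∈ T, ∀ s ∈ M, ∀ s' ∈ M, G.Adj q s → G.Adj q s' → s ≠ s' → G.Adj s s' := by
    intro q hq s hs s' hs' hqs hqs' hss
    have hq' := (memT q).mp hq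
    obtain ⟨z, hz⟩ := card_eq_one.mp (h.lam q s hqs)
    have hzq : G.Adj q z ∧ G.Adj s z := by
      have : z ∈ G.neighborFinset q ∩ G.neighborFinset s := by simp [hz]
      simpa using this
    have hzp : z ≠ p := by rintro rfl; exact ((memM s).mp hs).2.2.1 hzq.2.symm
    have hzr : z ≠ r := by rintro rfl; exact ((memM s).mp hs).2.2.2 hzq.2.symm
    have hpz : ¬ G.Adj p z := by
      intro hc
      -- then `p` and `s` would both be common neighbours of the edge `q z`
      exact ((memM s).mp hs).1 (common_eq h hzq.1 hqs.symm hzq.2 hq'.1 hc)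
    have hrz : ¬ G.Adj r z := by
      intro hc
      exact ((memM s).mp hs).2.1 (common_eq h hzq.1 hqs.symm hzq.2 hq'.2 hc)
    have hzM : z ∈ M := (memM z).mpr ⟨hzp, hzr, hpz, hrz⟩
    have hsz : s ≠ z := hzq.2.ne
    have hset : G.neighborFinset q ∩ M = {s, z} := by
      refine (eq_of_subset_of_card_le ?_ (by rw [hq2 q hq, card_pair hsz])).symm
      intro x hx
      simp only [mem_insert, mem_singleton] at hx
      rcases hx with rfl | rfl <;> simp [hqs, hs, hzq.1, hzM]
    have : s' ∈ G.neighborFinset q ∩ M := by simp [hqs', hs']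
    rw [hset, mem_insert, mem_singleton] at this
    rcases this with rfl | rfl
    · exact absurd rfl hss
    · exact hzq.2
  -- the point joined to all three common neighbours
  have hpair : ∀ q ∈ T, ∀ q' ∈ T, q ≠ q' → ∃ s ∈ M, G.Adj q s ∧ G.Adj q' s := by
    intro q hq q' hq' hqq
    have h3 := h.mu q q' hqq (hTind q hq q' hq')
    have hlt : ({p, r} : Finset V).card < (G.neighborFinset q ∩ G.neighborFinset q').card := by
      rw [card_pair hne, h3]; norm_num
    obtain ⟨s, hs, hsn⟩ := exists_mem_notMem_of_card_lt_card hlt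
    simp only [mem_inter, SimpleGraph.mem_neighborFinset] at hs
    simp only [mem_insert, mem_singleton, not_or] at hsn
    refine ⟨s, (memM s).mpr ⟨hsn.1, hsn.2, fun hc => ?_, fun hc => ?_⟩, hs⟩
    · have h1 := (memT q).mp hq
      have h2 := (memT q').mp hq'
      exact hqq (common_eq h hc h1.1.symm hs.1 h2.1.symm hs.2)
    · have h1 := (memT q).mp hq
      have h2 := (memT q').mp hq'
      exact hqq (common_eq h hc h1.2.symm hs.1 h2.2.symm hs.2)
  obtain ⟨q1, q2, q3, h12, h13, h23, hTeq⟩ := card_eq_three.mp hT3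
  have m1 : q1 ∈ T := by rw [hTeq]; simp
  have m2 : q2 ∈ T := by rw [hTeq]; simp
  have m3 : q3 ∈ T := by rw [hTeq]; simp
  obtain ⟨s, hs, s1, s2⟩ := hpair q1 m1 q2 m2 h12
  obtain ⟨t, ht, t1, t3⟩ := hpair q1 m1 q3 m3 h13
  obtain ⟨u, hu, u2, u3⟩ := hpair q2 m2 q3 m3 h23
  have hst : s = t := by
    by_contra hne'
    have e1 := hedge q1 m1 s hs t ht s1 t1 hne'
    by_cases hsu : s = u
    · subst hsu
      exact h13 (common_eq h e1 s1 t1 u3 t3)
    · by_cases htu : t = u
      · subst htu
        exact h12 (common_eq h e1 s1 t1 s2 u2)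
      · have e2 := hedge q2 m2 s hs u hu s2 u2 hsu
        have e3 := hedge q3 m3 t ht u hu t3 u3 htu
        have : q1 = u := common_eq h e1 s1 t1 e2.symm e3.symm
        exact ((memM u).mp hu).2.2.1 (this ▸ ((memT q1).mp m1).1)
  subst hst
  have hall : ∀ q ∈ T, G.Adj q s := by
    intro q hq
    rw [hTeq] at hq
    simp only [mem_insert, mem_singleton] at hq
    rcases hq with rfl | rfl | rfl <;> assumption
  have hM3 : (M.erase s).card = 3 := by rw [card_erase_of_mem hs, hM4]
  -- every other member of `M` is adjacent to `s`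
  have hcover : M.erase s ⊆ G.neighborFinset s := by
    have hsub : T.biUnion (fun q => (G.neighborFinset q ∩ M).erase s) ⊆
        M.erase s ∩ G.neighborFinset s := by
      intro x hx
      simp only [mem_biUnion, mem_erase, mem_inter, SimpleGraph.mem_neighborFinset] at hx ⊢
      obtain ⟨q, hq, hxs, hqx, hxM⟩ := hx
      exact ⟨⟨hxs, hxM⟩, hedge q hq s hs x hxM (hall q hq) hqx (Ne.symm hxs)⟩
    have hc : (T.biUnion fun q => (G.neighborFinset q ∩ M).erase s).card = 3 := by
      rw [card_biUnion, sum_congr rfl (g := fun _ => 1) fun q hq => ?_, sum_const, hT3]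
      · rfl
      · rw [card_erase_of_mem (by simp [hs, hall q hq]), hq2 q hq]
      · intro q hq q' hq' hqq
        rw [Function.onFun, disjoint_left]
        intro x hx hx'
        simp only [mem_erase, mem_inter, SimpleGraph.mem_neighborFinset] at hx hx'
        have e := hedge q hq s hs x hx.2.2 (hall q hq) hx.2.1 (Ne.symm hx.1)
        exact hqq (common_eq h e (hall q hq) hx.2.1 (hall q' hq') hx'.2.1)
    have := eq_of_subset_of_card_le (inter_subset_left (s₁ := M.erase s) (s₂ := G.neighborFinset s))
      (by rw [hM3, ← hc]; exact card_le_card hsub)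
    exact inter_eq_left.mp this
  have hind : ∀ x ∈ M.erase s, ∀ y ∈ M.erase s, ¬ G.Adj x y := by
    intro x hx y hy hxy
    have hsx : G.Adj s x := by simpa using hcover hx
    have hsy : G.Adj s y := by simpa using hcover hy
    -- `x` has a neighbour in `T`, giving a second common neighbour of `s x`
    have hxq : ∃ q ∈ T, G.Adj q x := by
      by_contra hno
      push Not at hno
      have hsub : T.biUnion (fun q => (G.neighborFinset q ∩ M).erase s) ⊆ (M.erase s).erase x := by
        intro z hz
        simp only [mem_biUnion, mem_erase, mem_inter, SimpleGraph.mem_neighborFinset] at hz ⊢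
        obtain ⟨q, hq, hzs, hqz, hzM⟩ := hz
        exact ⟨fun e => hno q hq (e ▸ hqz), hzs, hzM⟩
      have := card_le_card hsub
      rw [card_biUnion, sum_congr rfl (g := fun _ => 1) (fun q hq => ?_), sum_const, hT3,
        card_erase_of_mem hx, hM3] at this
      · norm_num at this
      · rw [card_erase_of_mem (by simp [hs, hall q hq]), hq2 q hq]
      · intro q hq q' hq' hqq
        rw [Function.onFun, disjoint_left]
        intro z hz hz'
        simp only [mem_erase, mem_inter, SimpleGraph.mem_neighborFinset] at hz hz'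
        have e := hedge q hq s hs z hz.2.2 (hall q hq) hz.2.1 (Ne.symm hz.1)
        exact hqq (common_eq h e (hall q hq) hz.2.1 (hall q' hq') hz'.2.1)
    obtain ⟨q, hq, hqx⟩ := hxq
    have : q = y := common_eq h hsx (hall q hq) hqx hsy.symm hxy.symm
    exact ((memM y).mp (mem_of_mem_erase hy)).2.2.1 (this ▸ ((memT q).mp hq).1)
  have hpM : p ∉ M.erase s := fun hc => ((memM p).mp (mem_of_mem_erase hc)).1 rfl
  have hrM : r ∉ M.erase s := fun hc => ((memM r).mp (mem_of_mem_erase hc)).2.1 rfl
  refine ⟨insert p (insert r (M.erase s)), ⟨⟨?_, ?_⟩, mem_insert_self _ _,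
    mem_insert_of_mem (mem_insert_self _ _)⟩, fun Y hY hpY hrY => ?_⟩
  · rw [card_insert_of_notMem (by simp [hne, hpM]), card_insert_of_notMem hrM, hM3]
  · intro x hx y hy hxy
    simp only [mem_insert] at hx hy
    rcases hx with rfl | rfl | hx <;> rcases hy with rfl | rfl | hy
    · exact hxy.ne rfl
    · exact hpr hxy
    · exact ((memM y).mp (mem_of_mem_erase hy)).2.2.1 hxy
    · exact hpr hxy.symm
    · exact hxy.ne rfl
    · exact ((memM y).mp (mem_of_mem_erase hy)).2.2.2 hxy
    · exact ((memM x).mp (mem_of_mem_erase hx)).2.2.1 hxy.symm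
    · exact ((memM x).mp (mem_of_mem_erase hx)).2.2.2 hxy.symm
    · exact hind x hx y hy hxy
  · have hrest : (Y.erase p).erase r ⊆ M := fun x hx => by
      simp only [mem_erase] at hx
      exact (memM x).mpr ⟨hx.2.1, hx.1, hY.2 p hpY x hx.2.2, hY.2 r hrY x hx.2.2⟩
    have hc3 : ((Y.erase p).erase r).card = 3 := by
      rw [card_erase_of_mem (mem_erase.mpr ⟨hne.symm, hrY⟩), card_erase_of_mem hpY, hY.1]
    have hsY : s ∉ (Y.erase p).erase r := by
      intro hsY
      have h2 : (((Y.erase p).erase r).erase s).Nonempty := card_pos.mp (by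
        rw [card_erase_of_mem hsY, hc3]; norm_num)
      obtain ⟨x, hx⟩ := h2
      have hsx : G.Adj s x := by
        simpa using hcover (mem_erase.mpr ⟨(mem_erase.mp hx).1, hrest (mem_of_mem_erase hx)⟩)
      exact hY.2 s (mem_of_mem_erase (mem_of_mem_erase hsY)) x
        (mem_of_mem_erase (mem_of_mem_erase (mem_of_mem_erase hx))) hsx
    have heq : (Y.erase p).erase r = M.erase s :=
      eq_of_subset_of_card_le (fun x hx => mem_erase.mpr ⟨fun e => hsY (e ▸ hx), hrest hx⟩)
        (by rw [hc3, hM3])
    rw [← heq, insert_erase (mem_erase.mpr ⟨hne.symm, hrY⟩), insert_erase hpY]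

/-- Each vertex lies in exactly two five-vertex cocliques. -/
theorem five_count (p : V) [DecidablePred (IsFive G)] :
    ((univ.powersetCard 5).filter fun X => IsFive G X ∧ p ∈ X).card = 2 := by
  classical
  set F := (univ.powersetCard 5).filter fun X => IsFive G X ∧ p ∈ X
  set R := univ \ insert p (G.neighborFinset p)
  have hR : R.card = 8 := by
    show (univ \ insert p (G.neighborFinset p)).card = 8
    rw [card_sdiff_of_subset (subset_univ _), card_insert_of_notMem (by simp), h.deg, card_univ,
      h.card]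
  have hmul := Finset.sum_card_bipartiteAbove_eq_sum_card_bipartiteBelow
    (s := F) (t := R) (fun (X : Finset V) (r : V) => r ∈ X)
  have hX : ∀ X ∈ F, (R.bipartiteAbove (fun (X : Finset V) (r : V) => r ∈ X) X).card = 4 := by
    intro X hX
    simp only [F, mem_filter] at hX
    have : R.bipartiteAbove (fun (X : Finset V) (r : V) => r ∈ X) X = X.erase p := by
      ext r
      simp only [bipartiteAbove, R, mem_filter, mem_sdiff, mem_univ, true_and, mem_insert,
        SimpleGraph.mem_neighborFinset, mem_erase, not_or]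
      exact ⟨fun hh => ⟨hh.1.1, hh.2⟩, fun hh => ⟨⟨hh.1, hX.2.1.2 p hX.2.2 r hh.2⟩, hh.2⟩⟩
    rw [this, card_erase_of_mem hX.2.2, hX.2.1.1]
  have hr : ∀ r ∈ R, (F.bipartiteBelow (fun (X : Finset V) (r : V) => r ∈ X) r).card = 1 := by
    intro r hr
    simp only [R, mem_sdiff, mem_univ, true_and, mem_insert, SimpleGraph.mem_neighborFinset,
      not_or] at hr
    obtain ⟨X, ⟨hX5, hpX, hrX⟩, huniq⟩ := five_through_pair h (Ne.symm hr.1) hr.2
    refine card_eq_one.mpr ⟨X, ?_⟩
    ext Y
    simp only [bipartiteBelow, F, mem_filter, mem_powersetCard, subset_univ, true_and,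
      mem_singleton]
    exact ⟨fun hY => huniq Y hY.1.2.1 hY.1.2.2 hY.2,
      fun e => e ▸ ⟨⟨hX5.1, hX5, hpX⟩, hrX⟩⟩
  rw [sum_congr rfl hX, sum_congr rfl hr, sum_const, sum_const, hR, smul_eq_mul, smul_eq_mul] at hmul
  omega

end H91.T6
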