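/- The strongly regular graphs with parameters (77, 16, 0, 4): lines and classes. -/
import Cfsg.Agent.H91.Srg15

set_option autoImplicit false

noncomputable section

namespace H91.G77

open Finset

variable {V : Type*} [Fintype V] [DecidableEq V] (G : SimpleGraph V) [DecidableRel G.Adj]

/-- common neighbours of three vertices -/
def k3 (b c d : V) : ℕ := (G.neighborFinset b ∩ G.neighborFinset c ∩ G.neighborFinset d).card

/-- distinct and non-adjacent -/
def Ind (b c : V) : Prop := b ≠ c ∧ ¬ G.Adj b c

/-- pairwise non-adjacent without a common neighbour -/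
def Col (b c x : V) : Prop := Ind G b c ∧ Ind G b x ∧ Ind G c x ∧ k3 G b c x = 0

/-- adjacency as an integer -/
def aI (z w : V) : ℤ := if G.Adj z w then 1 else 0

/-- the operator of the adjacency matrix -/
def app (v : V → ℤ) (z : V) : ℤ := ∑ w, aI G z w * v w

structure Params : Prop where
  card : Fintype.card V = 77
  deg : ∀ v, (G.neighborFinset v).card = 16
  lam : ∀ v w, G.Adj v w → (G.neighborFinset v ∩ G.neighborFinset w).card = 0
  mu : ∀ v w, v ≠ w → ¬ G.Adj v w → (G.neighborFinset v ∩ G.neighborFinset w).card = 4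

variable {G} (h : Params G)

theorem ind_symm {b c : V} (hb : Ind G b c) : Ind G c b := ⟨hb.1.symm, fun e => hb.2 e.symm⟩

theorem k3_swap (b c d : V) : k3 G b c d = k3 G c b d := by
  rw [k3, k3, inter_comm (G.neighborFinset b)]

theorem k3_swap' (b c d : V) : k3 G b c d = k3 G b d c := by
  rw [k3, k3, inter_assoc, inter_comm (G.neighborFinset c), ← inter_assoc]

theorem col_swap {b c x : V} (hc : Col G b c x) : Col G c b x :=
  ⟨ind_symm hc.1, hc.2.2.1, hc.2.1, (k3_swap c b x).trans hc.2.2.2⟩

theorem col_swap' {b c x : V} (hc : Col G b c x) : Col G b x c :=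
  ⟨hc.2.1, hc.1, ind_symm hc.2.2.1, (k3_swap' b x c).trans hc.2.2.2⟩

theorem count_adj (g : V) (s : Finset V) :
    ∑ p ∈ s, aI G g p = ((G.neighborFinset g ∩ s).card : ℤ) := by
  simp only [aI]
  rw [sum_boole]
  congr 2
  ext p
  simp [and_comm]

theorem count_adj' (g : V) (s : Finset V) :
    ∑ p ∈ s, aI G p g = ((G.neighborFinset g ∩ s).card : ℤ) := by
  rw [← count_adj]
  exact sum_congr rfl fun p _ => by simp [aI, SimpleGraph.adj_comm]

include h

theorem no_triangle {a b c : V} (hab : G.Adj a b) (hac : G.Adj a c) : ¬ G.Adj b c := by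
  intro hbc
  have h0 := h.lam a b hab
  rw [card_eq_zero] at h0
  have : c ∈ G.neighborFinset a ∩ G.neighborFinset b := by simp [hac, hbc]
  rw [h0] at this
  exact notMem_empty c this

theorem common_card (w w' : V) : ∑ z, aI G z w * aI G z w' =
    4 + (if w = w' then 12 else 0) - 4 * aI G w w' := by
  have hsum : ∑ z, aI G z w * aI G z w' = ((G.neighborFinset w ∩ G.neighborFinset w').card : ℤ) := by
    have : G.neighborFinset w ∩ G.neighborFinset w' =
        univ.filter fun z => G.Adj z w ∧ G.Adj z w' := by
      ext z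
      simp [SimpleGraph.adj_comm]
    rw [this, card_filter, Nat.cast_sum]
    refine sum_congr rfl fun z _ => ?_
    simp only [aI]
    by_cases h1 : G.Adj z w <;> by_cases h2 : G.Adj z w' <;> simp [h1, h2]
  rw [hsum]
  by_cases e : w = w'
  · subst e
    simp [aI, h.deg]
  by_cases ha : G.Adj w w'
  · simp [aI, e, ha, h.lam w w' ha]
  · simp [aI, e, ha, h.mu w w' e ha]

/-- A balanced vector on which the quadratic form is extreme is an eigenvector. -/
theorem eigen_of_form {v : V → ℤ} (h0 : ∑ z, v z = 0)
    (hq : ∑ z, v z * app G v z = 2 * ∑ z, v z * v z) (z : V) : app G v z = 2 * v z := by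
  have hsq : ∑ z, app G v z * app G v z = 12 * ∑ w, v w * v w - 4 * ∑ w, v w * app G v w := by
    calc ∑ z, app G v z * app G v z
        = ∑ z, ∑ w, ∑ w', (v w * v w') * (aI G z w * aI G z w') := by
          refine sum_congr rfl fun z _ => ?_
          rw [app, sum_mul_sum]
          exact sum_congr rfl fun w _ => sum_congr rfl fun w' _ => by ring
      _ = ∑ w, ∑ w', (v w * v w') * ∑ z, aI G z w * aI G z w' := by
          rw [sum_comm]
          refine sum_congr rfl fun w _ => ?_
          rw [sum_comm]
          exact sum_congr rfl fun w' _ => (mul_sum _ _ _).symm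
      _ = ∑ w, ∑ w', (4 * (v w * v w') + (if w = w' then 12 * (v w * v w') else 0)
            - 4 * (v w * (aI G w w' * v w'))) := by
          refine sum_congr rfl fun w _ => sum_congr rfl fun w' _ => ?_
          rw [common_card h]
          split_ifs <;> ring
      _ = 4 * ((∑ w, v w) * ∑ w, v w) + 12 * ∑ w, v w * v w - 4 * ∑ w, v w * app G v w := by
          simp only [sum_sub_distrib, sum_add_distrib, sum_ite_eq, mem_univ, if_true, ← mul_sum]
          rw [sum_mul_sum]
          simp only [mul_sum, app]
      _ = _ := by rw [h0]; ring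
  have hz : ∑ z, (app G v z - 2 * v z) ^ 2 = 0 := by
    have e : ∀ z, (app G v z - 2 * v z) ^ 2 =
        app G v z * app G v z - 4 * (v z * app G v z) + 4 * (v z * v z) := fun z => by ring
    rw [sum_congr rfl fun z _ => e z, sum_add_distrib, sum_sub_distrib, ← mul_sum, ← mul_sum, hsq, hq]
    ring
  have := (sum_eq_zero_iff_of_nonneg fun z _ => sq_nonneg (app G v z - 2 * v z)).mp hz z (mem_univ z)
  have := pow_eq_zero_iff (n := 2) (by norm_num) |>.mp this
  omega

/-- No three pairwise non-adjacent vertices have three common neighbours. -/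
theorem k3_le_two {b c d : V} (hbc : Ind G b c) (hbd : Ind G b d) (hcd : Ind G c d) :
    k3 G b c d ≤ 2 := by
  by_contra hgt
  obtain ⟨U, hU, hU3⟩ := exists_subset_card_eq (s := G.neighborFinset b ∩ G.neighborFinset c ∩
    G.neighborFinset d) (n := 3) (by rw [k3] at hgt; omega)
  have hUadj : ∀ u ∈ U, G.Adj b u ∧ G.Adj c u ∧ G.Adj d u := fun u hu => by
    have := hU hu
    simp only [mem_inter, SimpleGraph.mem_neighborFinset] at this
    exact ⟨this.1.1, this.1.2, this.2⟩
  set T : Finset V := {b, c, d} with hT
  have hT3 : T.card = 3 := card_eq_three.mpr ⟨b, c, d, hbc.1, hbd.1, hcd.1, rfl⟩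
  have hTU : Disjoint T U := by
    rw [disjoint_left]
    intro x hx hxU
    have := hUadj x hxU
    simp only [hT, mem_insert, mem_singleton] at hx
    rcases hx with rfl | rfl | rfl
    · exact this.1.ne rfl
    · exact this.2.1.ne rfl
    · exact this.2.2.ne rfl
  set S := T ∪ U
  let f : V → ℤ := fun z => ∑ w ∈ S, aI G z w
  have hTadj : ∀ t ∈ T, ∀ u ∈ U, G.Adj t u := by
    intro t ht u hu
    have := hUadj u hu
    simp only [hT, mem_insert, mem_singleton] at ht
    rcases ht with rfl | rfl | rfl
    exacts [this.1, this.2.1, this.2.2]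
  have hTT : ∀ t ∈ T, ∀ t' ∈ T, ¬ G.Adj t t' := by
    intro t ht t' ht'
    simp only [hT, mem_insert, mem_singleton] at ht ht'
    rcases ht with rfl | rfl | rfl <;> rcases ht' with rfl | rfl | rfl
    all_goals intro e
    exacts [e.ne rfl, hbc.2 e, hbd.2 e, hbc.2 e.symm, e.ne rfl, hcd.2 e, hbd.2 e.symm, hcd.2 e.symm,
      e.ne rfl]
  have hUU : ∀ u ∈ U, ∀ u' ∈ U, ¬ G.Adj u u' := fun u hu u' hu' =>
    no_triangle h (hUadj u hu).1 (hUadj u' hu').1
  have hfin : ∀ s ∈ S, f s = 3 := by
    intro s hs
    show ∑ w ∈ S, aI G s w = 3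
    rw [sum_union hTU]
    rcases mem_union.mp hs with hs | hs
    · rw [sum_eq_zero fun w hw => by simp [aI, hTT s hs w hw],
        sum_congr rfl (g := fun _ => (1 : ℤ)) fun w hw => by simp [aI, hTadj s hs w hw],
        sum_const, hU3]
      rfl
    · rw [sum_congr rfl (g := fun _ => (1 : ℤ)) (fun w hw => by simp [aI, (hTadj w hw s hs).symm]),
        sum_eq_zero (s := U) (fun w hw => by simp [aI, hUU s hs w hw]), sum_const, hT3]
      rfl
  have hScard : S.card = 6 := by rw [card_union_of_disjoint hTU, hT3, hU3]
  have h1 : ∑ z, f z = 96 := by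
    show ∑ z, ∑ w ∈ S, aI G z w = 96
    rw [sum_comm, sum_congr rfl (g := fun _ => (16 : ℤ)) fun w _ => ?_, sum_const, hScard]
    · rfl
    · rw [count_adj', inter_univ, h.deg]; rfl
  have h2 : ∑ z, f z * f z = 144 := by
    calc ∑ z, f z * f z = ∑ w ∈ S, ∑ w' ∈ S, ∑ z, aI G z w * aI G z w' := by
          simp only [f, sum_mul_sum]
          rw [sum_comm]
          exact sum_congr rfl fun w _ => sum_comm
      _ = ∑ w ∈ S, (4 * 6 + 12 - 4 * f w) := by
          refine sum_congr rfl fun w hw => ?_
          simp only [common_card h, sum_sub_distrib, sum_add_distrib, sum_ite_eq, if_pos hw,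
            sum_const, hScard, ← mul_sum, f]
          ring
      _ = _ := by
          rw [sum_congr rfl (g := fun _ => (24 : ℤ)) fun w hw => by rw [hfin w hw]; norm_num,
            sum_const, hScard]
          rfl
  have hge : ∀ z, 0 ≤ (f z - 1) * (f z - 2) := by
    intro z
    rcases le_or_gt (f z) 1 with h' | h'
    · exact mul_nonneg_of_nonpos_of_nonpos (by omega) (by omega)
    · exact mul_nonneg (by omega) (by omega)
  have hle := sum_le_sum_of_subset_of_nonneg (f := fun z => (f z - 1) * (f z - 2)) (subset_univ S)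
    (fun z _ _ => hge z)
  rw [sum_congr rfl (g := fun _ => (2 : ℤ)) fun z hz => by rw [hfin z hz]; norm_num, sum_const,
    hScard] at hle
  have e : ∀ z, (f z - 1) * (f z - 2) = f z * f z - 3 * f z + 2 := fun z => by ring
  rw [sum_congr rfl fun z _ => e z, sum_add_distrib, sum_sub_distrib, ← mul_sum, h1, h2, sum_const,
    card_univ, h.card] at hle
  norm_num at hle

/-- value of a vertex against a vertex far from the base -/
def vals (b c g : V) : ℤ := 2 * aI G g c + ∑ p ∈ G.neighborFinset b ∩ G.neighborFinset c, aI G g p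

omit h in
theorem vals_eq (b c g : V) : vals (G := G) b c g = 2 * aI G g c + (k3 G b c g : ℤ) := by
  rw [vals, k3]
  congr 1
  simp only [aI]
  rw [sum_boole]
  congr 2
  ext p
  simp [and_assoc]

/-- the difference vector of two collinear vertices -/
def diffVec (b c x : V) (z : V) : ℤ :=
  (if z = c then 2 else 0) + (if z ∈ G.neighborFinset b ∩ G.neighborFinset c then 1 else 0) -
    (if z = x then 2 else 0) - (if z ∈ G.neighborFinset b ∩ G.neighborFinset x then 1 else 0)

omit h in
theorem sum_diffVec (b c x : V) (f : V → ℤ) :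
    ∑ z, diffVec (G := G) b c x z * f z =
      2 * f c + ∑ p ∈ G.neighborFinset b ∩ G.neighborFinset c, f p -
      2 * f x - ∑ p ∈ G.neighborFinset b ∩ G.neighborFinset x, f p := by
  simp only [diffVec, add_mul, sub_mul, ite_mul, zero_mul, one_mul, sum_sub_distrib,
    sum_add_distrib, sum_ite_eq', mem_univ, if_true, sum_ite_mem, univ_inter]

omit h in
theorem app_diffVec (b c x z : V) :
    app G (diffVec (G := G) b c x) z = vals (G := G) b c z - vals (G := G) b x z := by
  have := sum_diffVec (G := G) b c x (fun w => aI G z w)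
  simp only [mul_comm (diffVec (G := G) b c x _)] at this
  rw [app, this, vals, vals]
  ring

theorem diffVec_eigen {b c x : V} (hc : Col G b c x) (z : V) :
    vals (G := G) b c z - vals (G := G) b x z = 2 * diffVec (G := G) b c x z := by
  rw [← app_diffVec]
  obtain ⟨hbc, hbx, hcx, h0⟩ := hc
  have hKc := h.mu b c hbc.1 hbc.2
  have hKx := h.mu b x hbx.1 hbx.2
  refine eigen_of_form h ?_ ?_ z
  · have := sum_diffVec (G := G) b c x (fun _ => 1)
    simp only [mul_one, sum_const, hKc, hKx, nsmul_eq_mul] at this
    rw [this]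
    norm_num
  · have hd : ∀ p ∈ G.neighborFinset b ∩ G.neighborFinset c,
        ¬ G.Adj p x ∧ p ≠ x ∧ p ∉ G.neighborFinset b ∩ G.neighborFinset x := by
      intro p hp
      simp only [mem_inter, SimpleGraph.mem_neighborFinset] at hp
      have hpx : ¬ G.Adj x p := fun e => by
        rw [k3, card_eq_zero] at h0
        have : p ∈ G.neighborFinset b ∩ G.neighborFinset c ∩ G.neighborFinset x := by simp [hp, e]
        rw [h0] at this
        exact notMem_empty p this
      exact ⟨fun e => hpx e.symm, fun e => hbx.2 (e ▸ hp.1), fun e => hpx (by simpa using (mem_inter.mp e).2)⟩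
    have hd' : ∀ p ∈ G.neighborFinset b ∩ G.neighborFinset x,
        ¬ G.Adj p c ∧ p ≠ c ∧ p ∉ G.neighborFinset b ∩ G.neighborFinset c := by
      intro p hp
      refine ⟨fun e => ?_, fun e => ?_, fun e => (hd p e).2.2 hp⟩
      · simp only [mem_inter, SimpleGraph.mem_neighborFinset] at hp
        exact (hd p (by simp [hp.1, e.symm])).1 hp.2.symm
      · simp only [mem_inter, SimpleGraph.mem_neighborFinset] at hp
        exact hbc.2 (e ▸ hp.1)
    have hA : ∀ p q, G.Adj b p → G.Adj b q → aI G p q = 0 := fun p q hp hq => by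
      simp [aI, no_triangle h hp hq]
    have fc : app G (diffVec (G := G) b c x) c = 4 := by
      rw [app_diffVec, vals, vals]
      simp only [show aI G c c = 0 by simp [aI], show aI G c x = 0 by simp [aI, hcx.2]]
      rw [sum_congr rfl (g := fun _ => (1 : ℤ)) (fun p hp => by
          simp only [mem_inter, SimpleGraph.mem_neighborFinset] at hp; simp [aI, hp.2]),
        sum_eq_zero (s := G.neighborFinset b ∩ G.neighborFinset x) (fun p hp => by
          simp [aI, show ¬ G.Adj c p from fun e => (hd' p hp).1 e.symm]),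
        sum_const, hKc]
      norm_num
    have fx : app G (diffVec (G := G) b c x) x = -4 := by
      rw [app_diffVec, vals, vals]
      simp only [show aI G x x = 0 by simp [aI],
        show aI G x c = 0 by simp [aI, (ind_symm hcx).2]]
      rw [sum_congr rfl (g := fun _ => (1 : ℤ)) (s₁ := G.neighborFinset b ∩ G.neighborFinset x)
          (fun p hp => by
          simp only [mem_inter, SimpleGraph.mem_neighborFinset] at hp; simp [aI, hp.2]),
        sum_eq_zero (s := G.neighborFinset b ∩ G.neighborFinset c) (fun p hp => by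
          simp [aI, show ¬ G.Adj x p from fun e => (hd p hp).1 e.symm]),
        sum_const, hKx]
      norm_num
    have fKc : ∀ p ∈ G.neighborFinset b ∩ G.neighborFinset c,
        app G (diffVec (G := G) b c x) p = 2 := by
      intro p hp
      have hp' := (mem_inter.mp hp)
      simp only [SimpleGraph.mem_neighborFinset] at hp'
      rw [app_diffVec, vals, vals, show aI G p c = 1 by simp [aI, hp'.2.symm],
        show aI G p x = 0 by simp [aI, (hd p hp).1],
        sum_eq_zero (fun q hq => hA p q hp'.1 (by simpa using (mem_inter.mp hq).1)),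
        sum_eq_zero (fun q hq => hA p q hp'.1 (by simpa using (mem_inter.mp hq).1))]
      norm_num
    have fKx : ∀ p ∈ G.neighborFinset b ∩ G.neighborFinset x,
        app G (diffVec (G := G) b c x) p = -2 := by
      intro p hp
      have hp' := (mem_inter.mp hp)
      simp only [SimpleGraph.mem_neighborFinset] at hp'
      rw [app_diffVec, vals, vals, show aI G p x = 1 by simp [aI, hp'.2.symm],
        show aI G p c = 0 by simp [aI, (hd' p hp).1],
        sum_eq_zero (fun q hq => hA p q hp'.1 (by simpa using (mem_inter.mp hq).1)),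
        sum_eq_zero (fun q hq => hA p q hp'.1 (by simpa using (mem_inter.mp hq).1))]
      norm_num
    have dc : diffVec (G := G) b c x c = 2 := by
      simp [diffVec, hcx.1, hbc.2, SimpleGraph.irrefl]
    have dx : diffVec (G := G) b c x x = -2 := by
      simp [diffVec, Ne.symm hcx.1, hbx.2, SimpleGraph.irrefl]
    have dKc : ∀ p ∈ G.neighborFinset b ∩ G.neighborFinset c, diffVec (G := G) b c x p = 1 := by
      intro p hp
      obtain ⟨-, hpx, hpK⟩ := hd p hp
      have hpc : p ≠ c := fun e => hbc.2 (e ▸ by simpa using (mem_inter.mp hp).1)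
      simp [diffVec, hpc, hpx, hp, hpK]
    have dKx : ∀ p ∈ G.neighborFinset b ∩ G.neighborFinset x, diffVec (G := G) b c x p = -1 := by
      intro p hp
      obtain ⟨-, hpc, hpK⟩ := hd' p hp
      have hpx : p ≠ x := fun e => hbx.2 (e ▸ by simpa using (mem_inter.mp hp).1)
      simp [diffVec, hpc, hpx, hp, hpK]
    rw [sum_diffVec b c x (app G (diffVec (G := G) b c x)),
      sum_diffVec b c x (diffVec (G := G) b c x), fc, fx, dc, dx, sum_congr rfl fKc,
      sum_congr rfl fKx, sum_congr rfl dKc, sum_congr rfl dKx, sum_const, sum_const, sum_const,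
      sum_const, hKc, hKx]
    norm_num

/-- Collinearity is transitive. -/
theorem col_trans {b c x y : V} (hx : Col G b c x) (hy : Col G b c y) (hne : x ≠ y) :
    Col G b x y := by
  have he := diffVec_eigen h hx y
  have hd : diffVec (G := G) b c x y = 0 := by
    simp [diffVec, Ne.symm hy.2.2.1.1, Ne.symm hne, hy.2.1.2]
  rw [hd, vals_eq, vals_eq, hy.2.2.2] at he
  have hcy : aI G y c = 0 := by simp [aI, (ind_symm hy.2.2.1).2]
  rw [hcy] at he
  by_cases hadj : G.Adj y x
  · simp [aI, hadj] at he
    omega
  · simp [aI, hadj] at he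
    exact ⟨hx.2.1, hy.2.1, ⟨hne, fun e => hadj e.symm⟩, by omega⟩

/-- the three vertices collinear with two given ones -/
def cols (b c : V) : Finset V := by classical exact univ.filter fun x => Col G b c x

omit h in
theorem mem_cols {b c x : V} : x ∈ cols (G := G) b c ↔ Col G b c x := by simp [cols]

theorem cols_card {b c : V} (hbc : Ind G b c) : (cols (G := G) b c).card = 3 := by
  classical
  set K := G.neighborFinset b ∩ G.neighborFinset c with hK
  have hK4 : K.card = 4 := h.mu b c hbc.1 hbc.2
  -- the vertices non-adjacent to both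
  set R := (univ \ (G.neighborFinset b ∪ G.neighborFinset c)) \ {b, c} with hR
  have hR47 : R.card = 47 := by
    have hu := card_union_add_card_inter (G.neighborFinset b) (G.neighborFinset c)
    rw [h.deg, h.deg, ← hK, hK4] at hu
    have hsub : ({b, c} : Finset V) ⊆ univ \ (G.neighborFinset b ∪ G.neighborFinset c) := by
      intro x hx
      simp only [mem_insert, mem_singleton] at hx
      rcases hx with rfl | rfl
      · simp [(ind_symm hbc).2]
      · simp [hbc.2]
    rw [hR, card_sdiff_of_subset hsub, card_sdiff_of_subset (subset_univ _), card_univ, h.card,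
      card_pair hbc.1]
    omega
  have memR : ∀ x, x ∈ R ↔ Ind G b x ∧ Ind G c x := by
    intro x
    simp [hR, Ind, not_or, eq_comm]
    tauto
  let f : V → ℤ := fun z => ∑ p ∈ K, aI G z p
  have hk : ∀ z, f z = (k3 G b c z : ℤ) := by
    intro z
    show ∑ p ∈ K, aI G z p = _
    rw [count_adj, k3, hK, inter_comm]
  have hz : ∀ z, z ∉ R → z ≠ b → z ≠ c → f z = 0 := by
    intro z hz hzb hzc
    refine sum_eq_zero fun p hp => ?_
    simp only [hK, mem_inter, SimpleGraph.mem_neighborFinset] at hp
    simp only [aI, ite_eq_right_iff, one_ne_zero, imp_false]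
    intro e
    rw [memR] at hz
    refine hz ⟨⟨Ne.symm hzb, fun e' => ?_⟩, ⟨Ne.symm hzc, fun e' => ?_⟩⟩
    · exact no_triangle h hp.1 e' e.symm
    · exact no_triangle h hp.2 e' e.symm
  have hfb : f b = 4 ∧ f c = 4 := by
    constructor <;>
    · simp only [f]
      rw [sum_congr rfl (g := fun _ => (1 : ℤ)) (fun p hp => by
        simp only [hK, mem_inter, SimpleGraph.mem_neighborFinset] at hp; simp [aI, hp.1, hp.2]),
        sum_const, hK4]
      rfl
  have hsplit : ∀ φ : ℤ → ℤ, φ 0 = 0 → ∑ z, φ (f z) = ∑ z ∈ R, φ (f z) + 2 * φ 4 := by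
    intro φ hφ
    have hsub : R ⊆ univ \ {b, c} := sdiff_subset_sdiff (subset_univ _) subset_rfl
    rw [← sum_sdiff (subset_univ ({b, c} : Finset V)), sum_pair hbc.1, hfb.1, hfb.2,
      ← sum_subset hsub (fun z hz1 hz2 => by
        simp only [mem_sdiff, mem_insert, mem_singleton, not_or] at hz1
        rw [hz z hz2 hz1.2.1 hz1.2.2, hφ])]
    ring
  have h1 : ∑ z, f z = 64 := by
    simp only [f]
    rw [sum_comm, sum_congr rfl (g := fun _ => (16 : ℤ)) fun p _ => ?_, sum_const, hK4]
    · rfl
    · rw [count_adj', inter_univ, h.deg]; rfl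
  have h2 : ∑ z, f z * f z = 112 := by
    calc ∑ z, f z * f z = ∑ p ∈ K, ∑ q ∈ K, ∑ z, aI G z p * aI G z q := by
          simp only [f, sum_mul_sum]
          rw [sum_comm]
          exact sum_congr rfl fun w _ => sum_comm
      _ = ∑ p ∈ K, (4 * 4 + 12 : ℤ) := by
          refine sum_congr rfl fun p hp => ?_
          have hnA : ∀ q ∈ K, aI G p q = 0 := fun q hq => by
            simp only [hK, mem_inter, SimpleGraph.mem_neighborFinset] at hp hq
            simp [aI, no_triangle h hp.1 hq.1]
          simp only [common_card h, sum_sub_distrib, sum_add_distrib, sum_ite_eq, if_pos hp,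
            sum_const, hK4, ← mul_sum]
          rw [sum_eq_zero hnA]
          norm_num
      _ = _ := by rw [sum_const, hK4]; rfl
  have e1 := hsplit id rfl
  have e2 := hsplit (fun t => t * t) rfl
  simp only [id] at e1
  rw [h1] at e1
  rw [h2] at e2
  have hrange : ∀ x ∈ R, (f x - 1) * (f x - 2) = if Col G b c x then (2 : ℤ) else 0 := by
    intro x hx
    obtain ⟨i1, i2⟩ := (memR x).mp hx
    have hle := k3_le_two h hbc i1 i2
    rw [hk]
    rcases (show k3 G b c x = 0 ∨ k3 G b c x = 1 ∨ k3 G b c x = 2 by omega) with e | e | e <;>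
      simp [Col, hbc, i1, i2, e]
  have hfil : cols (G := G) b c = R.filter fun x => Col G b c x := by
    ext x
    simp only [mem_cols, mem_filter, memR]
    exact ⟨fun e => ⟨⟨e.2.1, e.2.2.1⟩, e⟩, fun e => e.2⟩
  have hsum : ∑ x ∈ R, (f x - 1) * (f x - 2) = 6 := by
    have e : ∀ z, (f z - 1) * (f z - 2) = f z * f z - 3 * f z + 2 := fun z => by ring
    rw [sum_congr rfl fun z _ => e z, sum_add_distrib, sum_sub_distrib, ← mul_sum, sum_const, hR47]
    norm_num at e1 e2 ⊢
    linarith
  rw [sum_congr rfl hrange, ← sum_filter, sum_const, ← hfil, nsmul_eq_mul] at hsum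
  omega

/-- the class of `c` seen from `b` -/
def cls (b c : V) : Finset V := insert c (cols (G := G) b c)

theorem cls_card {b c : V} (hbc : Ind G b c) : (cls (G := G) b c).card = 4 := by
  rw [cls, card_insert_of_notMem (fun e => (mem_cols.mp e).2.2.1.1 rfl), cols_card h hbc]

omit h in
theorem cls_ind {b c x : V} (hbc : Ind G b c) (hx : x ∈ cls (G := G) b c) : Ind G b x := by
  rcases mem_insert.mp hx with rfl | hx
  · exact hbc
  · exact (mem_cols.mp hx).2.1

theorem cls_col {b c x y : V} (hx : x ∈ cls (G := G) b c)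
    (hy : y ∈ cls (G := G) b c) (hne : x ≠ y) : Col G b x y := by
  rcases mem_insert.mp hx with rfl | hx <;> rcases mem_insert.mp hy with rfl | hy
  · exact absurd rfl hne
  · exact mem_cols.mp hy
  · exact col_swap' (mem_cols.mp hx)
  · exact col_trans h (mem_cols.mp hx) (mem_cols.mp hy) hne

theorem cls_eq {b c x : V} (hbc : Ind G b c) (hx : x ∈ cls (G := G) b c) :
    cls (G := G) b x = cls (G := G) b c := by
  symm
  refine eq_of_subset_of_card_le (fun y hy => ?_)
    (by rw [cls_card h hbc, cls_card h (cls_ind hbc hx)])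
  by_cases e : y = x
  · exact e ▸ mem_insert_self _ _
  · exact mem_insert_of_mem (mem_cols.mpr (cls_col h hx hy (Ne.symm e)))

theorem vals_inv {b c x g : V} (hbc : Ind G b c) (hbg : Ind G b g) (hx : x ∈ cls (G := G) b c)
    (hg : g ∉ cls (G := G) b c) : vals (G := G) b x g = vals (G := G) b c g := by
  rcases mem_insert.mp hx with rfl | hx
  · rfl
  have hcol := mem_cols.mp hx
  have he := diffVec_eigen h hcol g
  have h1 : g ≠ c := fun e => hg (e ▸ mem_insert_self _ _)
  have h2 : g ≠ x := fun e => hg (e ▸ mem_insert_of_mem hx)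
  have hd : diffVec (G := G) b c x g = 0 := by simp [diffVec, h1, h2, hbg.2]
  rw [hd] at he
  linarith

omit h in
theorem vals_symm (b c g : V) : vals (G := G) b g c = vals (G := G) b c g := by
  rw [vals_eq, vals_eq, k3_swap' b g c]
  simp [aI, SimpleGraph.adj_comm]

/-- A vertex off a class has two neighbours there and value 2, or none and value 1. -/
theorem nbrs_in_cls {b c g : V} (hbc : Ind G b c) (hbg : Ind G b g)
    (hg : g ∉ cls (G := G) b c) :
    ((G.neighborFinset g ∩ cls (G := G) b c).card = 2 ∧ vals (G := G) b c g = 2) ∨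
    ((G.neighborFinset g ∩ cls (G := G) b c).card = 0 ∧ vals (G := G) b c g = 1) := by
  classical
  set P := cls (G := G) b c with hP
  set n := (G.neighborFinset g ∩ P).card with hn
  -- the sum of common neighbours over the class is four
  have hpart : ∑ x ∈ P, (∑ p ∈ G.neighborFinset b ∩ G.neighborFinset x, aI G g p) = 4 := by
    rw [← sum_biUnion]
    · have hA : P.biUnion (fun x => G.neighborFinset b ∩ G.neighborFinset x) = G.neighborFinset b := by
        refine eq_of_subset_of_card_le
          (fun p hp => by
            obtain ⟨x, -, hx⟩ := mem_biUnion.mp hp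
            exact (mem_inter.mp hx).1) ?_
        rw [card_biUnion, sum_congr rfl (g := fun _ => 4) fun x hx => h.mu b x (cls_ind hbc hx).1
          (cls_ind hbc hx).2, sum_const, cls_card h hbc, h.deg]
        · rfl
        · intro x hx y hy hne
          rw [Function.onFun, disjoint_iff_inter_eq_empty, ← inter_inter_distrib_left,
            ← card_eq_zero, ← inter_assoc]
          exact (cls_col h hx hy hne).2.2.2
      rw [hA]
      rw [count_adj, inter_comm, h.mu b g hbg.1 hbg.2]
      rfl
    · intro x hx y hy hne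
      rw [Function.onFun, disjoint_iff_inter_eq_empty, ← inter_inter_distrib_left, ← card_eq_zero,
        ← inter_assoc]
      exact (cls_col h hx hy hne).2.2.2
  have htot : ∑ x ∈ P, vals (G := G) b x g = 2 * n + 4 := by
    simp only [vals, sum_add_distrib, ← mul_sum, hpart]
    rw [count_adj, hn]
  rw [sum_congr rfl (fun x hx => vals_inv h hbc hbg hx hg), sum_const, show P.card = 4 from cls_card h hbc,
    nsmul_eq_mul] at htot
  -- no value is zero
  have hpos : ∀ x ∈ P, 1 ≤ vals (G := G) b x g := by
    intro x hx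
    rw [vals_eq]
    by_cases hadj : G.Adj g x
    · simp [aI, hadj]; omega
    · simp only [aI, if_neg hadj, mul_zero, zero_add]
      by_contra h0
      have hk : k3 G b x g = 0 := by omega
      apply hg
      rw [hP, ← cls_eq h hbc hx]
      refine mem_insert_of_mem (mem_cols.mpr ⟨cls_ind hbc hx, hbg, ⟨?_, fun e => hadj e.symm⟩, hk⟩)
      intro e
      exact hg (e ▸ hx)
  have h2 : ∀ x ∈ P, vals (G := G) b x g ≤ 2 := by
    intro x hx
    rw [vals_eq]
    by_cases hadj : G.Adj g x
    · simp only [aI, hadj, if_true]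
      have : k3 G b x g = 0 := by
        rw [k3, card_eq_zero, inter_assoc]
        have := h.lam x g hadj.symm
        rw [card_eq_zero] at this
        rw [this, inter_empty]
      omega
    · simp only [aI, if_neg hadj, mul_zero, zero_add]
      have hxg : x ≠ g := fun e => hg (e ▸ hx)
      have := k3_le_two h (cls_ind hbc hx) hbg ⟨hxg, fun e => hadj e.symm⟩
      omega
  have hc1 := hpos c (mem_insert_self _ _)
  have hc2 := h2 c (mem_insert_self _ _)
  rcases (show vals (G := G) b c g = 1 ∨ vals (G := G) b c g = 2 by omega) with e | e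
  · right
    rw [e] at htot
    push_cast at htot
    omega
  · left
    rw [e] at htot
    push_cast at htot
    omega

end H91.G77
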