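/- Cocliques of 21 vertices in a (77, 16, 0, 4) graph through the class graph of a vertex. -/
import Cfsg.Agent.H91.Srg77

set_option autoImplicit false

noncomputable section

namespace H91.G77

open Finset

variable {V : Type*} [Fintype V] [DecidableEq V] {G : SimpleGraph V} [DecidableRel G.Adj]

/-- the vertices far from `b` -/
def farC (G : SimpleGraph V) [DecidableRel G.Adj] (b : V) : Finset V :=
  univ \ insert b (G.neighborFinset b)

/-- the fifteen classes seen from `b` -/
def classes (G : SimpleGraph V) [DecidableRel G.Adj] (b : V) : Finset (Finset V) :=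
  (farC G b).image (cls (G := G) b)

/-- joined classes -/
def Joined (G : SimpleGraph V) (P Q : Finset V) : Prop := ∃ c ∈ P, ∃ g ∈ Q, G.Adj c g

theorem mem_farC {b c : V} : c ∈ farC G b ↔ Ind G b c := by
  simp [farC, Ind, not_or, eq_comm]

/-- the class graph -/
def clsGraph (G : SimpleGraph V) [DecidableRel G.Adj] (b : V) :
    SimpleGraph ↥(classes G b) where
  Adj P Q := P ≠ Q ∧ Joined G (P : Finset V) (Q : Finset V)
  symm := { symm := fun P Q e => ⟨e.1.symm, by
    obtain ⟨c, hc, g, hg, ha⟩ := e.2
    exact ⟨g, hg, c, hc, ha.symm⟩⟩ }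
  loopless := { irrefl := fun P e => e.1 rfl }

/-- a coclique of 21 vertices -/
def Is21 (G : SimpleGraph V) (X : Finset V) : Prop :=
  X.card = 21 ∧ ∀ x ∈ X, ∀ y ∈ X, ¬ G.Adj x y

variable (h : Params G)
include h

theorem farC_card (b : V) : (farC G b).card = 60 := by
  rw [farC, card_sdiff_of_subset (subset_univ _), card_insert_of_notMem (by simp), h.deg,
    card_univ, h.card]

omit h in
theorem self_mem_cls (b c : V) : c ∈ cls (G := G) b c := mem_insert_self _ _

theorem class_props {b : V} {P : Finset V} (hP : P ∈ classes G b) {c : V} (hc : c ∈ P) :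
    P = cls (G := G) b c ∧ Ind G b c := by
  obtain ⟨d, hd, rfl⟩ := mem_image.mp hP
  exact ⟨(cls_eq h (mem_farC.mp hd) hc).symm, cls_ind (mem_farC.mp hd) hc⟩

theorem class_card {b : V} {P : Finset V} (hP : P ∈ classes G b) : P.card = 4 := by
  obtain ⟨d, hd, rfl⟩ := mem_image.mp hP
  exact cls_card h (mem_farC.mp hd)

theorem class_coclique {b : V} {P : Finset V} (hP : P ∈ classes G b) :
    ∀ x ∈ P, ∀ y ∈ P, ¬ G.Adj x y := by
  intro x hx y hy hxy
  obtain ⟨d, hd, rfl⟩ := mem_image.mp hP
  exact (cls_col h hx hy hxy.ne).2.2.1.2 hxy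

theorem class_eq_of_mem {b : V} {P Q : Finset V} (hP : P ∈ classes G b) (hQ : Q ∈ classes G b)
    {c : V} (hc : c ∈ P) (hc' : c ∈ Q) : P = Q :=
  (class_props h hP hc).1.trans (class_props h hQ hc').1.symm

theorem classes_cover (b : V) : (classes G b).biUnion id = farC G b := by
  ext x
  simp only [mem_biUnion, id_eq]
  constructor
  · rintro ⟨P, hP, hx⟩
    exact mem_farC.mpr (class_props h hP hx).2
  · exact fun hx => ⟨_, mem_image_of_mem _ hx, self_mem_cls b x⟩

theorem classes_pairwise (b : V) :
    ((classes G b : Finset (Finset V)) : Set (Finset V)).PairwiseDisjoint id := by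
  intro P hP Q hQ hne
  rw [Function.onFun, disjoint_left]
  exact fun x hx hx' => hne (class_eq_of_mem h hP hQ hx hx')

theorem classes_card (b : V) : (classes G b).card = 15 := by
  have e := congrArg Finset.card (classes_cover h b)
  rw [card_biUnion (classes_pairwise h b), farC_card h,
    sum_congr rfl (g := fun _ => 4) fun P hP => show (id P).card = 4 from class_card h hP,
    sum_const, smul_eq_mul] at e
  omega

/-- Between two classes: no edges, or two at every vertex. -/
theorem edge_count {b : V} {P Q : Finset V} (hP : P ∈ classes G b) (hQ : Q ∈ classes G b)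
    (hne : P ≠ Q) {c : V} (hc : c ∈ Q) :
    (Joined G P Q → (G.neighborFinset c ∩ P).card = 2) ∧
    (¬ Joined G P Q → (G.neighborFinset c ∩ P).card = 0) := by
  constructor
  · rintro ⟨a, ha, g, hg, hag⟩
    obtain ⟨hQe, hbg⟩ := class_props h hQ hg
    obtain ⟨hPe, hba⟩ := class_props h hP ha
    obtain ⟨-, hbc⟩ := class_props h hQ hc
    have hgP : g ∉ P := fun e => hne (class_eq_of_mem h hP hQ e hg)
    have hcP : c ∉ P := fun e => hne (class_eq_of_mem h hP hQ e hc)
    have haQ : a ∉ Q := fun e => hne (class_eq_of_mem h hP hQ ha e)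
    rw [hPe] at hgP hcP ⊢
    rw [hQe] at hc haQ
    rcases nbrs_in_cls h hba hbg hgP with ⟨-, v2⟩ | ⟨n0, -⟩
    · rcases nbrs_in_cls h hba hbc hcP with ⟨n2, -⟩ | ⟨-, v1⟩
      · exact n2
      · exfalso
        rw [← vals_symm b a g] at v2
        rw [← vals_symm b a c, vals_inv h hbg hba hc haQ] at v1
        omega
    · exfalso
      rw [card_eq_zero] at n0
      have : a ∈ G.neighborFinset g ∩ cls (G := G) b a := by simp [hag.symm, self_mem_cls]
      rw [n0] at this
      exact notMem_empty a this
  · intro hno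
    rw [card_eq_zero, eq_empty_iff_forall_notMem]
    intro a ha
    simp only [mem_inter, SimpleGraph.mem_neighborFinset] at ha
    exact hno ⟨a, ha.2, c, hc, ha.1.symm⟩

theorem deg_six {b : V} {P : Finset V} (hP : P ∈ classes G b) [DecidablePred (Joined G P)] :
    (((classes G b).erase P).filter (Joined G P)).card = 6 := by
  classical
  obtain ⟨c, hc⟩ : P.Nonempty := card_pos.mp (by rw [class_card h hP]; norm_num)
  obtain ⟨-, hbc⟩ := class_props h hP hc
  have h12 : (G.neighborFinset c ∩ farC G b).card = 12 := by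
    have e : G.neighborFinset c ∩ farC G b = G.neighborFinset c \ G.neighborFinset b := by
      ext x
      simp only [mem_inter, mem_farC, Ind, SimpleGraph.mem_neighborFinset, mem_sdiff]
      exact ⟨fun hx => ⟨hx.1, hx.2.2⟩, fun hx => ⟨hx.1, fun e => hbc.2 (e ▸ hx.1.symm), hx.2⟩⟩
    have := card_inter_add_card_sdiff (G.neighborFinset c) (G.neighborFinset b)
    rw [h.deg, h.mu c b hbc.1.symm (ind_symm hbc).2] at this
    rw [e]
    omega
  rw [← classes_cover h b, inter_biUnion, card_biUnion (fun P hP Q hQ hne =>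
    (classes_pairwise h b hP hQ hne).mono inter_subset_right inter_subset_right)] at h12
  rw [← add_sum_erase _ _ hP,
    show (G.neighborFinset c ∩ id P).card = 0 by
      rw [card_eq_zero, eq_empty_iff_forall_notMem]
      intro x hx
      simp only [id_eq, mem_inter, SimpleGraph.mem_neighborFinset] at hx
      exact class_coclique h hP c hc x hx.2 hx.1,
    sum_congr rfl (g := fun Q => if Joined G P Q then 2 else 0) fun Q hQ => ?_, ← sum_filter,
    sum_const, smul_eq_mul] at h12
  · rw [zero_add] at h12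
    convert Nat.eq_of_mul_eq_mul_right two_pos (h12.trans (show 12 = 6 * 2 from rfl)) using 3
  · obtain ⟨hne, hQc⟩ := mem_erase.mp hQ
    simp only [id_eq]
    by_cases hj : Joined G P Q
    · rw [if_pos hj]
      obtain ⟨a, ha, g, hg, hag⟩ := hj
      exact (edge_count h hQc hP hne hc).1 ⟨g, hg, a, ha, hag.symm⟩
    · rw [if_neg hj]
      exact (edge_count h hQc hP hne hc).2 fun ⟨g, hg, a, ha, hga⟩ => hj ⟨a, ha, g, hg, hga.symm⟩

/-- Classes joined to two given ones. -/
theorem both_count {b : V} {P Q : Finset V} (hP : P ∈ classes G b) (hQ : Q ∈ classes G b)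
    (hne : P ≠ Q) [DecidablePred fun R : Finset V => R ≠ P ∧ R ≠ Q ∧ Joined G R P ∧ Joined G R Q]
    [Decidable (Joined G P Q)] :
    ((classes G b).filter fun R => R ≠ P ∧ R ≠ Q ∧ Joined G R P ∧ Joined G R Q).card =
      if Joined G P Q then 1 else 3 := by
  classical
  set F := (classes G b).filter fun R => R ≠ P ∧ R ≠ Q ∧ Joined G R P ∧ Joined G R Q
  -- count paths of length two between the classes inside the far part
  have hlhs : ∑ e ∈ farC G b, (G.neighborFinset e ∩ P).card * (G.neighborFinset e ∩ Q).card =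
      F.card * 16 := by
    rw [← classes_cover h b, sum_biUnion (classes_pairwise h b)]
    have : ∀ R ∈ classes G b,
        ∑ e ∈ id R, (G.neighborFinset e ∩ P).card * (G.neighborFinset e ∩ Q).card =
          if R ≠ P ∧ R ≠ Q ∧ Joined G R P ∧ Joined G R Q then 16 else 0 := by
      intro R hR
      have key : ∀ S ∈ classes G b, ∀ e ∈ R, (G.neighborFinset e ∩ S).card =
          if R ≠ S ∧ Joined G R S then 2 else 0 := by
        intro S hS e he
        by_cases hRS : R = S
        · subst hRS
          rw [if_neg (fun hh => hh.1 rfl), card_eq_zero, eq_empty_iff_forall_notMem]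
          intro x hx
          simp only [mem_inter, SimpleGraph.mem_neighborFinset] at hx
          exact class_coclique h hR e he x hx.2 hx.1
        by_cases hj : Joined G R S
        · rw [if_pos ⟨hRS, hj⟩]
          obtain ⟨a, ha, g, hg, hag⟩ := hj
          exact (edge_count h hS hR (Ne.symm hRS) he).1 ⟨g, hg, a, ha, hag.symm⟩
        · rw [if_neg (fun hh => hj hh.2)]
          exact (edge_count h hS hR (Ne.symm hRS) he).2
            fun ⟨g, hg, a, ha, hga⟩ => hj ⟨a, ha, g, hg, hga.symm⟩
      rw [id_eq, sum_congr rfl fun e he => by rw [key P hP e he, key Q hQ e he], sum_const,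
        class_card h hR]
      by_cases h1 : R ≠ P ∧ Joined G R P <;> by_cases h2 : R ≠ Q ∧ Joined G R Q <;>
        simp [h1, h2] <;> tauto
    rw [sum_congr rfl this, ← sum_filter, sum_const, smul_eq_mul]
  have hswap : ∑ e ∈ farC G b, (G.neighborFinset e ∩ P).card * (G.neighborFinset e ∩ Q).card =
      ∑ c ∈ P, ∑ g ∈ Q, (G.neighborFinset c ∩ G.neighborFinset g ∩ farC G b).card := by
    have e1 : ∀ e, (G.neighborFinset e ∩ P).card * (G.neighborFinset e ∩ Q).card =
        ∑ c ∈ P, ∑ g ∈ Q, if G.Adj e c ∧ G.Adj e g then 1 else 0 := by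
      intro e
      rw [show G.neighborFinset e ∩ P = P.filter (G.Adj e) by ext x; simp [and_comm],
        show G.neighborFinset e ∩ Q = Q.filter (G.Adj e) by ext x; simp [and_comm],
        card_filter, card_filter, sum_mul_sum]
      refine sum_congr rfl fun c _ => sum_congr rfl fun g _ => ?_
      by_cases u1 : G.Adj e c <;> by_cases u2 : G.Adj e g <;> simp [u1, u2]
    rw [sum_congr rfl fun e _ => e1 e, sum_comm]
    refine sum_congr rfl fun c _ => ?_
    rw [sum_comm]
    refine sum_congr rfl fun g _ => ?_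
    rw [← card_filter]
    congr 1
    ext x
    simp [SimpleGraph.adj_comm]
    tauto
  have hpairs : ∀ c ∈ P, ∀ g ∈ Q, (G.neighborFinset c ∩ G.neighborFinset g ∩ farC G b).card =
      if G.Adj c g then 0 else if Joined G P Q then 2 else 3 := by
    intro c hc g hg
    obtain ⟨hPe, hbc⟩ := class_props h hP hc
    obtain ⟨-, hbg⟩ := class_props h hQ hg
    have hgP : g ∉ P := fun e => hne (class_eq_of_mem h hP hQ e hg)
    have hcg : c ≠ g := fun e => hne (class_eq_of_mem h hP hQ hc (e ▸ hg))
    by_cases hadj : G.Adj c g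
    · rw [if_pos hadj]
      have := h.lam c g hadj
      rw [card_eq_zero] at this
      simp [this]
    rw [if_neg hadj]
    have hs : G.neighborFinset c ∩ G.neighborFinset g ∩ farC G b =
        (G.neighborFinset c ∩ G.neighborFinset g) \ G.neighborFinset b := by
      ext x
      simp only [mem_inter, mem_farC, Ind, SimpleGraph.mem_neighborFinset, mem_sdiff]
      exact ⟨fun hx => ⟨hx.1, hx.2.2⟩,
        fun hx => ⟨hx.1, fun e => hbc.2 (e ▸ hx.1.1.symm), hx.2⟩⟩
    have hcs := card_inter_add_card_sdiff (G.neighborFinset c ∩ G.neighborFinset g)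
      (G.neighborFinset b)
    rw [h.mu c g hcg hadj, show (G.neighborFinset c ∩ G.neighborFinset g ∩ G.neighborFinset b).card =
      k3 G b c g by rw [k3, inter_comm _ (G.neighborFinset b), inter_assoc]] at hcs
    have hv := vals_eq (G := G) b c g
    rw [show aI G g c = 0 by simp [aI, G.adj_comm g c, hadj]] at hv
    have hec := edge_count h hP hQ hne hg
    rw [hPe] at hgP
    rcases nbrs_in_cls h hbc hbg hgP with ⟨n2, v2⟩ | ⟨n0, v1⟩
    · rw [if_pos (by
        by_contra hj
        have := hec.2 hj
        rw [hPe, n2] at this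
        omega), hs]
      omega
    · rw [if_neg (fun hj => by
        have := hec.1 hj
        rw [hPe, n0] at this
        omega), hs]
      omega
  rw [hlhs] at hswap
  rw [sum_congr rfl fun c hc => sum_congr rfl fun g hg => hpairs c hc g hg] at hswap
  by_cases hj : Joined G P Q
  · rw [if_pos hj]
    simp only [if_pos hj] at hswap
    have h8 : ∀ c ∈ P, ∑ g ∈ Q, (if G.Adj c g then 0 else 2) = 4 := by
      intro c hc
      obtain ⟨a, ha, g, hg, hag⟩ := hj
      have h2 := (edge_count h hQ hP hne.symm hc).1 ⟨g, hg, a, ha, hag.symm⟩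
      rw [sum_ite, sum_const_zero, zero_add, sum_const, smul_eq_mul]
      have h3 := card_filter_add_card_filter_not (s := Q) (fun g => G.Adj c g)
      rw [show (Q.filter fun g => G.Adj c g) = G.neighborFinset c ∩ Q by ext x; simp [and_comm],
        h2, class_card h hQ] at h3
      omega
    rw [sum_congr rfl h8, sum_const, class_card h hP, smul_eq_mul] at hswap
    omega
  · rw [if_neg hj]
    have h12 : ∀ c ∈ P, ∑ g ∈ Q, (if G.Adj c g then 0 else if Joined G P Q then 2 else 3) = 12 := by
      intro c hc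
      rw [sum_congr rfl (g := fun _ => 3) fun g hg => by
        rw [if_neg (fun e => hj ⟨c, hc, g, hg, e⟩), if_neg hj], sum_const, class_card h hQ]
      rfl
    rw [sum_congr rfl h12, sum_const, class_card h hP, smul_eq_mul] at hswap
    omega

theorem clsGraph_params (b : V) [DecidableRel (clsGraph G b).Adj] :
    T6.Params (clsGraph G b) := by
  classical
  have nbr : ∀ P : ↥(classes G b), ((clsGraph G b).neighborFinset P).map
      (Function.Embedding.subtype _) = ((classes G b).erase P.1).filter (Joined G P.1) := by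
    intro P
    ext R
    simp only [mem_map, SimpleGraph.mem_neighborFinset, Function.Embedding.coe_subtype, mem_filter,
      mem_erase]
    constructor
    · rintro ⟨Q, hQ, rfl⟩
      exact ⟨⟨fun e => hQ.1 (Subtype.ext e.symm), Q.2⟩, hQ.2⟩
    · rintro ⟨⟨hne, hR⟩, hj⟩
      exact ⟨⟨R, hR⟩, ⟨fun e => hne (congrArg Subtype.val e.symm), hj⟩, rfl⟩
  have jsymm : ∀ P Q : Finset V, Joined G P Q → Joined G Q P :=
    fun P Q ⟨a, ha, g, hg, hag⟩ => ⟨g, hg, a, ha, hag.symm⟩
  have common : ∀ P Q : ↥(classes G b), P ≠ Q →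
      ((clsGraph G b).neighborFinset P ∩ (clsGraph G b).neighborFinset Q).card =
        if Joined G P.1 Q.1 then 1 else 3 := by
    intro P Q hne
    rw [← both_count h P.2 Q.2 (fun e => hne (Subtype.ext e)),
      ← card_map (Function.Embedding.subtype _), map_inter, nbr, nbr]
    congr 1
    ext R
    simp only [mem_inter, mem_filter, mem_erase]
    exact ⟨fun hR => ⟨hR.1.1.2, hR.1.1.1, hR.2.1.1, jsymm _ _ hR.1.2, jsymm _ _ hR.2.2⟩,
      fun hR => ⟨⟨⟨hR.2.1, hR.1⟩, jsymm _ _ hR.2.2.2.1⟩, ⟨hR.2.2.1, hR.1⟩, jsymm _ _ hR.2.2.2.2⟩⟩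
  refine ⟨by rw [Fintype.card_coe, classes_card h b], fun P => ?_, fun P Q hPQ => ?_,
    fun P Q hne hPQ => ?_⟩
  · rw [← card_map (Function.Embedding.subtype _), nbr, deg_six h P.2]
  · rw [common P Q hPQ.1, if_pos hPQ.2]
  · rw [common P Q hne, if_neg (fun e => hPQ ⟨hne, e⟩)]

/-- Outside a 21-coclique every vertex has six neighbours in it. -/
theorem coclique_six {X : Finset V} (hX : Is21 G X) (z : V) :
    ∑ w ∈ X, aI G z w = if z ∈ X then 0 else 6 := by
  classical
  by_cases hz : z ∈ X
  · rw [if_pos hz]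
    exact sum_eq_zero fun w hw => by simp [aI, hX.2 z hz w hw]
  rw [if_neg hz]
  let f : V → ℤ := fun z => ∑ w ∈ X, aI G z w
  have h1 : ∑ z, f z = 336 := by
    simp only [f]
    rw [sum_comm, sum_congr rfl (g := fun _ => (16 : ℤ)) fun w _ => ?_, sum_const, hX.1]
    · rfl
    · rw [count_adj', inter_univ, h.deg]; rfl
  have h2 : ∑ z, f z * f z = 2016 := by
    calc ∑ z, f z * f z = ∑ p ∈ X, ∑ q ∈ X, ∑ z, aI G z p * aI G z q := by
          simp only [f, sum_mul_sum]
          rw [sum_comm]
          exact sum_congr rfl fun w _ => sum_comm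
      _ = ∑ p ∈ X, (4 * 21 + 12 : ℤ) := by
          refine sum_congr rfl fun p hp => ?_
          simp only [common_card h, sum_sub_distrib, sum_add_distrib, sum_ite_eq, if_pos hp,
            sum_const, hX.1, ← mul_sum]
          rw [sum_eq_zero (fun q hq => by simp [aI, hX.2 p hp q hq])]
          norm_num
      _ = _ := by rw [sum_const, hX.1]; rfl
  have hzero : ∀ w ∈ X, f w = 0 := fun w hw => sum_eq_zero fun u hu => by simp [aI, hX.2 w hw u hu]
  have hout : ∑ w ∈ univ \ X, (f w - 6) ^ 2 = 0 := by
    have e : ∀ w, (f w - 6) ^ 2 = f w * f w - 12 * f w + 36 := fun w => by ring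
    rw [sum_congr rfl fun w _ => e w, sum_add_distrib, sum_sub_distrib, ← mul_sum, sum_const,
      card_sdiff_of_subset (subset_univ _), card_univ, h.card, hX.1,
      sum_sdiff_eq_sub (subset_univ X), sum_sdiff_eq_sub (subset_univ X), h1, h2,
      sum_congr rfl (fun w hw => by rw [hzero w hw, mul_zero] : ∀ w ∈ X, f w * f w = (0 : ℤ)),
      sum_congr rfl hzero]
    norm_num
  have := (sum_eq_zero_iff_of_nonneg fun w _ => sq_nonneg (f w - 6)).mp hout z (by simp [hz])
  have := pow_eq_zero_iff (n := 2) (by norm_num) |>.mp this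
  show f z = 6
  omega

/-- Classes lie inside or outside a coclique through the base vertex. -/
theorem coclique_class {X : Finset V} (hX : Is21 G X) {b c x : V} (hb : b ∈ X) (hc : c ∈ X)
    (hcol : Col G b c x) : x ∈ X := by
  classical
  have hswap : ∑ z ∈ X, app G (diffVec (G := G) b c x) z =
      6 * ∑ w, diffVec (G := G) b c x w - 6 * ∑ w ∈ X, diffVec (G := G) b c x w := by
    simp only [app]
    rw [sum_comm]
    have : ∀ w, ∑ z ∈ X, aI G z w * diffVec (G := G) b c x w =
        6 * diffVec (G := G) b c x w - (if w ∈ X then 6 * diffVec (G := G) b c x w else 0) := by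
      intro w
      rw [← sum_mul, show ∑ z ∈ X, aI G z w = ∑ z ∈ X, aI G w z from
        sum_congr rfl fun z _ => by simp [aI, SimpleGraph.adj_comm], coclique_six h hX w]
      split_ifs <;> ring
    rw [sum_congr rfl fun w _ => this w, sum_sub_distrib, sum_ite_mem, univ_inter, ← mul_sum,
      ← mul_sum]
  have hsum0 : ∑ w, diffVec (G := G) b c x w = 0 := by
    have := sum_diffVec (G := G) b c x (fun _ => 1)
    simp only [mul_one, sum_const, h.mu b c hcol.1.1 hcol.1.2, h.mu b x hcol.2.1.1 hcol.2.1.2,
      nsmul_eq_mul] at this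
    rw [this]
    norm_num
  rw [sum_congr rfl fun z _ => by rw [app_diffVec, diffVec_eigen h hcol z], ← mul_sum, hsum0]
    at hswap
  have hX0 : ∑ w ∈ X, diffVec (G := G) b c x w = 0 := by omega
  by_contra hxX
  have hK : ∀ w ∈ X, w ∉ G.neighborFinset b := fun w hw e => hX.2 b hb w hw (by simpa using e)
  have hval : ∑ w ∈ X, diffVec (G := G) b c x w = 2 := by
    rw [← add_sum_erase _ _ hc, sum_eq_zero (fun w hw => ?_), add_zero]
    · simp [diffVec, hcol.2.2.1.1, hcol.1.2]
    · obtain ⟨hwc, hw⟩ := mem_erase.mp hw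
      have hwx : w ≠ x := fun e => hxX (e ▸ hw)
      have hn : ¬ G.Adj b w := by simpa using hK w hw
      simp [diffVec, hwc, hwx, hn]
  omega

/-- The cocliques through `b` correspond to five-element cocliques of classes. -/
theorem coclique_count_pair {b c : V} (hbc : Ind G b c) [DecidablePred (Is21 G)] :
    ((univ.powersetCard 21).filter fun X => Is21 G X ∧ b ∈ X ∧ c ∈ X).card = 2 := by
  classical
  have hPmem : cls (G := G) b c ∈ classes G b := mem_image_of_mem _ (mem_farC.mpr hbc)
  rw [← T6.five_count (clsGraph_params h b) ⟨_, hPmem⟩]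
  let down : Finset V → Finset ↥(classes G b) := fun X =>
    univ.filter fun P => P.1 ⊆ X
  let up : Finset ↥(classes G b) → Finset V := fun S => insert b (S.biUnion fun P => P.1)
  have hfull : ∀ X, Is21 G X → b ∈ X → ∀ x ∈ X, x ≠ b →
      cls (G := G) b x ⊆ X ∧ x ∈ farC G b := by
    intro X hX hb x hx hxb
    have hi : Ind G b x := ⟨hxb.symm, hX.2 b hb x hx⟩
    refine ⟨fun y hy => ?_, mem_farC.mpr hi⟩
    rcases mem_insert.mp hy with rfl | hy
    · exact hx
    · exact coclique_class h hX hb hx (mem_cols.mp hy)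
  have hud : ∀ X, Is21 G X → b ∈ X → up (down X) = X := by
    intro X hX hb
    ext x
    simp only [up, down, mem_insert, mem_biUnion, mem_filter, mem_univ, true_and]
    constructor
    · rintro (rfl | ⟨P, hP, hx⟩)
      · exact hb
      · exact hP hx
    · intro hx
      by_cases hxb : x = b
      · exact Or.inl hxb
      · obtain ⟨hsub, hfar⟩ := hfull X hX hb x hx hxb
        exact Or.inr ⟨⟨_, mem_image_of_mem _ hfar⟩, hsub, self_mem_cls b x⟩
  have hupcard : ∀ S : Finset ↥(classes G b), (up S).card = 1 + 4 * S.card := by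
    intro S
    show (insert b (S.biUnion fun P => P.1)).card = _
    rw [card_insert_of_notMem (fun e => ?_), card_biUnion (s := S) (t := fun P => P.1) (fun P _ Q _ hne =>
      classes_pairwise h b P.2 Q.2 (fun e => hne (Subtype.ext e))),
      sum_congr rfl (g := fun _ => 4) fun P _ => class_card h P.2, sum_const, smul_eq_mul]
    · ring
    · obtain ⟨P, -, hP⟩ := mem_biUnion.mp e
      exact (class_props h P.2 hP).2.1 rfl
  have hdu : ∀ S, down (up S) = S := by
    intro S
    ext P
    simp only [up, down, mem_filter, mem_univ, true_and]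
    constructor
    · intro hsub
      obtain ⟨x, hx⟩ : P.1.Nonempty := card_pos.mp (by rw [class_card h P.2]; norm_num)
      rcases mem_insert.mp (hsub hx) with rfl | hx'
      · exact absurd rfl (class_props h P.2 hx).2.1
      · obtain ⟨Q, hQ, hxQ⟩ := mem_biUnion.mp hx'
        rwa [show P = Q from Subtype.ext (class_eq_of_mem h P.2 Q.2 hx hxQ)]
    · exact fun hP x hx => mem_insert_of_mem (mem_biUnion.mpr ⟨P, hP, hx⟩)
  have hdown : ∀ X, Is21 G X → b ∈ X → T6.IsFive (clsGraph G b) (down X) := by
    intro X hX hb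
    refine ⟨?_, fun P hP Q hQ hPQ => ?_⟩
    · have := hupcard (down X)
      rw [hud X hX hb, hX.1] at this
      omega
    · obtain ⟨-, a, ha, g, hg, hag⟩ := hPQ
      exact hX.2 a ((mem_filter.mp hP).2 ha) g ((mem_filter.mp hQ).2 hg) hag
  have hupI : ∀ S, T6.IsFive (clsGraph G b) S → Is21 G (up S) := by
    intro S hS
    refine ⟨by rw [hupcard, hS.1], fun x hx y hy hxy => ?_⟩
    simp only [up, mem_insert, mem_biUnion] at hx hy
    rcases hx with rfl | ⟨P, hP, hx⟩ <;> rcases hy with rfl | ⟨Q, hQ, hy⟩
    · exact hxy.ne rfl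
    · exact (class_props h Q.2 hy).2.2 hxy
    · exact (class_props h P.2 hx).2.2 hxy.symm
    · by_cases e : P = Q
      · subst e; exact class_coclique h P.2 x hx y hy hxy
      · exact hS.2 P hP Q hQ ⟨e, x, hx, y, hy, hxy⟩
  refine card_bij' (fun X _ => down X) (fun S _ => up S) ?_ ?_ ?_ ?_
  · intro X hX
    simp only [mem_filter] at hX ⊢
    refine ⟨mem_powersetCard.mpr ⟨subset_univ _, (hdown X hX.2.1 hX.2.2.1).1⟩,
      hdown X hX.2.1 hX.2.2.1, ?_⟩
    simp only [down, mem_filter, mem_univ, true_and]
    exact (hfull X hX.2.1 hX.2.2.1 c hX.2.2.2 hbc.1.symm).1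
  · intro S hS
    simp only [mem_filter] at hS ⊢
    refine ⟨mem_powersetCard.mpr ⟨subset_univ _, (hupI S hS.2.1).1⟩, hupI S hS.2.1,
      mem_insert_self _ _, ?_⟩
    exact mem_insert_of_mem (mem_biUnion.mpr ⟨_, hS.2.2, self_mem_cls b c⟩)
  · intro X hX
    simp only [mem_filter] at hX
    exact hud X hX.2.1 hX.2.2.1
  · exact fun S _ => hdu S

theorem coclique_count_one (b : V) [DecidablePred (Is21 G)] :
    ((univ.powersetCard 21).filter fun X => Is21 G X ∧ b ∈ X).card = 6 := by
  classical
  set F := (univ.powersetCard 21).filter fun X => Is21 G X ∧ b ∈ X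
  have hmul := Finset.sum_card_bipartiteAbove_eq_sum_card_bipartiteBelow
    (s := F) (t := farC G b) (fun (X : Finset V) (c : V) => c ∈ X)
  have l1 : ∀ X ∈ F, ((farC G b).bipartiteAbove (fun (X : Finset V) (c : V) => c ∈ X) X).card = 20 := by
    intro X hX
    simp only [F, mem_filter] at hX
    rw [show (farC G b).bipartiteAbove (fun (X : Finset V) (c : V) => c ∈ X) X = X.erase b by
      ext c
      simp only [bipartiteAbove, mem_filter, mem_farC, mem_erase, Ind]
      exact ⟨fun hh => ⟨hh.1.1.symm, hh.2⟩, fun hh => ⟨⟨hh.1.symm, hX.2.1.2 b hX.2.2 c hh.2⟩, hh.2⟩⟩,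
      card_erase_of_mem hX.2.2, hX.2.1.1]
  have l2 : ∀ c ∈ farC G b,
      (F.bipartiteBelow (fun (X : Finset V) (c : V) => c ∈ X) c).card = 2 := by
    intro c hc
    rw [← coclique_count_pair h (mem_farC.mp hc)]
    congr 1
    ext X
    simp [bipartiteBelow, F]
    tauto
  rw [sum_congr rfl l1, sum_congr rfl l2, sum_const, sum_const, farC_card h, smul_eq_mul,
    smul_eq_mul] at hmul
  omega

end H91.G77
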