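/- Strongly regular graphs with parameters (77, 16, 0, 4) are block graphs of S(3,6,22). -/
import Cfsg.Agent.H90.SteinerCode
import Cfsg.Agent.H91.S3622
import Cfsg.Agent.H91.Srg77Classes

set_option autoImplicit false

noncomputable section

namespace H91.G77

open Finset

theorem disjoint_iff_adj {α : Type*} {B : Set (Finset α)}
    (hne : ∀ b ∈ B, (b : Finset α).Nonempty) (b c : B) :
    (Cfsg.blockGraph B).Adj b c ↔ Disjoint (b : Finset α) (c : Finset α) :=
  by
  simp only [Cfsg.blockGraph, SimpleGraph.fromRel_adj]
  constructor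
  · rintro ⟨-, h | h⟩
    · exact h
    · exact h.symm
  · intro h
    refine ⟨?_, Or.inl h⟩
    rintro rfl
    exact (hne b b.2).ne_empty ((disjoint_self_iff_empty _).mp h)

/-- Isomorphic set systems have isomorphic block graphs. -/
theorem blockGraph_iso {α β : Type*} [DecidableEq β] {B : Set (Finset α)} {D : Set (Finset β)}
    (hne : ∀ b ∈ B, (b : Finset α).Nonempty) (e : α ≃ β) (h : (fun b => b.image e) '' B = D) :
    Nonempty (Cfsg.blockGraph B ≃g Cfsg.blockGraph D) := by
  subst h
  have hne' : ∀ b ∈ (fun b => b.image e) '' B, (b : Finset β).Nonempty := by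
    rintro _ ⟨b, hb, rfl⟩
    exact (hne b hb).image e
  refine ⟨⟨Equiv.Set.image _ B (Finset.image_injective e.injective), ?_⟩⟩
  intro x y
  rw [disjoint_iff_adj hne', disjoint_iff_adj hne]
  exact disjoint_image e.injective

variable {V : Type*} [Fintype V] [DecidableEq V] {G : SimpleGraph V} [DecidableRel G.Adj]

theorem params_of_srg (hG : G.IsSRGWith 77 16 0 4) : Params G := by
  have hc : ∀ v w, (G.neighborFinset v ∩ G.neighborFinset w).card =
      Fintype.card (G.commonNeighbors v w) := by
    intro v w
    rw [← Set.toFinset_card]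
    congr 1
    ext z
    simp [SimpleGraph.mem_commonNeighbors]
  exact ⟨hG.card, fun v => by rw [SimpleGraph.card_neighborFinset_eq_degree]; exact hG.regular v,
    fun v w h => (hc v w).trans (hG.of_adj v w h),
    fun v w hne h => (hc v w).trans (hG.of_not_adj hne h)⟩

/-- A (77, 16, 0, 4) graph is the block graph of the system S(3,6,22). -/
theorem srg77_iso_model (hG : G.IsSRGWith 77 16 0 4) :
    Nonempty (G ≃g Cfsg.blockGraph H90.model22) := by
  classical
  have h := params_of_srg hG
  set 𝒳 := ((univ : Finset V).powersetCard 21).filter (Is21 G) with h𝒳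
  have h1 : ∀ b, (𝒳.filter fun X => b ∈ X).card = 6 := fun b => by
    rw [h𝒳, filter_filter]; exact coclique_count_one h b
  have h22 : 𝒳.card = 22 := by
    have hmul := Finset.sum_card_bipartiteAbove_eq_sum_card_bipartiteBelow
      (s := 𝒳) (t := (univ : Finset V)) (fun (X : Finset V) (c : V) => c ∈ X)
    have l1 : ∀ X ∈ 𝒳,
        ((univ : Finset V).bipartiteAbove (fun (X : Finset V) (c : V) => c ∈ X) X).card = 21 := by
      intro X hX
      simp only [h𝒳, mem_filter] at hX
      rw [← hX.2.1]
      congr 1
      ext c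
      simp [bipartiteAbove]
    have l2 : ∀ c ∈ (univ : Finset V),
        (𝒳.bipartiteBelow (fun (X : Finset V) (c : V) => c ∈ X) c).card = 6 := fun c _ => h1 c
    rw [sum_congr rfl l1, sum_congr rfl l2, sum_const, sum_const, card_univ, h.card, smul_eq_mul,
      smul_eq_mul] at hmul
    omega
  let bk : V → Finset ↥𝒳 := fun b => univ.filter fun X => b ∈ X.1
  have hmap : ∀ b, (bk b).map (Function.Embedding.subtype _) = 𝒳.filter fun X => b ∈ X := by
    intro b
    ext X
    simp [bk, and_comm]
  have hbk : ∀ b, (bk b).card = 6 := fun b => by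
    rw [← card_map (Function.Embedding.subtype _), hmap, h1]
  have hadj0 : ∀ b c, G.Adj b c → Disjoint (bk b) (bk c) := by
    intro b c hbc
    rw [disjoint_left]
    intro X hX hX'
    simp only [bk, mem_filter] at hX hX'
    have hmem := X.2
    simp only [h𝒳, mem_filter] at hmem
    exact hmem.2.2 b hX.2 c hX'.2 hbc
  have hnadj2 : ∀ b c, b ≠ c → ¬ G.Adj b c → (bk b ∩ bk c).card = 2 := by
    intro b c hne hn
    rw [← card_map (Function.Embedding.subtype _), map_inter, hmap, hmap, ← filter_and, h𝒳,
      filter_filter]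
    exact coclique_count_pair h ⟨hne, hn⟩
  have hle : ∀ b c, b ≠ c → (bk b ∩ bk c).card ≤ 2 := by
    intro b c hne
    by_cases hbc : G.Adj b c
    · rw [disjoint_iff_inter_eq_empty.mp (hadj0 b c hbc)]; simp
    · exact (hnadj2 b c hne hbc).le
  have hinj : Function.Injective bk := by
    intro b c e
    by_contra hne
    have := hle b c hne
    rw [e, inter_self, hbk c] at this
    omega
  let B : Set (Finset ↥𝒳) := Set.range bk
  have hαcard : Fintype.card ↥𝒳 = 22 := by rw [Fintype.card_coe]; exact h22
  have hB : Cfsg.IsSteinerSystem 3 6 B := by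
    refine ⟨?_, fun s hs => ?_⟩
    · rintro _ ⟨b, rfl⟩; exact hbk b
    have hcover : (univ : Finset V).biUnion (fun b => (bk b).powersetCard 3) =
        (univ : Finset ↥𝒳).powersetCard 3 := by
      refine eq_of_subset_of_card_le (fun t ht => ?_) ?_
      · obtain ⟨b, -, hb⟩ := mem_biUnion.mp ht
        exact mem_powersetCard.mpr ⟨subset_univ _, (mem_powersetCard.mp hb).2⟩
      · rw [card_biUnion, sum_congr rfl (g := fun _ => 20) fun b _ => ?_, sum_const,
          card_univ, h.card, card_powersetCard, card_univ, hαcard]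
        · decide +kernel
        · rw [card_powersetCard, hbk b]; rfl
        · intro b _ c _ hne
          rw [Function.onFun, disjoint_left]
          intro t ht ht'
          rw [mem_powersetCard] at ht ht'
          have h1 := hle b c hne
          have h2 := card_le_card (subset_inter ht.1 ht'.1)
          omega
    have hs' : s ∈ (univ : Finset V).biUnion (fun b => (bk b).powersetCard 3) := by
      rw [hcover]; exact mem_powersetCard.mpr ⟨subset_univ _, hs⟩
    obtain ⟨b, -, hsb⟩ := mem_biUnion.mp hs'
    refine ⟨bk b, ⟨⟨b, rfl⟩, (mem_powersetCard.mp hsb).1⟩, ?_⟩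
    rintro _ ⟨⟨c, rfl⟩, hsc⟩
    by_contra hne
    have h1 := hle c b (fun e => hne (by rw [e]))
    have h2 := card_le_card (subset_inter hsc (mem_powersetCard.mp hsb).1)
    omega
  obtain ⟨e, he⟩ := H90.s22_iso hαcard hB
  have hne := H91.steiner_nonempty hB
  obtain ⟨i2⟩ := blockGraph_iso hne e he
  refine ⟨(⟨Equiv.ofInjective bk hinj, ?_⟩ : G ≃g Cfsg.blockGraph B).trans i2⟩
  intro a b
  rw [disjoint_iff_adj hne]
  show Disjoint (bk a) (bk b) ↔ _
  constructor
  · intro hd
    by_contra hab
    by_cases he : a = b
    · subst he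
      rw [disjoint_self_iff_empty] at hd
      have := hbk a
      simp [hd] at this
    · have := hnadj2 a b he hab
      rw [disjoint_iff_inter_eq_empty.mp hd] at this
      simp at this
  · exact hadj0 a b

end H91.G77
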