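/- Strongly regular graphs with parameters (100, 22, 0, 6) are point-block graphs. -/
import Cfsg.Agent.H90.SteinerCode
import Cfsg.Agent.H91.S3622

set_option autoImplicit false

noncomputable section

namespace H91.Srg

open Finset

theorem pointBlock_adj {α : Type*} {B : Set (Finset α)} (hne : ∀ b ∈ B, (b : Finset α).Nonempty)
    (a a' : α) (b b' : B) :
    ((Cfsg.pointBlockGraph B).Adj none (some (Sum.inl a))) ∧
    ((Cfsg.pointBlockGraph B).Adj (some (Sum.inl a)) none) ∧
    (¬ (Cfsg.pointBlockGraph B).Adj none (some (Sum.inr b))) ∧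
    (¬ (Cfsg.pointBlockGraph B).Adj (some (Sum.inr b)) none) ∧
    (¬ (Cfsg.pointBlockGraph B).Adj (some (Sum.inl a)) (some (Sum.inl a'))) ∧
    ((Cfsg.pointBlockGraph B).Adj (some (Sum.inl a)) (some (Sum.inr b)) ↔ a ∈ (b : Finset α)) ∧
    ((Cfsg.pointBlockGraph B).Adj (some (Sum.inr b)) (some (Sum.inl a)) ↔ a ∈ (b : Finset α)) ∧
    ((Cfsg.pointBlockGraph B).Adj (some (Sum.inr b)) (some (Sum.inr b')) ↔
      Disjoint (b : Finset α) (b' : Finset α)) := by
  have hd : Disjoint (b : Finset α) (b' : Finset α) → b ≠ b' := by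
    rintro h rfl
    exact (hne b b.2).ne_empty ((disjoint_self_iff_empty _).mp h)
  simp only [Cfsg.pointBlockGraph, SimpleGraph.fromRel_adj, Cfsg.pointBlockRel]
  refine ⟨by simp, by simp, by simp, by simp, by simp, by simp, by simp, ?_⟩
  constructor
  · rintro ⟨-, h | h⟩
    · exact h
    · exact h.symm
  · intro h
    exact ⟨by simpa using hd h, Or.inl h⟩

/-- Isomorphic set systems have isomorphic point-block graphs. -/
theorem pointBlock_iso {α β : Type*} [DecidableEq β] {B : Set (Finset α)} {D : Set (Finset β)}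
    (hne : ∀ b ∈ B, (b : Finset α).Nonempty) (e : α ≃ β) (h : (fun b => b.image e) '' B = D) :
    Nonempty (Cfsg.pointBlockGraph B ≃g Cfsg.pointBlockGraph D) := by
  subst h
  let φ : B ≃ ↥((fun b => b.image e) '' B) := Equiv.Set.image _ B (Finset.image_injective e.injective)
  have hne' : ∀ b ∈ (fun b => b.image e) '' B, (b : Finset β).Nonempty := by
    rintro _ ⟨b, hb, rfl⟩
    exact (hne b hb).image e
  have hφ : ∀ b : B, (φ b : Finset β) = (b : Finset α).image e := fun b => rfl
  refine ⟨⟨Equiv.optionCongr (Equiv.sumCongr e φ), ?_⟩⟩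
  intro x y
  rcases x with _ | a | b <;> rcases y with _ | a' | b' <;>
    simp only [Equiv.optionCongr_apply, Option.map_none, Option.map_some, Equiv.sumCongr_apply,
      Sum.map_inl, Sum.map_inr]
  · simp
  · exact iff_of_true (by simp [Cfsg.pointBlockGraph, Cfsg.pointBlockRel])
      (by simp [Cfsg.pointBlockGraph, Cfsg.pointBlockRel])
  · exact iff_of_false (by simp [Cfsg.pointBlockGraph, Cfsg.pointBlockRel])
      (by simp [Cfsg.pointBlockGraph, Cfsg.pointBlockRel])
  · exact iff_of_true (by simp [Cfsg.pointBlockGraph, Cfsg.pointBlockRel])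
      (by simp [Cfsg.pointBlockGraph, Cfsg.pointBlockRel])
  · exact iff_of_false (by simp [Cfsg.pointBlockGraph, Cfsg.pointBlockRel])
      (by simp [Cfsg.pointBlockGraph, Cfsg.pointBlockRel])
  · rw [(pointBlock_adj hne' (e a) (e a) (φ b') (φ b')).2.2.2.2.2.1,
      (pointBlock_adj hne a a b' b').2.2.2.2.2.1, hφ, e.injective.mem_finset_image]
  · exact iff_of_false (by simp [Cfsg.pointBlockGraph, Cfsg.pointBlockRel])
      (by simp [Cfsg.pointBlockGraph, Cfsg.pointBlockRel])
  · rw [(pointBlock_adj hne' (e a') (e a') (φ b) (φ b)).2.2.2.2.2.2.1,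
      (pointBlock_adj hne a' a' b b).2.2.2.2.2.2.1, hφ, e.injective.mem_finset_image]
  · by_cases hbb : b = b'
    · subst hbb; simp
    · obtain ⟨p, -⟩ := hne b b.2
      rw [(pointBlock_adj hne' (e p) (e p) (φ b) (φ b')).2.2.2.2.2.2.2,
        (pointBlock_adj hne p p b b').2.2.2.2.2.2.2, hφ, hφ, disjoint_image e.injective]

variable {V : Type*} [Fintype V] [DecidableEq V] {G : SimpleGraph V} [DecidableRel G.Adj]

theorem nb_facts (hG : G.IsSRGWith 100 22 0 6) :
    (∀ v, (G.neighborFinset v).card = 22) ∧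
    (∀ v w, G.Adj v w → (G.neighborFinset v ∩ G.neighborFinset w).card = 0) ∧
    (∀ v w, v ≠ w → ¬ G.Adj v w → (G.neighborFinset v ∩ G.neighborFinset w).card = 6) := by
  have hc : ∀ v w, (G.neighborFinset v ∩ G.neighborFinset w).card =
      Fintype.card (G.commonNeighbors v w) := by
    intro v w
    rw [← Set.toFinset_card]
    congr 1
    ext z
    simp [SimpleGraph.mem_commonNeighbors]
  exact ⟨fun v => by rw [SimpleGraph.card_neighborFinset_eq_degree]; exact hG.regular v,
    fun v w h => (hc v w).trans (hG.of_adj v w h),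
    fun v w hne h => (hc v w).trans (hG.of_not_adj hne h)⟩

/-- The vertices other than `v` and its neighbours. -/
def far (G : SimpleGraph V) [DecidableRel G.Adj] (v : V) : Finset V :=
  univ \ insert v (G.neighborFinset v)

/-- The neighbours of `v` joined to `b`. -/
def blk (G : SimpleGraph V) [DecidableRel G.Adj] (v b : V) : Finset V :=
  G.neighborFinset v ∩ G.neighborFinset b

theorem mem_far {v b : V} : b ∈ far G v ↔ b ≠ v ∧ ¬ G.Adj v b := by
  simp [far, not_or]

theorem far_card (hG : G.IsSRGWith 100 22 0 6) (v : V) : (far G v).card = 77 := by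
  rw [far, card_sdiff_of_subset (subset_univ _), card_insert_of_notMem (by simp),
    (nb_facts hG).1, card_univ, hG.card]

theorem blk_card (hG : G.IsSRGWith 100 22 0 6) {v b : V} (hb : b ∈ far G v) :
    (blk G v b).card = 6 :=
  (nb_facts hG).2.2 v b (Ne.symm (mem_far.mp hb).1) (mem_far.mp hb).2

theorem mem_blk {v b x : V} : x ∈ blk G v b ↔ G.Adj v x ∧ G.Adj b x := by simp [blk]

theorem blk_disjoint (hG : G.IsSRGWith 100 22 0 6) {v b c : V} (h : G.Adj b c) :
    Disjoint (blk G v b) (blk G v c) := by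
  rw [disjoint_left]
  intro x hx hx'
  have h0 := (nb_facts hG).2.1 b c h
  rw [card_eq_zero] at h0
  have : x ∈ G.neighborFinset b ∩ G.neighborFinset c :=
    mem_inter.mpr ⟨(mem_inter.mp hx).2, (mem_inter.mp hx').2⟩
  rw [h0] at this
  exact notMem_empty x this

/-- Two non-adjacent far vertices share exactly two neighbours of `v`. -/
theorem blk_inter (hG : G.IsSRGWith 100 22 0 6) {v b c : V} (hb : b ∈ far G v) (hc : c ∈ far G v)
    (hne : b ≠ c) (hnadj : ¬ G.Adj b c) : (blk G v b ∩ blk G v c).card = 2 := by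
  classical
  obtain ⟨f1, f2, f3⟩ := nb_facts hG
  set S := (far G v).erase b with hS
  let k : V → ℕ := fun d => (blk G v b ∩ blk G v d).card
  have hk : ∀ d, k d = ∑ x ∈ blk G v b, if G.Adj d x then 1 else 0 := by
    intro d
    show (blk G v b ∩ blk G v d).card = _
    rw [← card_filter]
    congr 1
    ext x
    simp [mem_inter, mem_filter, mem_blk]
    tauto
  -- neighbours in `S` of a point of the block
  have h20 : ∀ x ∈ blk G v b, (S.filter fun d => G.Adj d x).card = 20 := by
    intro x hx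
    rw [mem_blk] at hx
    have hsub : ({v, b} : Finset V) ⊆ G.neighborFinset x := by
      simp [insert_subset_iff, hx.1.symm, hx.2.symm]
    have he : (S.filter fun d => G.Adj d x) = G.neighborFinset x \ {v, b} := by
      ext d
      simp only [hS, mem_filter, mem_erase, mem_far, mem_sdiff, SimpleGraph.mem_neighborFinset,
        mem_insert, mem_singleton, not_or]
      constructor
      · rintro ⟨⟨h1, h2, -⟩, h4⟩
        exact ⟨h4.symm, h2, h1⟩
      · rintro ⟨h1, h2, h3⟩
        refine ⟨⟨h3, h2, fun h => ?_⟩, h1.symm⟩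
        have h0 := f2 v x hx.1
        rw [card_eq_zero] at h0
        have : d ∈ G.neighborFinset v ∩ G.neighborFinset x := by simp [h, h1]
        rw [h0] at this
        exact notMem_empty d this
    rw [he, card_sdiff_of_subset hsub, f1, card_pair (Ne.symm (mem_far.mp hb).1)]
  have h4 : ∀ x ∈ blk G v b, ∀ y ∈ blk G v b, x ≠ y →
      (S.filter fun d => G.Adj d x ∧ G.Adj d y).card = 4 := by
    intro x hx y hy hxy
    rw [mem_blk] at hx hy
    have hnxy : ¬ G.Adj x y := fun h => by
      have h0 := f2 x y h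
      rw [card_eq_zero] at h0
      have : v ∈ G.neighborFinset x ∩ G.neighborFinset y := by simp [hx.1.symm, hy.1.symm]
      rw [h0] at this
      exact notMem_empty v this
    have hsub : ({v, b} : Finset V) ⊆ G.neighborFinset x ∩ G.neighborFinset y := by
      simp [insert_subset_iff, hx.1.symm, hx.2.symm, hy.1.symm, hy.2.symm]
    have he : (S.filter fun d => G.Adj d x ∧ G.Adj d y) =
        (G.neighborFinset x ∩ G.neighborFinset y) \ {v, b} := by
      ext d
      simp only [hS, mem_filter, mem_erase, mem_far, mem_sdiff, mem_inter,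
        SimpleGraph.mem_neighborFinset, mem_insert, mem_singleton, not_or]
      constructor
      · rintro ⟨⟨h1, h2, -⟩, h4, h5⟩
        exact ⟨⟨h4.symm, h5.symm⟩, h2, h1⟩
      · rintro ⟨⟨h1, h1'⟩, h2, h3⟩
        refine ⟨⟨h3, h2, fun h => ?_⟩, h1.symm, h1'.symm⟩
        have h0 := f2 v x hx.1
        rw [card_eq_zero] at h0
        have : d ∈ G.neighborFinset v ∩ G.neighborFinset x := by simp [h, h1]
        rw [h0] at this
        exact notMem_empty d this
    rw [he, card_sdiff_of_subset hsub, f3 x y hxy hnxy, card_pair (Ne.symm (mem_far.mp hb).1)]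
  have hsum1 : ∑ d ∈ S, k d = 120 := by
    simp only [hk]
    rw [sum_comm, sum_congr rfl fun x hx => (card_filter (fun d => G.Adj d x) S).symm.trans (h20 x hx),
      sum_const, blk_card hG hb]
    rfl
  have hsum2 : ∑ d ∈ S, k d * k d = 240 := by
    simp only [hk, sum_mul_sum]
    rw [sum_comm, sum_congr rfl (g := fun _ => 40) fun x hx => ?_, sum_const, blk_card hG hb]
    · rfl
    · have h1 : ∀ y ∈ (blk G v b).erase x,
          ∑ d ∈ S, ((if G.Adj d x then 1 else 0) * if G.Adj d y then 1 else 0 : ℕ) = 4 := by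
        intro y hy
        rw [← h4 x hx y (mem_erase.mp hy).2 (Ne.symm (mem_erase.mp hy).1), card_filter]
        exact sum_congr rfl fun d _ => by split_ifs <;> simp_all
      have h2 : ∑ d ∈ S, ((if G.Adj d x then 1 else 0) * if G.Adj d x then 1 else 0 : ℕ) = 20 := by
        rw [← h20 x hx, card_filter]
        exact sum_congr rfl fun d _ => by split_ifs <;> rfl
      rw [sum_comm, ← add_sum_erase _ _ hx, h2, sum_congr rfl h1, sum_const, card_erase_of_mem hx,
        blk_card hG hb]
      rfl
  have hAdjCard : (S.filter fun d => G.Adj b d).card = 16 := by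
    have he : (S.filter fun d => G.Adj b d) =
        G.neighborFinset b \ blk G v b := by
      ext d
      simp only [hS, mem_filter, mem_erase, mem_far, mem_sdiff, mem_blk,
        SimpleGraph.mem_neighborFinset]
      constructor
      · rintro ⟨⟨-, -, h2⟩, h3⟩
        exact ⟨h3, fun h => h2 h.1⟩
      · rintro ⟨h1, h2⟩
        refine ⟨⟨h1.ne.symm, ?_, fun h => h2 ⟨h, h1⟩⟩, h1⟩
        rintro rfl
        exact (mem_far.mp hb).2 h1.symm
    rw [he, card_sdiff_of_subset (show blk G v b ⊆ G.neighborFinset b from inter_subset_right), f1,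
      blk_card hG hb]
  have hScard : S.card = 76 := by rw [hS, card_erase_of_mem hb, far_card hG]
  have hzero : ∀ d ∈ S, G.Adj b d → k d = 0 := fun d _ hd => by
    show (blk G v b ∩ blk G v d).card = 0
    rw [card_eq_zero]
    exact disjoint_iff_inter_eq_empty.mp (blk_disjoint hG hd)
  let T := S.filter fun d => ¬ G.Adj b d
  have hT : T.card = 60 := by
    have := card_filter_add_card_filter_not (s := S) (fun d => G.Adj b d)
    show (S.filter fun d => ¬ G.Adj b d).card = 60
    omega
  have hres : ∀ f : V → ℕ, (∀ d ∈ S, G.Adj b d → f d = 0) → ∑ d ∈ T, f d = ∑ d ∈ S, f d := by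
    intro f hf
    refine sum_subset (filter_subset _ _) fun d hd hdn => hf d hd ?_
    by_contra h
    exact hdn (mem_filter.mpr ⟨hd, h⟩)
  have hsq : ∑ d ∈ T, ((k d : ℤ) - 2) ^ 2 = 0 := by
    have a1 : ((∑ d ∈ T, k d : ℕ) : ℤ) = 120 := by rw [hres k hzero, hsum1]; rfl
    have a2 : ((∑ d ∈ T, k d * k d : ℕ) : ℤ) = 240 := by
      rw [hres _ fun d hd h => by rw [hzero d hd h], hsum2]; rfl
    push_cast at a1 a2
    have : ∀ d, ((k d : ℤ) - 2) ^ 2 = (k d : ℤ) * k d - 4 * k d + 4 := fun d => by ring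
    rw [sum_congr rfl fun d _ => this d, sum_add_distrib, sum_sub_distrib, ← mul_sum, sum_const,
      hT, a1, a2]
    norm_num
  have h := (sum_eq_zero_iff_of_nonneg fun d _ => sq_nonneg _).mp hsq c
    (mem_filter.mpr ⟨mem_erase.mpr ⟨hne.symm, hc⟩, hnadj⟩)
  have : (k c : ℤ) = 2 := by
    have := pow_eq_zero_iff (n := 2) (by norm_num) |>.mp h
    omega
  exact_mod_cast this

/-- A (100, 22, 0, 6) graph is the point-block graph of a system S(3,6,22). -/
theorem srg100_iso_model (hG : G.IsSRGWith 100 22 0 6) :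
    Nonempty (G ≃g Cfsg.pointBlockGraph H90.model22) := by
  classical
  obtain ⟨v⟩ : Nonempty V := Fintype.card_pos_iff.mp (by rw [hG.card]; norm_num)
  set N := G.neighborFinset v with hN
  let bk : V → Finset ↥N := fun b => (blk G v b).subtype (· ∈ N)
  let B : Set (Finset ↥N) := bk '' (far G v : Set V)
  have hmap : ∀ b, (bk b).map (Function.Embedding.subtype _) = blk G v b := fun b =>
    Finset.subtype_map_of_mem fun x hx => (mem_inter.mp hx).1
  have hbk : ∀ b ∈ far G v, (bk b).card = 6 := fun b hb => by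
    rw [← card_map (Function.Embedding.subtype _), hmap, blk_card hG hb]
  have hbkI : ∀ b c, (bk b ∩ bk c).card = (blk G v b ∩ blk G v c).card := fun b c => by
    rw [← card_map (Function.Embedding.subtype _), map_inter, hmap, hmap]
  have hdisj : ∀ b ∈ far G v, ∀ c ∈ far G v, b ≠ c → (bk b ∩ bk c).card ≤ 2 := by
    intro b hb c hc hne
    rw [hbkI]
    by_cases h : G.Adj b c
    · rw [disjoint_iff_inter_eq_empty.mp (blk_disjoint hG h)]; simp
    · exact (blk_inter hG hb hc hne h).le
  have hinj : Set.InjOn bk (far G v : Set V) := by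
    intro b hb c hc e
    by_contra hne
    have := hdisj b hb c hc hne
    rw [e, inter_self, hbk c hc] at this
    omega
  have hαcard : Fintype.card ↥N = 22 := by rw [Fintype.card_coe]; exact (nb_facts hG).1 v
  have hB : Cfsg.IsSteinerSystem 3 6 B := by
    refine ⟨?_, fun s hs => ?_⟩
    · rintro _ ⟨b, hb, rfl⟩; exact hbk b hb
    have hcover : (far G v).biUnion (fun b => (bk b).powersetCard 3) =
        (univ : Finset ↥N).powersetCard 3 := by
      refine eq_of_subset_of_card_le (fun t ht => ?_) ?_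
      · obtain ⟨b, -, hb⟩ := mem_biUnion.mp ht
        exact mem_powersetCard.mpr ⟨subset_univ _, (mem_powersetCard.mp hb).2⟩
      · rw [card_biUnion, sum_congr rfl (g := fun _ => 20) fun b hb => ?_, sum_const,
          far_card hG, card_powersetCard, card_univ, hαcard]
        · decide +kernel
        · rw [card_powersetCard, hbk b hb]; rfl
        · intro b hb c hc hne
          rw [Function.onFun, disjoint_left]
          intro t ht ht'
          rw [mem_powersetCard] at ht ht'
          have h1 := hdisj b hb c hc hne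
          have h2 := card_le_card (subset_inter ht.1 ht'.1)
          omega
    have hs' : s ∈ (far G v).biUnion (fun b => (bk b).powersetCard 3) := by
      rw [hcover]; exact mem_powersetCard.mpr ⟨subset_univ _, hs⟩
    obtain ⟨b, hb, hsb⟩ := mem_biUnion.mp hs'
    refine ⟨bk b, ⟨⟨b, hb, rfl⟩, (mem_powersetCard.mp hsb).1⟩, ?_⟩
    rintro _ ⟨⟨c, hc, rfl⟩, hsc⟩
    by_contra hne
    have h1 := hdisj c hc b hb (fun e => hne (by rw [e]))
    have h2 := card_le_card (subset_inter hsc (mem_powersetCard.mp hsb).1)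
    omega
  obtain ⟨e, he⟩ := H90.s22_iso hαcard hB
  have hne := H91.steiner_nonempty hB
  obtain ⟨i2⟩ := pointBlock_iso hne e he
  let ψ : V → Option (↥N ⊕ B) := fun w =>
    if h : w = v then none
    else if h' : w ∈ N then some (Sum.inl ⟨w, h'⟩)
    else some (Sum.inr ⟨bk w, w, mem_coe.mpr (mem_far.mpr
      ⟨h, fun ha => h' ((SimpleGraph.mem_neighborFinset _ _ _).mpr ha)⟩), rfl⟩)
  have hψv : ψ v = none := dif_pos rfl
  have hcases : ∀ w, w = v ∨ (w ≠ v ∧ w ∈ N) ∨ w ∈ far G v := fun w => by
    by_cases h : w = v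
    · exact Or.inl h
    by_cases h' : w ∈ N
    · exact Or.inr (Or.inl ⟨h, h'⟩)
    · exact Or.inr (Or.inr (mem_far.mpr
        ⟨h, fun ha => h' ((SimpleGraph.mem_neighborFinset _ _ _).mpr ha)⟩))
  have hψN : ∀ w (h : w ≠ v) (h' : w ∈ N), ψ w = some (Sum.inl ⟨w, h'⟩) := fun w h h' => by
    simp only [ψ, dif_neg h, dif_pos h']
  have hψF : ∀ w (h : w ∈ far G v), ψ w = some (Sum.inr ⟨bk w, w, mem_coe.mpr h, rfl⟩) := by
    intro w h
    have h' : w ∉ N := fun hn => (mem_far.mp h).2 ((SimpleGraph.mem_neighborFinset _ _ _).mp hn)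
    simp only [ψ, dif_neg (mem_far.mp h).1, dif_neg h']
  have hψinj : Function.Injective ψ := by
    intro a b hab
    rcases hcases a with rfl | ⟨ha, ha'⟩ | ha <;> rcases hcases b with rfl | ⟨hb, hb'⟩ | hb
    · rfl
    · rw [hψv, hψN b hb hb'] at hab; simp at hab
    · rw [hψv, hψF b hb] at hab; simp at hab
    · rw [hψv, hψN a ha ha'] at hab; simp at hab
    · rw [hψN a ha ha', hψN b hb hb'] at hab; simpa using hab
    · rw [hψN a ha ha', hψF b hb] at hab; simp at hab
    · rw [hψv, hψF a ha] at hab; simp at hab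
    · rw [hψF a ha, hψN b hb hb'] at hab; simp at hab
    · rw [hψF a ha, hψF b hb] at hab
      exact hinj ha hb (congrArg Subtype.val (Sum.inr.inj (Option.some.inj hab)))
  have hψbij : Function.Bijective ψ := by
    refine hψinj.bijective_of_nat_card_le ?_
    have hB77 : Nat.card B = 77 := by
      rw [Nat.card_coe_set_eq, Set.ncard_image_of_injOn hinj, Set.ncard_coe_finset, far_card hG]
    haveI : Finite B := Nat.finite_of_card_ne_zero (by omega)
    haveI : Fintype B := Fintype.ofFinite _
    rw [Nat.card_eq_fintype_card, Nat.card_eq_fintype_card, hG.card, Fintype.card_option,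
      Fintype.card_sum, hαcard, ← Nat.card_eq_fintype_card, hB77]
  have hNadj : ∀ w, w ∈ N → G.Adj v w := fun w h => (SimpleGraph.mem_neighborFinset _ _ _).mp h
  have hblkmem : ∀ (w x : V) (hx : x ∈ N), (⟨x, hx⟩ : ↥N) ∈ bk w ↔ G.Adj w x := fun w x hx => by
    simp [bk, mem_blk, hNadj x hx]
  refine ⟨(⟨Equiv.ofBijective ψ hψbij, ?_⟩ : G ≃g Cfsg.pointBlockGraph B).trans i2⟩
  intro a b
  show (Cfsg.pointBlockGraph B).Adj (ψ a) (ψ b) ↔ G.Adj a b
  have key := pointBlock_adj (B := B) hne
  rcases hcases a with rfl | ⟨ha, ha'⟩ | ha <;> rcases hcases b with rfl | ⟨hb, hb'⟩ | hb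
  · simp
  · rw [hψv, hψN b hb hb']
    exact iff_of_true (by simp [Cfsg.pointBlockGraph, Cfsg.pointBlockRel]) (hNadj b hb')
  · rw [hψv, hψF b hb]
    exact iff_of_false (by simp [Cfsg.pointBlockGraph, Cfsg.pointBlockRel]) (mem_far.mp hb).2
  · rw [hψN a ha ha', hψv]
    exact iff_of_true (by simp [Cfsg.pointBlockGraph, Cfsg.pointBlockRel]) (hNadj a ha').symm
  · rw [hψN a ha ha', hψN b hb hb']
    refine iff_of_false (by simp [Cfsg.pointBlockGraph, Cfsg.pointBlockRel]) fun h => ?_
    have h0 := (nb_facts hG).2.1 v a (hNadj a ha')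
    rw [card_eq_zero] at h0
    have : b ∈ G.neighborFinset v ∩ G.neighborFinset a := by simp [hNadj b hb', h]
    rw [h0] at this
    exact notMem_empty b this
  · rw [hψN a ha ha', hψF b hb]
    refine (key _ ⟨a, ha'⟩ _ ⟨bk b, b, hb, rfl⟩).2.2.2.2.2.1.trans ?_
    rw [hblkmem, SimpleGraph.adj_comm]
  · rw [hψF a ha, hψv]
    exact iff_of_false (by simp [Cfsg.pointBlockGraph, Cfsg.pointBlockRel])
      (fun h => (mem_far.mp ha).2 h.symm)
  · rw [hψF a ha, hψN b hb hb']
    exact (key ⟨b, hb'⟩ ⟨b, hb'⟩ ⟨bk a, a, ha, rfl⟩ ⟨bk a, a, ha, rfl⟩).2.2.2.2.2.2.1.trans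
      (hblkmem a b hb')
  · rw [hψF a ha, hψF b hb]
    by_cases hab : a = b
    · subst hab; simp
    · obtain ⟨x, hx⟩ : (N : Finset V).Nonempty := card_pos.mp (by rw [(nb_facts hG).1]; norm_num)
      refine (key ⟨x, hx⟩ ⟨x, hx⟩ ⟨bk a, a, ha, rfl⟩ ⟨bk b, b, hb, rfl⟩).2.2.2.2.2.2.2.trans ?_
      rw [disjoint_iff_inter_eq_empty, ← card_eq_zero]
      show (bk a ∩ bk b).card = 0 ↔ _
      rw [hbkI]
      by_cases h : G.Adj a b
      · simp [h, disjoint_iff_inter_eq_empty.mp (blk_disjoint hG h)]
      · simp [h, blk_inter hG ha hb hab h]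

end H91.Srg
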