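/- The Higman–Sims graph on the hundred lattice vectors. -/
import Cfsg.Agent.H91.Srg100
import Cfsg.Agent.H96.HS100
import Cfsg.Agent.H95.M22Simple

set_option autoImplicit false

noncomputable section

namespace H91.HSG

open H96.HS100 H95 Cfsg Finset

/-- Adjacency on the hundred points. -/
def hsGraph : SimpleGraph ↥pts where
  Adj x y := ldot (x : leechLattice) (y : leechLattice) = 8
  symm := { symm := fun x y h => by rw [ldot_comm]; exact h }
  loopless := { irrefl := fun x h => absurd (x.2.1.symm.trans h) (by norm_num) }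

theorem dot_eq (x y : leechLattice) :
    ldot x y = ∑ i, (x : GolayPt → ℤ) i * (y : GolayPt → ℤ) i := rfl

theorem dot_odd_odd {x y : leechLattice} {l l' : GolayPt} (h : l ≠ l')
    (hx : (x : GolayPt → ℤ) = oddFun l) (hy : (y : GolayPt → ℤ) = oddFun l') : ldot x y = 16 := by
  rw [dot_eq, hx, hy]
  have : ∀ i, oddFun l i * oddFun l' i =
      1 + (-4) * (if i = l then (1 : ℤ) else 0) + (-4) * (if i = l' then 1 else 0) := by
    intro i
    by_cases h1 : i = l
    · subst h1; simp [oddFun, h]
    · by_cases h2 : i = l' <;> simp [oddFun, h1, h2, Ne.symm h]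
  rw [sum_congr rfl fun i _ => this i, sum_add_distrib, sum_add_distrib, ← mul_sum, ← mul_sum,
    sum_ite_eq', sum_ite_eq']
  simp

theorem dot_odd_oct {x y : leechLattice} {l : GolayPt} {a : GolayPt → ZMod 2}
    (hx : (x : GolayPt → ℤ) = oddFun l) (hy : (y : GolayPt → ℤ) = octFun a)
    (ha : hammingNorm a = 8) : ldot x y = if a l ≠ 0 then 8 else 16 := by
  rw [dot_eq, hx, hy]
  have : ∀ i, oddFun l i * octFun a i =
      2 * ((a i).val : ℤ) + (-8) * (if i = l then ((a i).val : ℤ) else 0) := by
    intro i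
    by_cases h1 : i = l
    · subst h1; simp [oddFun, octFun]; ring
    · simp [oddFun, octFun, h1]
  rw [sum_congr rfl fun i _ => this i, sum_add_distrib, ← mul_sum, ← mul_sum, sum_ite_eq',
    if_pos (mem_univ l), sum_val, ha]
  rcases H94.zmod2_cases (a l) with h | h <;> simp [h] <;> rfl

/-- The neighbours of the base point are all twenty-two odd vectors. -/
theorem odd_all {l : GolayPt} (hl : l ≠ none) (hl' : l ≠ some 0) :
    ∃ y ∈ pts, (y : GolayPt → ℤ) = oddFun l := by
  classical
  obtain ⟨-, h22, -, -⟩ := main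
  let s : Finset (GolayPt → ℤ) := ((univ.erase none).erase (some 0)).image oddFun
  have hsub : (fun y : leechLattice => (y : GolayPt → ℤ)) '' (pts ∩ {y | ldot base y = 8}) ⊆
      (s : Set (GolayPt → ℤ)) := by
    rintro _ ⟨y, ⟨hy, hd⟩, rfl⟩
    have hd' : ldot base y = 8 := hd
    rcases classify hy with rfl | ⟨l, h1, h2, h⟩ | ⟨a, -, -, h1, h2, h⟩
    · have := base_mem.1; omega
    · exact mem_coe.mpr (mem_image.mpr ⟨l, by simp [h1, h2], h.symm⟩)
    · rw [dot_oct h1 h2 h] at hd'; norm_num at hd'
  have heq := Set.eq_of_subset_of_ncard_le hsub (by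
    rw [Set.ncard_image_of_injective _ Subtype.val_injective, h22, Set.ncard_coe_finset]
    exact le_trans card_image_le (by decide)) s.finite_toSet
  have hl_mem : oddFun l ∈ (fun y : leechLattice => (y : GolayPt → ℤ)) ''
      (pts ∩ {y | ldot base y = 8}) := by
    rw [heq]; exact mem_coe.mpr (mem_image.mpr ⟨l, by simp [hl, hl'], rfl⟩)
  obtain ⟨y, hy, e⟩ := hl_mem
  exact ⟨y, hy.1, e⟩

theorem base_common {y : leechLattice} (hy : y ∈ pts) (hne : y ≠ base) :
    {z : leechLattice | z ∈ pts ∧ ldot base z = 8 ∧ ldot y z = 8}.ncard =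
      if ldot base y = 8 then 0 else 6 := by
  classical
  rcases classify hy with h | ⟨l, l1, l2, hl⟩ | ⟨a, -, ha8, a1, a2, hla⟩
  · exact absurd h hne
  · rw [if_pos (dot_odd l1 l2 hl)]
    rw [show {z : leechLattice | z ∈ pts ∧ ldot base z = 8 ∧ ldot y z = 8} = ∅ from ?_, Set.ncard_empty]
    rw [Set.eq_empty_iff_forall_notMem]
    rintro z ⟨hz, hb, hyz⟩
    rcases classify hz with rfl | ⟨m, m1, m2, hm⟩ | ⟨c, -, -, c1, c2, hc⟩
    · have := base_mem.1; omega
    · by_cases hlm : l = m
      · subst hlm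
        have hzy : z = y := Subtype.ext (hm.trans hl.symm)
        subst hzy
        have := hz.1; omega
      · rw [dot_odd_odd hlm hl hm] at hyz; norm_num at hyz
    · rw [dot_oct c1 c2 hc] at hb; norm_num at hb
  · rw [if_neg (by rw [dot_oct a1 a2 hla]; norm_num)]
    let S : Finset GolayPt := ((support₂ a).erase none).erase (some 0)
    have hS : S.card = 6 := by
      have h8 : (support₂ a).card = 8 := ha8
      rw [card_erase_of_mem (by simp [support₂, a2]), card_erase_of_mem (by simp [support₂, a1]), h8]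
    rw [← hS, ← Set.ncard_coe_finset]
    have hmem : ∀ l ∈ S, l ≠ none ∧ l ≠ some 0 ∧ a l ≠ 0 := by
      intro l hl
      simp only [S, mem_erase, support₂, mem_filter, mem_univ, true_and] at hl
      exact ⟨hl.2.1, hl.1, hl.2.2⟩
    symm
    refine Set.ncard_congr (fun l hl => (odd_all (hmem l hl).1 (hmem l hl).2.1).choose)
      (fun l hl => ?_) (fun l l' hl hl' e => ?_) ?_
    · obtain ⟨h1, h2, h3⟩ := hmem l hl
      obtain ⟨hz, hze⟩ := (odd_all h1 h2).choose_spec
      refine ⟨hz, dot_odd h1 h2 hze, ?_⟩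
      rw [ldot_comm, dot_odd_oct hze hla ha8, if_pos h3]
    · have e1 := (odd_all (hmem l hl).1 (hmem l hl).2.1).choose_spec.2
      have e2 := (odd_all (hmem l' hl').1 (hmem l' hl').2.1).choose_spec.2
      rw [e] at e1
      have := congrFun (e1.symm.trans e2) l
      by_contra hne'
      simp [oddFun, hne'] at this
    · rintro z ⟨hz, hb, hyz⟩
      rcases classify hz with rfl | ⟨m, m1, m2, hm⟩ | ⟨c, -, -, c1, c2, hc⟩
      · have := base_mem.1; omega
      · have hmS : m ∈ S := by
          rw [ldot_comm, dot_odd_oct hm hla ha8] at hyz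
          simp only [S, mem_erase, support₂, mem_filter, mem_univ, true_and]
          refine ⟨m2, m1, fun h => ?_⟩
          rw [if_neg (not_not.mpr h)] at hyz
          norm_num at hyz
        exact ⟨m, hmS, Subtype.ext ((odd_all m1 m2).choose_spec.2.trans hm.symm)⟩
      · rw [dot_oct c1 c2 hc] at hb; norm_num at hb

theorem move_to_base {x : leechLattice} (hx : x ∈ pts) :
    ∃ g ∈ pvU'.group, g • x = base := by
  obtain ⟨g, hg, e⟩ := main.2.2.2 x hx
  exact ⟨g⁻¹, inv_mem hg, by rw [← e, inv_smul_smul]⟩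

theorem count_transport {g : Co0} (hg : g ∈ pvU'.group) (P : leechLattice → Prop) :
    {z : leechLattice | z ∈ pts ∧ P (g • z)}.ncard = {z : leechLattice | z ∈ pts ∧ P z}.ncard := by
  rw [← Set.ncard_image_of_injective _ (MulAction.injective g)]
  congr 1
  ext z
  constructor
  · rintro ⟨w, ⟨hw, hP⟩, rfl⟩; exact ⟨pts_inv hg hw, hP⟩
  · rintro ⟨hz, hP⟩
    exact ⟨g⁻¹ • z, ⟨pts_inv (inv_mem hg) hz, by rwa [smul_inv_smul]⟩, smul_inv_smul g z⟩

theorem card_subtype_pts {S : Set ↥pts} [Fintype S] (P : leechLattice → Prop)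
    (h : ∀ z : ↥pts, z ∈ S ↔ P z) : Fintype.card S = {z : leechLattice | z ∈ pts ∧ P z}.ncard := by
  rw [← Nat.card_eq_fintype_card, ← Nat.card_coe_set_eq {z : leechLattice | z ∈ pts ∧ P z}]
  exact Nat.card_congr
    { toFun := fun z => ⟨z.1.1, z.1.2, (h z.1).mp z.2⟩
      invFun := fun z => ⟨⟨z.1, z.2.1⟩, (h _).mpr z.2.2⟩
      left_inv := fun _ => rfl
      right_inv := fun _ => rfl }

theorem hsGraph_srg [Fintype ↥pts] [DecidableRel hsGraph.Adj] :
    hsGraph.IsSRGWith 100 22 0 6 := by
  classical
  have hadj : ∀ x y : ↥pts, hsGraph.Adj x y ↔ ldot (x : leechLattice) (y : leechLattice) = 8 :=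
    fun x y => Iff.rfl
  have hcommon : ∀ x y : ↥pts, x ≠ y → Fintype.card (hsGraph.commonNeighbors x y) =
      if hsGraph.Adj x y then 0 else 6 := by
    intro x y hne
    rw [card_subtype_pts (fun z => ldot (x : leechLattice) z = 8 ∧ ldot (y : leechLattice) z = 8)
      (fun z => by rw [SimpleGraph.mem_commonNeighbors]; exact and_congr (hadj x z) (hadj y z))]
    obtain ⟨g, hg, hgx⟩ := move_to_base x.2
    have hne' : g • (y : leechLattice) ≠ base := fun e =>
      hne (Subtype.ext (MulAction.injective g (hgx.trans e.symm)))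
    have hb := base_common (pts_inv hg y.2) hne'
    rw [← count_transport hg (fun z => ldot base z = 8 ∧ ldot (g • (y : leechLattice)) z = 8)] at hb
    simp only [← hgx, co0_dot] at hb
    rw [hb]
    simp only [hadj]
  refine ⟨?_, fun x => ?_, fun x y h => ?_, fun x y hne h => ?_⟩
  · rw [← Nat.card_eq_fintype_card, Nat.card_coe_set_eq]; exact main.1
  · rw [← SimpleGraph.card_neighborSet_eq_degree,
      card_subtype_pts (S := hsGraph.neighborSet x) (fun z => ldot (x : leechLattice) z = 8)
        (fun z => hadj x z)]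
    obtain ⟨g, hg, hgx⟩ := move_to_base x.2
    have h22 := main.2.1
    rw [show pts ∩ {y | ldot base y = 8} = {z | z ∈ pts ∧ ldot base z = 8} from rfl,
      ← count_transport hg (fun z => ldot base z = 8)] at h22
    simp only [← hgx, co0_dot] at h22
    exact h22
  · rw [hcommon x y (SimpleGraph.Adj.ne h), if_pos h]
  · rw [hcommon x y hne, if_neg h]

/-- The group acting on the graph. -/
def actGraph : ↥pvU'.group →* (hsGraph ≃g hsGraph) where
  toFun g :=
    { toFun := fun x => ⟨(g : Co0) • (x : leechLattice), pts_inv g.2 x.2⟩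
      invFun := fun x => ⟨(g : Co0)⁻¹ • (x : leechLattice), pts_inv (inv_mem g.2) x.2⟩
      left_inv := fun x => Subtype.ext (inv_smul_smul _ _)
      right_inv := fun x => Subtype.ext (smul_inv_smul _ _)
      map_rel_iff' := fun {x y} => by
        show ldot _ _ = 8 ↔ ldot _ _ = 8
        simp [co0_dot] }
  map_one' := RelIso.ext fun x => Subtype.ext (one_smul _ _)
  map_mul' g h := RelIso.ext fun x => Subtype.ext (mul_smul _ _ _)

theorem pts_two : ∃ y ∈ pts, y ≠ base := by
  obtain ⟨y, hy, e⟩ := odd_all (l := some 1) (by simp) (by decide)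
  refine ⟨y, hy, fun h => ?_⟩
  have h32 := base_mem.1
  rw [h] at e
  have h8 := dot_odd (y := base) (l := some 1) (by simp) (by decide) e
  omega

theorem actGraph_injective : Function.Injective actGraph := by
  haveI : IsSimpleGroup ↥pvU'.group := hs_simple m22_simple card_group
  rw [← MonoidHom.ker_eq_bot_iff]
  rcases IsSimpleGroup.eq_bot_or_eq_top_of_normal actGraph.ker inferInstance with h | h
  · exact h
  · exfalso
    obtain ⟨y, hy, hne⟩ := pts_two
    obtain ⟨g, hg, e⟩ := main.2.2.2 y hy
    have h1 : actGraph ⟨g, hg⟩ = 1 := by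
      rw [← MonoidHom.mem_ker, h]; exact Subgroup.mem_top _
    have h2 := congrArg (fun t : hsGraph ≃g hsGraph => ((t ⟨base, base_mem⟩ : ↥pts) : leechLattice)) h1
    exact hne (e.symm.trans h2)

theorem exists_hs_aut {V : Type*} [Fintype V] [DecidableEq V] {G : SimpleGraph V} [DecidableRel G.Adj]
    (hG : G.IsSRGWith 100 22 0 6) : ∃ H : Subgroup (G ≃g G), IsHS H := by
  classical
  have hfin : pts.Finite := (leechLike.finite_norm (Or.inl rfl)).subset fun x hx => hx.1
  haveI : Fintype ↥pts := hfin.fintype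
  obtain ⟨a⟩ := Srg.srg100_iso_model hG
  obtain ⟨b⟩ := Srg.srg100_iso_model hsGraph_srg
  let e : hsGraph ≃g G := b.trans a.symm
  let C : (hsGraph ≃g hsGraph) →* (G ≃g G) :=
    { toFun := fun t => (e.symm.trans t).trans e
      map_one' := RelIso.ext fun x => e.apply_symm_apply x
      map_mul' := fun s t => RelIso.ext fun x => by
        show e (s (t (e.symm x))) = e (s (e.symm (e (t (e.symm x)))))
        rw [e.symm_apply_apply] }
  have hC : Function.Injective C := fun s t h => RelIso.ext fun x => by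
    have := congrArg (fun u : G ≃g G => e.symm (u (e x))) h
    simpa [C] using this
  have hinj : Function.Injective (C.comp actGraph) := hC.comp actGraph_injective
  have hsimple : IsSimpleGroup ↥pvU'.group := hs_simple m22_simple card_group
  refine ⟨(C.comp actGraph).range, (MonoidHom.ofInjective hinj).symm.isSimpleGroup, ?_⟩
  exact (Nat.card_congr (MonoidHom.ofInjective hinj).symm.toEquiv).trans card_group

end H91.HSG
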