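/- An abstract non-split double cover of A₈ built from eight anticommuting square roots of one. -/
import Cfsg.Prelude.Def_SporadicB

set_option autoImplicit false

namespace H91.SpinA8

open Equiv

/-- A ring with eight anticommuting involutions and only `0, ±1` commuting with all of them. -/
structure Gam (R : Type) [Ring R] where
  g : Fin 8 → R
  sq : ∀ i, g i * g i = 1
  anti : ∀ {i j}, i ≠ j → g i * g j = -(g j * g i)
  three : (1 : R) + 1 + 1 = 0
  scal : ∀ M : R, (∀ i, Commute M (g i)) → M = 0 ∨ M = 1 ∨ M = -1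
  neOne : (-1 : R) ≠ 1

variable {R : Type} [Ring R] (Γ : Gam R)

/-! The (cover Γ) -/

/-- Signed intertwiners. -/
def odd : Subgroup (Perm (Fin 8) × Rˣ) where
  carrier := {g | ∀ i, (g.2 : R) * Γ.g i =
    (((Perm.sign g.1 : ℤˣ) : ℤ)) • (Γ.g (g.1 i) * (g.2 : R))}
  one_mem' := by intro i; simp
  mul_mem' := by
    intro g h hg hh i
    show ((g.2 : R) * (h.2 : R)) * Γ.g i =
      ((Perm.sign (g.1 * h.1) : ℤˣ) : ℤ) • (Γ.g (g.1 (h.1 i)) * ((g.2 : R) * (h.2 : R)))
    rw [mul_assoc, hh i, mul_smul_comm, ← mul_assoc, hg (h.1 i), smul_mul_assoc, smul_smul,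
      mul_assoc, map_mul, Units.val_mul, mul_comm]
  inv_mem' := by
    intro g hg i
    show ((g.2⁻¹ : Rˣ) : R) * Γ.g i =
      ((Perm.sign g.1⁻¹ : ℤˣ) : ℤ) • (Γ.g (g.1⁻¹ i) * ((g.2⁻¹ : Rˣ) : R))
    have h := hg (g.1⁻¹ i)
    rw [show g.1 (g.1⁻¹ i) = i from g.1.apply_symm_apply i] at h
    rw [Units.inv_mul_eq_iff_eq_mul, mul_smul_comm, ← mul_assoc, h, smul_mul_assoc, mul_assoc,
      Units.mul_inv, mul_one, smul_smul, Perm.sign_inv, Int.units_coe_mul_self, one_smul]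

theorem vec_move {a b : Fin 8} (hab : a ≠ b) :
    ∀ i, (Γ.g a - Γ.g b) * Γ.g i = -(Γ.g (swap a b i) * (Γ.g a - Γ.g b)) := by
  intro i
  by_cases h1 : i = a
  · subst h1; rw [swap_apply_left, sub_mul, mul_sub, Γ.sq, Γ.sq]; abel
  by_cases h2 : i = b
  · subst h2; rw [swap_apply_right, sub_mul, mul_sub, Γ.sq, Γ.sq]; abel
  rw [swap_apply_of_ne_of_ne h1 h2, sub_mul, mul_sub, Γ.anti (Ne.symm h1), Γ.anti (Ne.symm h2)]
  abel

theorem vec_sq {a b : Fin 8} (hab : a ≠ b) : (Γ.g a - Γ.g b) * (Γ.g a - Γ.g b) = -1 := by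
  rw [sub_mul, mul_sub, mul_sub, Γ.sq, Γ.sq, Γ.anti hab]
  calc 1 - -(Γ.g b * Γ.g a) - (Γ.g b * Γ.g a - 1) = 1 + 1 := by abel
    _ = -1 := eq_neg_of_add_eq_zero_left Γ.three

/-- The unit attached to a transposition. -/
def vec {a b : Fin 8} (hab : a ≠ b) : Rˣ :=
  ⟨Γ.g a - Γ.g b, -(Γ.g a - Γ.g b), by rw [mul_neg, (vec_sq Γ) hab, neg_neg],
    by rw [neg_mul, (vec_sq Γ) hab, neg_neg]⟩

theorem vec_mem {a b : Fin 8} (hab : a ≠ b) : (swap a b, (vec Γ) hab) ∈ (odd Γ) := by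
  intro i
  show (Γ.g a - Γ.g b) * Γ.g i = _
  rw [Perm.sign_swap hab, (vec_move Γ) hab]
  simp [vec]

/-- The even part. -/
def cover : Subgroup (Perm (Fin 8) × Rˣ) := (odd Γ) ⊓ (alternatingGroup (Fin 8)).comap (MonoidHom.fst _ _)

def proj : (cover Γ) →* alternatingGroup (Fin 8) where
  toFun g := ⟨g.1.1, g.2.2⟩
  map_one' := rfl
  map_mul' _ _ := rfl

theorem proj_surjective : Function.Surjective (proj Γ) := by
  rintro ⟨σ, hσ⟩
  have : ∀ σ : Perm (Fin 8), ∃ M : Rˣ, (σ, M) ∈ (odd Γ) := by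
    intro σ
    induction σ using Perm.swap_induction_on with
    | one => exact ⟨1, (odd Γ).one_mem⟩
    | swap_mul f a b hab ih =>
      obtain ⟨M, hM⟩ := ih
      exact ⟨(vec Γ) hab * M, (odd Γ).mul_mem ((vec_mem Γ) hab) hM⟩
  obtain ⟨M, hM⟩ := this σ
  exact ⟨⟨(σ, M), hM, hσ⟩, rfl⟩

theorem neg_one_mem : ((1 : Perm (Fin 8)), (-1 : Rˣ)) ∈ (cover Γ) := by
  refine ⟨fun i => ?_, (alternatingGroup (Fin 8)).one_mem⟩
  simp

theorem ker_cases {g : (cover Γ)} (h : (proj Γ) g = 1) : g.1.2 = 1 ∨ g.1.2 = -1 := by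
  have h1 : g.1.1 = 1 := congrArg Subtype.val h
  have hnt : Nontrivial R := ⟨⟨-1, 1, Γ.neOne⟩⟩
  rcases Γ.scal (g.1.2 : R) (fun i => by
    have := g.2.1 i
    rw [h1] at this
    simpa [Commute, SemiconjBy] using this) with e | e | e
  · exact absurd e g.1.2.ne_zero
  · exact Or.inl (Units.ext e)
  · exact Or.inr (Units.ext (by simpa using e))

theorem neg_one_ne_one (Γ : Gam R) : (-1 : Rˣ) ≠ 1 := fun h => Γ.neOne (by simpa using congrArg Units.val h)

def z : (cover Γ) := ⟨((1 : Perm (Fin 8)), (-1 : Rˣ)), (neg_one_mem Γ)⟩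

theorem ker_eq {g : (cover Γ)} (h : (proj Γ) g = 1) : g = 1 ∨ g = (z Γ) := by
  have h1 : g.1.1 = 1 := congrArg Subtype.val h
  rcases (ker_cases Γ) h with e | e
  · exact Or.inl (Subtype.ext (Prod.ext h1 e))
  · exact Or.inr (Subtype.ext (Prod.ext h1 e))

theorem z_ne_one : (z Γ) ≠ 1 := fun h =>
  (neg_one_ne_one Γ) (congrArg (fun g : (cover Γ) => g.1.2) h)

theorem center_eq : Subgroup.center (cover Γ) = (proj Γ).ker := by
  ext g
  constructor
  · intro hg
    have hc : (proj Γ) g ∈ Subgroup.center (alternatingGroup (Fin 8)) := by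
      rw [Subgroup.mem_center_iff]
      intro x
      obtain ⟨y, rfl⟩ := (proj_surjective Γ) x
      rw [← map_mul, ← map_mul, Subgroup.mem_center_iff.mp hg y]
    rw [alternatingGroup.center_eq_bot (by simp), Subgroup.mem_bot] at hc
    exact hc
  · intro hg
    rw [Subgroup.mem_center_iff]
    intro y
    rcases (ker_eq Γ) hg with rfl | rfl
    · simp
    · exact Subtype.ext (Prod.ext (by simp [z]) (Units.ext (by simp [z])))

theorem card_center : Nat.card (Subgroup.center (cover Γ)) = 2 := by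
  rw [(center_eq Γ), Nat.card_eq_two_iff]
  refine ⟨1, ⟨(z Γ), rfl⟩, fun e => (z_ne_one Γ) (congrArg Subtype.val e).symm, ?_⟩
  apply Set.eq_univ_of_forall
  rintro ⟨g, hg⟩
  rcases (ker_eq Γ) hg with rfl | rfl
  · exact Or.inl rfl
  · exact Or.inr rfl

theorem sign_swap_mul {a b c d : Fin 8} (hab : a ≠ b) (hcd : c ≠ d) :
    swap a b * swap c d ∈ alternatingGroup (Fin 8) := by
  rw [Perm.mem_alternatingGroup, map_mul, Perm.sign_swap hab, Perm.sign_swap hcd]; rfl

/-- The lift of a product of (two Γ) transpositions. -/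
def two {a b c d : Fin 8} (hab : a ≠ b) (hcd : c ≠ d) : (cover Γ) :=
  ⟨(swap a b * swap c d, (vec Γ) hab * (vec Γ) hcd),
    (odd Γ).mul_mem ((vec_mem Γ) hab) ((vec_mem Γ) hcd), sign_swap_mul hab hcd⟩

theorem two_sq {a b c d : Fin 8} (hab : a ≠ b) (hcd : c ≠ d) (hac : a ≠ c) (had : a ≠ d)
    (hbc : b ≠ c) (hbd : b ≠ d) : (two Γ) hab hcd * (two Γ) hab hcd = (z Γ) := by
  apply Subtype.ext
  refine Prod.ext ?_ (Units.ext ?_)
  · show swap a b * swap c d * (swap a b * swap c d) = 1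
    have hc : Commute (swap a b) (swap c d) := by
      refine Perm.Disjoint.commute fun t => ?_
      by_cases h : t = a ∨ t = b
      · right; rcases h with rfl | rfl <;> apply swap_apply_of_ne_of_ne <;> assumption
      · left; push Not at h; exact swap_apply_of_ne_of_ne h.1 h.2
    rw [← sq, hc.mul_pow, sq, sq, swap_mul_self, swap_mul_self, one_mul]
  · show (Γ.g a - Γ.g b) * (Γ.g c - Γ.g d) * ((Γ.g a - Γ.g b) * (Γ.g c - Γ.g d)) = -1
    have h : (Γ.g c - Γ.g d) * (Γ.g a - Γ.g b) = -((Γ.g a - Γ.g b) * (Γ.g c - Γ.g d)) := by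
      rw [sub_mul, mul_sub, mul_sub, sub_mul, mul_sub, mul_sub, Γ.anti (Ne.symm hac),
        Γ.anti (Ne.symm had), Γ.anti (Ne.symm hbc), Γ.anti (Ne.symm hbd)]
      abel
    calc (Γ.g a - Γ.g b) * (Γ.g c - Γ.g d) * ((Γ.g a - Γ.g b) * (Γ.g c - Γ.g d))
        = (Γ.g a - Γ.g b) * ((Γ.g c - Γ.g d) * (Γ.g a - Γ.g b)) * (Γ.g c - Γ.g d) := by
          simp only [mul_assoc]
      _ = -((Γ.g a - Γ.g b) * (Γ.g a - Γ.g b) * ((Γ.g c - Γ.g d) * (Γ.g c - Γ.g d))) := by
          rw [h]; simp only [mul_neg, neg_mul, mul_assoc]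
      _ = -1 := by rw [(vec_sq Γ) hab, (vec_sq Γ) hcd]; simp

theorem isCover : Cfsg.IsNonsplitDoubleCover (cover Γ) (alternatingGroup (Fin 8)) := by
  refine ⟨(card_center Γ), ⟨(QuotientGroup.quotientMulEquivOfEq (center_eq Γ)).trans
    (QuotientGroup.quotientKerEquivOfSurjective (proj Γ) (proj_surjective Γ))⟩, fun L hL => ?_⟩
  obtain ⟨⟨⟨c, hc⟩, ⟨l, hl⟩⟩, hcl⟩ := hL.surjective
    ((two Γ) (show (0 : Fin 8) ≠ 1 by decide) (show (2 : Fin 8) ≠ 3 by decide))
  have hsq : (c * l) * (c * l) = (z Γ) := by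
    rw [show c * l = _ from hcl]
    exact (two_sq Γ) _ _ (by decide) (by decide) (by decide) (by decide)
  have hcc : c * c = 1 := by
    have := pow_card_eq_one' (x := (⟨c, hc⟩ : Subgroup.center (cover Γ)))
    rw [card_center Γ] at this
    rw [sq] at this
    exact congrArg Subtype.val this
  have hl2 : l * l = (z Γ) := by
    rw [← hsq]
    calc l * l = (c * c) * (l * l) := by rw [hcc, one_mul]
      _ = c * (c * l) * l := by simp only [mul_assoc]
      _ = c * (l * c) * l := by rw [(Subgroup.mem_center_iff.mp hc l)]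
      _ = c * l * (c * l) := by simp only [mul_assoc]
  have hzL : (z Γ) ∈ L := hl2 ▸ L.mul_mem hl hl
  have hzZ : (z Γ) ∈ Subgroup.center (cover Γ) := by rw [(center_eq Γ)]; rfl
  exact (z_ne_one Γ) (Subgroup.disjoint_def.mp hL.disjoint hzZ hzL)

theorem two_involutions : ∃ x y : (cover Γ), x ≠ y ∧ orderOf x = 2 ∧ orderOf y = 2 := by
  have : Fact (Nat.Prime 2) := ⟨Nat.prime_two⟩
  have hz : orderOf (z Γ) = 2 := by
    refine orderOf_eq_prime ?_ (z_ne_one Γ)
    exact Subtype.ext (Prod.ext (one_pow 2) neg_one_sq)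
  set A := (two Γ) (show (0 : Fin 8) ≠ 1 by decide) (show (2 : Fin 8) ≠ 3 by decide) with hA
  set B := (two Γ) (show (4 : Fin 8) ≠ 5 by decide) (show (6 : Fin 8) ≠ 7 by decide) with hB
  have hne : ∀ x : (cover Γ), x.1.1 ≠ 1 → x ≠ 1 ∧ x ≠ (z Γ) := fun x hx =>
    ⟨fun e => hx (by rw [e]; rfl), fun e => hx (by rw [e]; rfl)⟩
  obtain ⟨h1, h2⟩ := hne (A * B) (by
    intro e
    have e' : swap (0 : Fin 8) 1 * swap 2 3 * (swap 4 5 * swap 6 7) = 1 := e
    exact absurd e' (by decide))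
  have hcomm : A * B = B * A := by
    have hv : ∀ {a b c d : Fin 8}, a ≠ c → a ≠ d → b ≠ c → b ≠ d →
        (Γ.g a - Γ.g b) * (Γ.g c - Γ.g d) = -((Γ.g c - Γ.g d) * (Γ.g a - Γ.g b)) := by
      intro a b c d hac had hbc hbd
      rw [sub_mul, mul_sub, mul_sub, sub_mul, mul_sub, mul_sub, Γ.anti hac, Γ.anti had,
        Γ.anti hbc, Γ.anti hbd]
      abel
    apply Subtype.ext
    refine Prod.ext ?_ (Units.ext ?_)
    · show swap (0 : Fin 8) 1 * swap 2 3 * (swap 4 5 * swap 6 7) =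
        swap 4 5 * swap 6 7 * (swap 0 1 * swap 2 3)
      decide
    · show (Γ.g 0 - Γ.g 1) * (Γ.g 2 - Γ.g 3) * ((Γ.g 4 - Γ.g 5) * (Γ.g 6 - Γ.g 7)) =
        (Γ.g 4 - Γ.g 5) * (Γ.g 6 - Γ.g 7) * ((Γ.g 0 - Γ.g 1) * (Γ.g 2 - Γ.g 3))
      have hc : ∀ {v w y : R}, v * y = -(y * v) → w * y = -(y * w) → Commute (v * w) y := by
        intro v w y h1 h2
        show v * w * y = y * (v * w)
        rw [mul_assoc, h2, mul_neg, ← mul_assoc, h1, neg_mul, neg_neg, mul_assoc]
      exact ((hc (hv (by decide) (by decide) (by decide) (by decide))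
        (hv (by decide) (by decide) (by decide) (by decide))).mul_right
        (hc (hv (by decide) (by decide) (by decide) (by decide))
          (hv (by decide) (by decide) (by decide) (by decide)))).eq
  have hzc : ∀ x : (cover Γ), x * (z Γ) = (z Γ) * x := fun x =>
    Subgroup.mem_center_iff.mp (show (z Γ) ∈ Subgroup.center (cover Γ) by rw [(center_eq Γ)]; rfl) x
  have hord : orderOf (A * B) = 2 := by
    refine orderOf_eq_prime ?_ h1
    rw [sq]
    calc A * B * (A * B) = A * (B * A) * B := by simp only [mul_assoc]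
      _ = A * (A * B) * B := by rw [← hcomm]
      _ = (A * A) * (B * B) := by simp only [mul_assoc]
      _ = (z Γ) * (z Γ) := by
          rw [hA, hB, (two_sq Γ) _ _ (by decide) (by decide) (by decide) (by decide),
            (two_sq Γ) _ _ (by decide) (by decide) (by decide) (by decide)]
      _ = 1 := by rw [← sq, ← hz, pow_orderOf_eq_one]
  exact ⟨(z Γ), A * B, Ne.symm h2, hz, hord⟩

end H91.SpinA8
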