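/- A non-split double cover of the alternating group of degree 8 inside GL(16, 3). -/
import Cfsg.Agent.H91.SpinA8

set_option autoImplicit false

namespace H91.CliffordA8

open Equiv

abbrev V : Type := Fin 4 → ZMod 2

abbrev R : Type := Matrix V V (ZMod 3)

/-- The character `v ↦ (-1)^v`. -/
def chi (v : ZMod 2) : ZMod 3 := if v = 0 then 1 else 2

theorem chi_add : ∀ a b : ZMod 2, chi (a + b) = chi a * chi b := by decide

def dot (a b : V) : ZMod 2 := a 0 * b 0 + a 1 * b 1 + a 2 * b 2 + a 3 * b 3

theorem dot_add_right (a b c : V) : dot a (b + c) = dot a b + dot a c := by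
  simp only [dot, Pi.add_apply]; ring

theorem dot_add_left (a b c : V) : dot (a + b) c = dot a c + dot b c := by
  simp only [dot, Pi.add_apply]; ring

/-- A Pauli string. -/
def P (x z : V) : R := Matrix.of fun i j => if i = j + x then chi (dot z j) else 0

theorem P_mul (x z x' z' : V) : P x z * P x' z' = chi (dot z x') • P (x + x') (z + z') := by
  ext i j
  simp only [Matrix.mul_apply, P, Matrix.of_apply, Matrix.smul_apply, smul_eq_mul]
  rw [Finset.sum_eq_single (j + x')]
  · rw [if_pos rfl, show j + x' + x = j + (x + x') by abel]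
    split_ifs with h
    · rw [dot_add_right, dot_add_left, chi_add, chi_add]; ring
    · simp
  · intro b _ hb; rw [if_neg hb, mul_zero]
  · simp

theorem P_zero : P 0 0 = 1 := by
  ext i j
  simp only [P, Matrix.of_apply, add_zero, Matrix.one_apply]
  have : dot 0 j = 0 := by simp [dot]
  rw [this]; rfl

def gx : Fin 8 → V := ![![0, 0, 0, 0], ![1, 0, 0, 0], ![1, 1, 0, 0], ![1, 0, 1, 0],
  ![1, 1, 1, 0], ![1, 0, 0, 1], ![1, 1, 0, 1], ![1, 0, 1, 1]]

def gz : Fin 8 → V := ![![1, 0, 0, 0], ![0, 0, 0, 0], ![1, 1, 0, 0], ![1, 1, 1, 0],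
  ![1, 0, 1, 1], ![1, 1, 1, 1], ![1, 0, 0, 1], ![1, 1, 0, 1]]

/-- The gamma matrices. -/
def gam (i : Fin 8) : R := P (gx i) (gz i)

theorem gam_sq (i : Fin 8) : gam i * gam i = 1 := by
  have h1 : ∀ i, chi (dot (gz i) (gx i)) = 1 := by decide
  have h2 : ∀ a : V, a + a = 0 := fun a => funext fun k => CharTwo.add_self_eq_zero (a k)
  rw [gam, P_mul, h1, one_smul, h2, h2, P_zero]

theorem gam_anti {i j : Fin 8} (h : i ≠ j) : gam i * gam j = -(gam j * gam i) := by
  have h1 : ∀ i j, i ≠ j → chi (dot (gz i) (gx j)) = - chi (dot (gz j) (gx i)) := by decide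
  rw [gam, gam, P_mul, P_mul, h1 i j h, neg_smul, add_comm (gx i), add_comm (gz i)]

/-- The pairs `(x, z)` whose string commutes with `M`. -/
def Comm (M : R) (x z : V) : Prop := Commute M (P x z)

theorem comm_add {M : R} {x z x' z' : V} (h : Comm M x z) (h' : Comm M x' z') :
    Comm M (x + x') (z + z') := by
  have h2 : Commute M (chi (dot z x') • P (x + x') (z + z')) := P_mul x z x' z' ▸ h.mul_right h'
  have h3 := h2.smul_right (chi (dot z x'))
  rw [smul_smul] at h3
  have h4 : ∀ v, chi v * chi v = 1 := by decide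
  rwa [h4, one_smul] at h3

theorem comm_sum {M : R} (hM : ∀ i, Commute M (gam i)) (l : List (Fin 8)) :
    Comm M (l.map gx).sum (l.map gz).sum := by
  induction l with
  | nil => simp only [List.map_nil, List.sum_nil, Comm, P_zero]; exact Commute.one_right M
  | cons a l ih => simp only [List.map_cons, List.sum_cons]; exact comm_add (hM a) ih

def e (k : Fin 4) : V := Pi.single k 1

theorem scalar_of_commute {M : R} (hM : ∀ i, Commute M (gam i)) :
    ∃ c : ZMod 3, M = c • (1 : R) := by
  have hX : ∀ k, Comm M (e k) 0 := by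
    intro k
    have key : ∀ k : Fin 4, ∃ l : List (Fin 8), (l.map gx).sum = e k ∧ (l.map gz).sum = 0 := by
      intro k
      fin_cases k
      · exact ⟨[1], by decide⟩
      · exact ⟨[2, 3, 5, 7], by decide⟩
      · exact ⟨[0, 1, 2, 6, 7], by decide⟩
      · exact ⟨[4, 5, 6, 7], by decide⟩
    obtain ⟨l, h1, h2⟩ := key k
    exact h1 ▸ h2 ▸ comm_sum hM l
  have hZ : ∀ k, Comm M 0 (e k) := by
    intro k
    have key : ∀ k : Fin 4, ∃ l : List (Fin 8), (l.map gx).sum = 0 ∧ (l.map gz).sum = e k := by
      intro k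
      fin_cases k
      · exact ⟨[0], by decide⟩
      · exact ⟨[0, 1, 3, 5, 7], by decide⟩
      · exact ⟨[0, 1, 2, 5, 6], by decide⟩
      · exact ⟨[0, 1, 2, 3, 4], by decide⟩
    obtain ⟨l, h1, h2⟩ := key k
    exact h1 ▸ h2 ▸ comm_sum hM l
  have hZapp : ∀ k i j, M i j * chi (j k) = chi (i k) * M i j := by
    intro k i j
    have hd : ∀ v : V, dot (e k) v = v k := by
      intro v; fin_cases k <;> simp [dot, e, Pi.single_apply]
    have h := congrFun (congrFun (hZ k).eq i) j
    simpa [Matrix.mul_apply, P, hd, Finset.sum_ite_eq, Finset.sum_ite_eq'] using h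
  have hdiag : ∀ i j, i ≠ j → M i j = 0 := by
    intro i j hij
    obtain ⟨k, hk⟩ : ∃ k, i k ≠ j k := by
      by_contra h; simp only [not_exists, not_ne_iff] at h; exact hij (funext h)
    have key : ∀ (m : ZMod 3) (a b : ZMod 2), a ≠ b → m * chi b = chi a * m → m = 0 := by decide
    exact key _ _ _ hk (hZapp k i j)
  have hshift : ∀ k i, M (i + e k) (i + e k) = M i i := by
    intro k i
    have h := congrFun (congrFun (hX k).eq (i + e k)) i
    have hd : ∀ v : V, dot 0 v = 0 := fun v => by simp [dot]
    simp only [Matrix.mul_apply, P, Matrix.of_apply, hd] at h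
    rw [Finset.sum_eq_single (i + e k), Finset.sum_eq_single i] at h
    · simpa [chi] using h
    · intro b _ hb; rw [if_neg (fun e' => hb (add_right_cancel e').symm), zero_mul]
    · simp
    · intro b _ hb; rw [if_neg hb, mul_zero]
    · simp
  refine ⟨M 0 0, ?_⟩
  have hall : ∀ l : List (Fin 4), M (l.map e).sum (l.map e).sum = M 0 0 := by
    intro l
    induction l with
    | nil => rfl
    | cons a l ih => rw [List.map_cons, List.sum_cons, add_comm, hshift, ih]
  have hrep : ∀ v : V, ∃ l : List (Fin 4), (l.map e).sum = v := by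
    intro v
    refine ⟨(List.finRange 4).filter (fun k => v k = 1), ?_⟩
    revert v; decide
  ext i j
  rw [Matrix.smul_apply, Matrix.one_apply]
  by_cases h : i = j
  · subst h
    obtain ⟨l, rfl⟩ := hrep i
    simp [hall]
  · simp [h, hdiag i j h]

/-- The sixteen-dimensional model over the field with three elements. -/
def model : H91.SpinA8.Gam R where
  g := gam
  sq := gam_sq
  anti := gam_anti
  three := by
    rw [show (1 : R) + 1 + 1 = ((1 : ZMod 3) + 1 + 1) • (1 : R) by simp [add_smul],
      show (1 : ZMod 3) + 1 + 1 = 0 from by decide, zero_smul]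
  scal M hM := by
    obtain ⟨c, hc⟩ := scalar_of_commute hM
    have hc3 : ∀ c : ZMod 3, c = 0 ∨ c = 1 ∨ c = -1 := by decide
    rcases hc3 c with rfl | rfl | rfl
    · exact Or.inl (hc.trans (zero_smul _ _))
    · exact Or.inr (Or.inl (hc.trans (one_smul _ _)))
    · exact Or.inr (Or.inr (hc.trans (neg_one_smul _ _)))
  neOne h := by
    have := congrFun (congrFun h 0) 0
    simp at this
    exact absurd this (by decide)

end H91.CliffordA8
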