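/- Central extensions of order 2 split when a Sylow 2-subgroup does. -/
import Cfsg.Agent.H91.DihedralLift

set_option autoImplicit false

namespace H91

variable {H : Type*} [Group H] [Finite H]

/-- A retraction onto the centre on a subgroup of odd index gives a complement. -/
theorem complement_of_retraction (hZ : Nat.card (Subgroup.center H) = 2) (P : Subgroup H)
    (hP : Odd P.index) (φ : P →* Subgroup.center H)
    (hφ : ∀ c : P, ∀ hc : (c : H) ∈ Subgroup.center H, φ c = ⟨c, hc⟩)
    (hZP : Subgroup.center H ≤ P) : ∃ L : Subgroup H, (Subgroup.center H).IsComplement' L := by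
  open scoped IsMulCommutative in
  let τ : H →* Subgroup.center H := MonoidHom.transfer φ
  have hτ : ∀ c : Subgroup.center H, τ (c : H) = c := by
    intro c
    have key : ∀ (k : ℕ) (g₀ : H), g₀⁻¹ * (c : H) ^ k * g₀ ∈ P →
        g₀⁻¹ * (c : H) ^ k * g₀ = (c : H) ^ k := by
      intro k g₀ _
      have := Subgroup.mem_center_iff.mp ((Subgroup.center H).pow_mem c.2 k) g₀
      rw [mul_assoc, ← this, inv_mul_cancel_left]
    open scoped IsMulCommutative in
    rw [show τ (c : H) = _ from MonoidHom.transfer_eq_pow φ (c : H) key, hφ _ (pow_mem c.2 _)]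
    apply Subtype.ext
    show (c : H) ^ P.index = c
    have h2 : (c : H) ^ 2 = 1 := by
      rw [← SubmonoidClass.coe_pow, ← hZ, pow_card_eq_one']; rfl
    obtain ⟨k, hk⟩ := hP
    rw [hk, pow_succ, pow_mul, h2, one_pow, one_mul]
  refine ⟨τ.ker, Subgroup.isComplement'_of_disjoint_and_mul_eq_univ ?_ ?_⟩
  · rw [Subgroup.disjoint_def]
    intro x hx hx'
    have := hτ ⟨x, hx⟩
    rw [MonoidHom.mem_ker] at hx'
    rw [show ((⟨x, hx⟩ : Subgroup.center H) : H) = x from rfl, hx'] at this
    exact (congrArg Subtype.val this).symm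
  · apply Set.eq_univ_of_forall
    intro g
    refine ⟨(τ g : H), (τ g).2, ((τ g : H))⁻¹ * g, ?_, mul_inv_cancel_left _ _⟩
    rw [SetLike.mem_coe, MonoidHom.mem_ker, map_mul, map_inv, hτ, inv_mul_cancel]

/-- If no element squares to the non-trivial central element and a subgroup of odd index of the
quotient is dihedral of order `2m`, `m` even, the extension splits. -/
theorem complement_of_dihedral {Q : Type*} [Group Q] (f : H →* Q) (hf : Function.Surjective f)
    (hker : f.ker = Subgroup.center H) (hZ : Nat.card (Subgroup.center H) = 2)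
    (hsq : ∀ g : H, g ^ 2 ∈ Subgroup.center H → g ^ 2 = 1) {m : ℕ} [NeZero m] (hm : Even m)
    (φ₀ : DihedralGroup m →* Q) (hφ₀ : Function.Injective φ₀) (hodd : Odd φ₀.range.index) :
    ∃ L : Subgroup H, (Subgroup.center H).IsComplement' L := by
  classical
  have hmem : ∀ h, h ∈ Subgroup.center H ↔ f h = 1 := fun h => by
    rw [← hker, MonoidHom.mem_ker]
  have hlift : ∀ q : Q, q * q = 1 → ∃ g : H, f g = q ∧ g * g = 1 := by
    intro q hq
    obtain ⟨g, rfl⟩ := hf q
    refine ⟨g, rfl, ?_⟩
    rw [← sq]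
    refine hsq g ((hmem _).mpr ?_)
    rw [map_pow, sq, hq]
  obtain ⟨s, hs, hss⟩ := hlift (φ₀ (.sr 0)) (by rw [← map_mul, DihedralGroup.sr_mul_self, map_one])
  obtain ⟨t, ht, htt⟩ := hlift (φ₀ (.sr 1)) (by rw [← map_mul, DihedralGroup.sr_mul_self, map_one])
  obtain ⟨u, hu⟩ : ∃ u, s * t = u := ⟨_, rfl⟩
  have hfu : f u = φ₀ (.r 1) := by
    rw [← hu, map_mul, hs, ht, ← map_mul, DihedralGroup.sr_mul_sr, sub_zero]
  have hsi : s⁻¹ = s := inv_eq_of_mul_eq_one_right hss
  have hti : t⁻¹ = t := inv_eq_of_mul_eq_one_right htt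
  have hconj : s * u * s⁻¹ = u⁻¹ := by
    rw [← hu, mul_inv_rev, hsi, hti, ← mul_assoc, hss, one_mul]
  haveI : NeZero (orderOf u) := ⟨orderOf_ne_zero_iff.mpr (isOfFinOrder_of_finite u)⟩
  let D := dihedralLift (n := orderOf u) u s (pow_orderOf_eq_one u) hss hconj
  have hr : ∀ j : ℕ, D (.r (j : ZMod (orderOf u))) = u ^ j := fun j => by
    show u ^ ((j : ZMod (orderOf u))).val = u ^ j
    rw [ZMod.val_natCast, pow_mod_orderOf]
  have hs0 : D (.sr 0) = s := by
    show s * u ^ (0 : ZMod (orderOf u)).val = s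
    simp
  -- no non-trivial central element in the range
  have hLZ : ∀ x, x ∈ D.range → x ∈ Subgroup.center H → x = 1 := by
    rintro _ ⟨x, rfl⟩ hx
    rw [hmem] at hx
    rcases x with i | i
    · change f (u ^ i.val) = 1 at hx
      show u ^ i.val = 1
      rw [map_pow, hfu, ← map_pow, DihedralGroup.r_pow, one_mul, ← map_one φ₀] at hx
      have hi := DihedralGroup.r.inj ((hφ₀ hx).trans DihedralGroup.one_def)
      rw [ZMod.natCast_eq_zero_iff] at hi
      obtain ⟨k, hk⟩ := hi
      obtain ⟨l, hl⟩ := hm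
      have hum : u ^ m ∈ Subgroup.center H := by
        rw [hmem, map_pow, hfu, ← map_pow, DihedralGroup.r_one_pow_n, map_one]
      have h1 : (u ^ l) ^ 2 = 1 := hsq (u ^ l) (by
        rw [← pow_mul, mul_two, ← hl]; exact hum)
      rw [hk, hl, pow_mul, ← two_mul, mul_comm, pow_mul, h1, one_pow]
    · change f (s * u ^ i.val) = 1 at hx
      rw [map_mul, map_pow, hfu, hs, ← map_pow, ← map_mul, DihedralGroup.r_pow,
        DihedralGroup.sr_mul_r, ← map_one φ₀] at hx
      have e := (hφ₀ hx).trans DihedralGroup.one_def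
      cases e
  let P := φ₀.range.comap f
  have hdec : ∀ p ∈ P, ∃ l ∈ D.range, l⁻¹ * p ∈ Subgroup.center H := by
    rintro p ⟨x, hx⟩
    rcases x with j | j
    · refine ⟨u ^ j.val, ⟨_, hr _⟩, (hmem _).mpr ?_⟩
      rw [map_mul, map_inv, map_pow, hfu, ← map_pow, DihedralGroup.r_pow, one_mul,
        ZMod.natCast_zmod_val, ← hx, inv_mul_cancel]
    · refine ⟨s * u ^ j.val, ⟨.sr 0 * .r (j.val : ZMod (orderOf u)), by rw [map_mul, hs0, hr]⟩,
        (hmem _).mpr ?_⟩
      rw [map_mul, map_inv, map_mul, map_pow, hfu, hs, ← map_pow, ← map_mul, DihedralGroup.r_pow,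
        one_mul, DihedralGroup.sr_mul_r, zero_add, ZMod.natCast_zmod_val, ← hx, inv_mul_cancel]
  obtain ⟨z, hz⟩ : ∃ z : Subgroup.center H, z ≠ 1 :=
    haveI : Nontrivial (Subgroup.center H) := Finite.one_lt_card_iff_nontrivial.mp (by omega)
    exists_ne 1
  have hz2 : z * z = 1 := by rw [← sq, ← hZ, pow_card_eq_one']
  have hcases : ∀ c : Subgroup.center H, c = 1 ∨ c = z := by
    intro c
    by_cases hc : c = 1
    · exact Or.inl hc
    · exact Or.inr (((Nat.card_eq_two_iff' (1 : Subgroup.center H)).mp hZ).unique hc hz)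
  have hnot : ∀ p ∈ P, p ∉ D.range → ∃ l ∈ D.range, p = l * (z : H) := by
    intro p hp hpL
    obtain ⟨l, hl, hc⟩ := hdec p hp
    refine ⟨l, hl, ?_⟩
    rcases hcases ⟨_, hc⟩ with h | h
    · have : l⁻¹ * p = 1 := congrArg Subtype.val h
      exact absurd (inv_mul_eq_one.mp this ▸ hl) hpL
    · have : l⁻¹ * p = (z : H) := congrArg Subtype.val h
      exact eq_mul_of_inv_mul_eq this
  have hzc := Subgroup.mem_center_iff.mp z.2
  let φ : P →* Subgroup.center H :=
    { toFun := fun p => if (p : H) ∈ D.range then 1 else z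
      map_one' := by simp [D.range.one_mem]
      map_mul' := fun a b => by
        by_cases ha : (a : H) ∈ D.range
        · simp [ha, D.range.mul_mem_cancel_left ha]
        · by_cases hb : (b : H) ∈ D.range
          · simp [hb, D.range.mul_mem_cancel_right hb]
          · obtain ⟨l, hl, hal⟩ := hnot a a.2 ha
            obtain ⟨l', hl', hbl⟩ := hnot b b.2 hb
            have e : (a : H) * b = l * l' := by
              calc (a : H) * b = l * (z : H) * (l' * z) := by rw [hal, hbl]
                _ = l * ((z : H) * l') * z := by simp only [mul_assoc]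
                _ = l * (l' * z) * z := by rw [← hzc]
                _ = l * l' * ((z : H) * z) := by simp only [mul_assoc]
                _ = l * l' := by rw [← Subgroup.coe_mul, hz2, Subgroup.coe_one, mul_one]
            simp [ha, hb, e, D.range.mul_mem hl hl', hz2] }
  refine complement_of_retraction hZ P (by rwa [Subgroup.index_comap_of_surjective _ hf]) φ ?_ ?_
  · intro c hc
    show (if (c : H) ∈ D.range then 1 else z) = _
    by_cases h : (c : H) ∈ D.range
    · rw [if_pos h]; exact Subtype.ext (hLZ _ h hc).symm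
    · rw [if_neg h]
      rcases hcases ⟨(c : H), hc⟩ with h' | h'
      · exact absurd (congrArg Subtype.val h' ▸ D.range.one_mem) h
      · exact h'.symm
  · intro c hc
    show f c ∈ φ₀.range
    rw [(hmem c).mp hc]; exact one_mem _

end H91
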