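/- Consequences of the kernel certificates. -/
import Cfsg.Agent.H91.FamCerts

set_option autoImplicit false

namespace H91.Fam

open Cfsg
open scoped Pointwise

theorem sext_small : smallB sextFams = true := by
  have h := sextKer_ok
  simp only [Bool.and_eq_true] at h
  exact h.1.1.1.1

theorem sext_comm : commB (invols (fixList sextFams)) = true := by
  have h := sextKer_ok
  simp only [Bool.and_eq_true] at h
  rw [sext_list]
  exact h.1.1.2

theorem natCard_sextFix : Nat.card (Fix sextFams) = 192 := by
  have h := sextKer_ok
  simp only [Bool.and_eq_true] at h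
  rw [natCard_fix h.1.1.1.1 (sext_list ▸ sextKer_nodup) (sext_list.symm ▸ h.1.1.1.2), sext_list]
  decide +kernel

theorem natCard_sextInvol : Nat.card (involSubgroup sext_small sext_comm) = 64 := by
  have h := sextKer_ok
  simp only [Bool.and_eq_true] at h
  rw [natCard_invol sext_small sext_comm (sext_list ▸ sextKer_nodup) (sext_list.symm ▸ h.1.1.1.2), sext_list]
  decide +kernel

theorem trio_square {g : Equiv.Perm GolayPt} (hg : g ∈ Fix trioFams) : g * g = 1 := by
  have h := trioKer_ok
  simp only [Bool.and_eq_true] at h
  obtain ⟨Q, hQ, hR⟩ := fixList_complete h.1.1.1 hg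
  rw [trio_list] at hQ
  exact (peq_iff (hR.mul hR) H94.reps_one).mp (List.all_eq_true.mp h.2 Q hQ)

theorem natCard_trioFix : Nat.card (Fix trioFams) = 64 := by
  have h := trioKer_ok
  simp only [Bool.and_eq_true] at h
  rw [natCard_fix h.1.1.1 (trio_list ▸ trioKer_nodup) (trio_list.symm ▸ h.1.1.2), trio_list]
  decide +kernel

end H91.Fam
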