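/- Subgroups of M24 fixing given families of point sets, listed element by element. -/
import Cfsg.Agent.H91.M24Objects
import Cfsg.Agent.H94.Chain

set_option autoImplicit false

namespace H91.Fam

open Cfsg
open scoped Pointwise

/-- The elements of M24 fixing each family. -/
def Fix (fams : List (List ℕ)) : Subgroup (Equiv.Perm GolayPt) where
  carrier := {g | g ∈ M24 ∧ ∀ F ∈ fams, g • H94.famList F = H94.famList F}
  mul_mem' := fun ha hb =>
    ⟨M24.mul_mem ha.1 hb.1, fun F hF => by rw [mul_smul, hb.2 F hF, ha.2 F hF]⟩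
  one_mem' := ⟨M24.one_mem, fun _ _ => one_smul _ _⟩
  inv_mem' := fun ha => ⟨M24.inv_mem ha.1, fun F hF => by rw [inv_smul_eq_iff, ha.2 F hF]⟩

/-- whether some member contains both positions -/
def sameB (F : List ℕ) (x y : ℕ) : Bool := F.any fun m => H94.bitB m x && H94.bitB m y

def prefB (fams : List (List ℕ)) (l Q : ℕ) : Bool :=
  fams.all fun F => (List.range (l + 1)).all fun j =>
    sameB F j l == sameB F (H94.pap Q j) (H94.pap Q l)

noncomputable def fixB (fams : List (List ℕ)) (Q : ℕ) : Bool :=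
  fams.all fun F => F.all fun m => F.any (Nat.beq (H94.pmask Q m))

noncomputable def fixList (fams : List (List ℕ)) : List ℕ := (H94.search (prefB fams)).filter (fixB fams)

def smallB (fams : List (List ℕ)) : Bool := fams.all fun F => F.all fun m => Nat.blt m 16777216

/-- canonical packed forms -/
def canonB (L : List ℕ) : Bool := L.all fun Q => Nat.blt Q (2 ^ 120)

noncomputable def commB (L : List ℕ) : Bool :=
  L.all fun P => L.all fun Q => H94.peq (H94.pmul P Q) (H94.pmul Q P)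

noncomputable def invols (L : List ℕ) : List ℕ := L.filter fun Q => H94.peq (H94.pmul Q Q) H94.pone

theorem sameB_iff (F : List ℕ) {x y : ℕ} (hx : x < 24) (hy : y < 24) :
    sameB F x y = true ↔ ∃ t ∈ H94.famList F, H94.ptN x ∈ t ∧ H94.ptN y ∈ t := by
  simp only [sameB, List.any_eq_true, Bool.and_eq_true, H94.bitB_eq]
  constructor
  · rintro ⟨m, hm, h1, h2⟩
    exact ⟨_, H94.mem_famList.mpr ⟨m, hm, rfl⟩, (H94.mem_setOf'_ptN hx).mpr h1,
      (H94.mem_setOf'_ptN hy).mpr h2⟩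
  · rintro ⟨t, ht, h1, h2⟩
    obtain ⟨m, hm, rfl⟩ := H94.mem_famList.mp ht
    exact ⟨m, hm, (H94.mem_setOf'_ptN hx).mp h1, (H94.mem_setOf'_ptN hy).mp h2⟩

variable {fams : List (List ℕ)}

theorem prefB_of_fix {g : Equiv.Perm GolayPt} (hg : g ∈ Fix fams) {l Q : ℕ} (hl : l < 5)
    (hQ : H94.Agree g (l + 1) Q) : prefB fams l Q = true := by
  simp only [prefB, List.all_eq_true, beq_iff_eq]
  intro F hF j hj
  rw [List.mem_range] at hj
  rw [hQ j hj, hQ l (Nat.lt_succ_self l), Bool.eq_iff_iff, sameB_iff F (by omega) (by omega),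
    sameB_iff F (H94.idxN_lt _) (H94.idxN_lt _), H94.ptN_idxN, H94.ptN_idxN]
  constructor
  · rintro ⟨t, ht, h1, h2⟩
    exact ⟨g • t, hg.2 F hF ▸ Finset.smul_mem_smul_finset ht, (H92.mem_smul_apply g t _).mpr h1,
      (H92.mem_smul_apply g t _).mpr h2⟩
  · rintro ⟨t, ht, h1, h2⟩
    rw [← hg.2 F hF] at ht
    obtain ⟨u, hu, rfl⟩ := Finset.mem_smul_finset.mp ht
    exact ⟨u, hu, (H92.mem_smul_apply g u _).mp h1, (H92.mem_smul_apply g u _).mp h2⟩

theorem fix_iff_fixB (hs : smallB fams = true) {g : Equiv.Perm GolayPt} (hg : g ∈ M24) {Q : ℕ}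
    (hR : H94.Reps Q g) : g ∈ Fix fams ↔ fixB fams Q = true := by
  classical
  simp only [fixB, List.all_eq_true, List.any_eq_true]
  simp only [smallB, List.all_eq_true] at hs
  constructor
  · intro h F hF m hm
    have hmem : g • H90.setOf' m ∈ H94.famList F :=
      h.2 F hF ▸ Finset.smul_mem_smul_finset (H94.mem_famList.mpr ⟨m, hm, rfl⟩)
    obtain ⟨m', hm', e⟩ := H94.mem_famList.mp hmem
    rw [← hR.setOf'] at e
    refine ⟨m', hm', ?_⟩
    rw [H90.setOf'_injOn (hR.pmask_lt m) (Nat.le_of_ble_eq_true (hs F hF m' hm')) e.symm]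
    exact Nat.beq_refl _
  · intro h
    refine ⟨hg, fun F hF => Finset.eq_of_subset_of_card_le ?_ (by rw [Finset.card_smul_finset])⟩
    intro t ht
    obtain ⟨u, hu, rfl⟩ := Finset.mem_smul_finset.mp ht
    obtain ⟨m, hm, rfl⟩ := H94.mem_famList.mp hu
    obtain ⟨m', hm', e⟩ := h F hF m hm
    exact H94.mem_famList.mpr ⟨m', hm', by rw [← Nat.eq_of_beq_eq_true e, hR.setOf']⟩

theorem fixList_complete (hs : smallB fams = true) {g : Equiv.Perm GolayPt} (hg : g ∈ Fix fams) :
    ∃ Q ∈ fixList fams, H94.Reps Q g := by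
  obtain ⟨Q, hQ, hR⟩ := H94.search_complete (prefB fams) hg.1 fun l hl Q hQ => prefB_of_fix hg hl hQ
  exact ⟨Q, List.mem_filter.mpr ⟨hQ, (fix_iff_fixB hs hg.1 hR).mp hg⟩, hR⟩

theorem fixList_sound (hs : smallB fams = true) {Q : ℕ} (hQ : Q ∈ fixList fams) :
    ∃ g ∈ Fix fams, H94.Reps Q g := by
  obtain ⟨hQ, hf⟩ := List.mem_filter.mp hQ
  obtain ⟨g, hg, hR⟩ := H94.search_sound _ hQ
  exact ⟨g, (fix_iff_fixB hs hg hR).mpr hf, hR⟩

theorem eq_of_pap {P Q : ℕ} (hP : P < 2 ^ 120) (hQ : Q < 2 ^ 120)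
    (h : ∀ i < 24, H94.pap P i = H94.pap Q i) : P = Q := by
  refine Nat.eq_of_testBit_eq fun k => ?_
  by_cases hk : k < 120
  · have := congrArg (fun n => n.testBit (k % 5)) (h (k / 5) (by omega))
    simp only [H94.pap_def, Nat.testBit_and, Nat.testBit_shiftRight] at this
    rw [show 5 * (k / 5) + k % 5 = k by omega,
      show (31 : ℕ) = 2 ^ 5 - 1 from rfl, Nat.testBit_two_pow_sub_one,
      decide_eq_true (Nat.mod_lt k (by norm_num : 5 > 0)), Bool.and_true, Bool.and_true] at this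
    exact this
  · rw [Nat.testBit_lt_two_pow (hP.trans_le (Nat.pow_le_pow_right (by norm_num) (by omega))),
      Nat.testBit_lt_two_pow (hQ.trans_le (Nat.pow_le_pow_right (by norm_num) (by omega)))]

/-- Counting members through the list. -/
theorem natCard_sep {L : List ℕ} (hnd : L.Nodup) (hcan : canonB L = true)
    (S : Set (Equiv.Perm GolayPt)) (hcomp : ∀ g ∈ S, ∃ Q ∈ L, H94.Reps Q g)
    (hsound : ∀ Q ∈ L, ∃ g ∈ S, H94.Reps Q g) : Nat.card S = L.length := by
  classical
  choose G hG hR using hsound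
  simp only [canonB, List.all_eq_true] at hcan
  rw [← List.toFinset_card_of_nodup hnd, ← Nat.card_eq_finsetCard]
  refine (Nat.card_eq_of_bijective
    (fun Q : ↥L.toFinset => (⟨G Q (List.mem_toFinset.mp Q.2), hG _ _⟩ : S)) ⟨?_, ?_⟩).symm
  · intro P Q e
    have e' : G P (List.mem_toFinset.mp P.2) = G Q (List.mem_toFinset.mp Q.2) :=
      congrArg Subtype.val e
    refine Subtype.ext (eq_of_pap (Nat.le_of_ble_eq_true (hcan _ (List.mem_toFinset.mp P.2)))
      (Nat.le_of_ble_eq_true (hcan _ (List.mem_toFinset.mp Q.2))) fun i hi => ?_)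
    rw [hR _ (List.mem_toFinset.mp P.2) i hi, hR _ (List.mem_toFinset.mp Q.2) i hi, e']
  · rintro ⟨g, hg⟩
    obtain ⟨Q, hQ, hQR⟩ := hcomp g hg
    exact ⟨⟨Q, List.mem_toFinset.mpr hQ⟩, Subtype.ext ((hR Q hQ).unique hQR)⟩

theorem natCard_fix (hs : smallB fams = true) (hnd : (fixList fams).Nodup)
    (hcan : canonB (fixList fams) = true) : Nat.card (Fix fams) = (fixList fams).length :=
  natCard_sep hnd hcan (Fix fams : Set (Equiv.Perm GolayPt))
    (fun _ hg => fixList_complete hs hg) (fun _ hQ => fixList_sound hs hQ)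

theorem peq_iff {P Q : ℕ} {g k : Equiv.Perm GolayPt} (hP : H94.Reps P g) (hQ : H94.Reps Q k) :
    H94.peq P Q = true ↔ g = k :=
  ⟨fun h => hP.eq_of_peq hQ h, fun h => hP.peq_of_eq (h ▸ hQ)⟩

theorem invols_iff {g : Equiv.Perm GolayPt} {Q : ℕ} {L : List ℕ} (hQ : Q ∈ L) (hR : H94.Reps Q g) :
    Q ∈ invols L ↔ g * g = 1 := by
  rw [invols, List.mem_filter, peq_iff (hR.mul hR) H94.reps_one]
  exact and_iff_right hQ

/-- The involutions of the listed group commute. -/
theorem comm_invols (hs : smallB fams = true) (hc : commB (invols (fixList fams)) = true)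
    {g k : Equiv.Perm GolayPt} (hg : g ∈ Fix fams) (hk : k ∈ Fix fams) (hg2 : g * g = 1)
    (hk2 : k * k = 1) : g * k = k * g := by
  simp only [commB, List.all_eq_true] at hc
  obtain ⟨P, hP, hPR⟩ := fixList_complete hs hg
  obtain ⟨Q, hQ, hQR⟩ := fixList_complete hs hk
  exact (peq_iff (hPR.mul hQR) (hQR.mul hPR)).mp
    (hc P ((invols_iff hP hPR).mpr hg2) Q ((invols_iff hQ hQR).mpr hk2))

/-- The involutions and the identity. -/
def involSubgroup (hs : smallB fams = true) (hc : commB (invols (fixList fams)) = true) :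
    Subgroup (Equiv.Perm GolayPt) where
  carrier := {g | g ∈ Fix fams ∧ g * g = 1}
  mul_mem' := by
    rintro a b ⟨ha, ha2⟩ ⟨hb, hb2⟩
    refine ⟨mul_mem ha hb, ?_⟩
    rw [mul_assoc, ← mul_assoc b a b, comm_invols hs hc hb ha hb2 ha2, mul_assoc a b b, hb2,
      mul_one, ha2]
  one_mem' := ⟨one_mem _, one_mul 1⟩
  inv_mem' := by
    rintro a ⟨ha, ha2⟩
    refine ⟨inv_mem ha, ?_⟩
    rw [← mul_inv_rev, ha2, inv_one]

theorem natCard_invol (hs : smallB fams = true) (hc : commB (invols (fixList fams)) = true)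
    (hnd : (fixList fams).Nodup) (hcan : canonB (fixList fams) = true) :
    Nat.card (involSubgroup hs hc) = (invols (fixList fams)).length := by
  refine natCard_sep (hnd.filter _) ?_ (involSubgroup hs hc : Set (Equiv.Perm GolayPt)) ?_ ?_
  · simp only [canonB, List.all_eq_true] at hcan ⊢
    exact fun Q hQ => hcan Q (List.mem_filter.mp hQ).1
  · rintro g ⟨hg, hg2⟩
    obtain ⟨Q, hQ, hR⟩ := fixList_complete hs hg
    exact ⟨Q, (invols_iff hQ hR).mpr hg2, hR⟩
  · intro Q hQ
    obtain ⟨g, hg, hR⟩ := fixList_sound hs (List.mem_filter.mp hQ).1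
    exact ⟨g, ⟨hg, (invols_iff (List.mem_filter.mp hQ).1 hR).mp hQ⟩, hR⟩

end H91.Fam
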