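/- Decidable model of the symplectic space of dimension four over the field of four elements. -/
import Cfsg.Agent.H93.HeTable
import Cfsg.Agent.H91.HeTables

set_option autoImplicit false

namespace H91.HeT

/-- field `i` of width `w` in a packed table -/
def get (w N i : ℕ) : ℕ := (N >>> (w * i)) % 2 ^ w

/-- addition of codes in the field of four elements -/
def qadd (a b : ℕ) : ℕ := Nat.xor a b
/-- multiplication of codes in the field of four elements -/
def qmul : ℕ → ℕ → ℕ
  | 1, 1 => 1 | 1, 2 => 2 | 1, 3 => 3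
  | 2, 1 => 2 | 2, 2 => 3 | 2, 3 => 1
  | 3, 1 => 3 | 3, 2 => 1 | 3, 3 => 2
  | _, _ => 0

/-- a vector of four codes -/
abbrev V4 := ℕ × ℕ × ℕ × ℕ

def vecOf (c : ℕ) : V4 := (c % 4, c / 4 % 4, c / 16 % 4, c / 64 % 4)
def codeOf (v : V4) : ℕ := v.1 + 4 * v.2.1 + 16 * v.2.2.1 + 64 * v.2.2.2
def qform (u v : V4) : ℕ :=
  qadd (qadd (qadd (qmul u.1 v.2.2.1) (qmul u.2.1 v.2.2.2)) (qmul u.2.2.1 v.1)) (qmul u.2.2.2 v.2.1)
def qsmul (a : ℕ) (v : V4) : V4 := (qmul a v.1, qmul a v.2.1, qmul a v.2.2.1, qmul a v.2.2.2)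
def qvadd (u v : V4) : V4 :=
  (qadd u.1 v.1, qadd u.2.1 v.2.1, qadd u.2.2.1 v.2.2.1, qadd u.2.2.2 v.2.2.2)
/-- representative of a projective point -/
def pv (p : ℕ) : V4 := vecOf (get 8 ptN p)
/-- point of a nonzero vector -/
def pidx (v : V4) : ℕ := get 7 idxN (codeOf v)
/-- scalar of a nonzero vector -/
def plam (v : V4) : ℕ := get 2 lamN (codeOf v)
/-- image vector under transvection number `t` -/
def tvVec (t x : ℕ) : V4 :=
  qvadd (pv x) (qsmul (qmul (t % 3 + 1) (qform (pv x) (pv (t / 3)))) (pv (t / 3)))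
/-- transvection number `t` on points -/
def tvP (t x : ℕ) : ℕ := pidx (tvVec t x)
/-- the field automorphism on vectors -/
def frobVec (v : V4) : V4 := (qmul v.1 v.1, qmul v.2.1 v.2.1, qmul v.2.2.1 v.2.2.1, qmul v.2.2.2 v.2.2.2)
/-- the field automorphism on points -/
def frobP (x : ℕ) : ℕ := pidx (frobVec (pv x))

/-- subgroup generator `i` on the blocks -/
def genB (i x : ℕ) : ℕ := get 7 (genN.getD i 0) x
/-- block of a coset -/
def blk (c : ℕ) : ℕ := get 7 blkN c
/-- representative coset of a block -/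
def brep (b : ℕ) : ℕ := get 12 repN b
/-- word of subgroup generator `i` -/
def subWord (i : ℕ) : List ℕ := (H93.HeTable.data.words.drop H93.HeTable.data.nrel).getD i []
/-- image under subgroup generator `i` -/
def cosImg (i c : ℕ) : ℕ := H93.Coset.pathEnd H93.HeTable.data.T (subWord i) c
/-- a word of subgroup generators on the blocks -/
def wordB (w : List ℕ) (x : ℕ) : ℕ := w.foldl (fun y i => genB i y) x
/-- a product of transvections on the points -/
def tvWord (w : List ℕ) (x : ℕ) : ℕ := w.foldr tvP x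

end H91.HeT
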