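/- Decidable checks for the involution centraliser in the Held group. -/
import Cfsg.Agent.H91.HeDefs
import Cfsg.Agent.H91.HeCentData

set_option autoImplicit false

namespace H91.HeC

open H93.Coset (force allRange walk pathEnd)

/-- record number `i` -/
def recOf (i : ℕ) : ℕ :=
  (((recs.getD (i / 3072) []).getD (i / 256 % 12) 0) >>> (128 * (i % 256))) % 2 ^ 128

/-- the matrix code of a record -/
def mcode (r : ℕ) : ℕ := r % 2 ^ 25
/-- the packed images of the four base nodes -/
def tup (r : ℕ) : ℕ := (r >>> 25) % 2 ^ 48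
/-- one base image -/
def tupAt (r k : ℕ) : ℕ := (r >>> (25 + 12 * k)) % 2 ^ 12
/-- the neighbours -/
def nxt (r k : ℕ) : ℕ := (r >>> (73 + 15 * k)) % 2 ^ 15
def parOf (r : ℕ) : ℕ := (r >>> 103) % 2 ^ 15
def pgOf (r : ℕ) : ℕ := (r >>> 118) % 2
def rankOf (r : ℕ) : ℕ := (r >>> 119) % 2 ^ 7

/-- row `i` of a matrix code -/
def rowOf (c i : ℕ) : ℕ := (c >>> (5 * i)) % 32

/-- combination of the rows of `c` with coefficient bits `m` -/
def rowMul (m c : ℕ) : ℕ :=
  Nat.xor ((m / 1 % 2) * rowOf c 0) (Nat.xor ((m / 2 % 2) * rowOf c 1) (Nat.xor ((m / 4 % 2) * rowOf c 2)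
    (Nat.xor ((m / 8 % 2) * rowOf c 3) ((m / 16 % 2) * rowOf c 4))))

/-- the code of a product -/
def codeMul (M c : ℕ) : ℕ :=
  rowMul (rowOf M 0) c + 32 * rowMul (rowOf M 1) c + 1024 * rowMul (rowOf M 2) c +
    32768 * rowMul (rowOf M 3) c + 1048576 * rowMul (rowOf M 4) c

/-- code of the identity -/
def oneCode : ℕ := 1 + 32 * 2 + 1024 * 4 + 32768 * 8 + 1048576 * 16
/-- packed base -/
def baseTup : ℕ := 0 + 4096 * 1 + 16777216 * 14 + 68719476736 * 38

/-- one step of a generator with table `W` and code `M` -/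
noncomputable def stepOK (W M r j : ℕ) : Bool :=
  Nat.blt j 21504 && force (recOf j) fun q =>
    Nat.beq (mcode q) (codeMul M (mcode r)) &&
    Nat.beq (tupAt q 0) (H91.HeT.get 12 W (tupAt r 0)) && Nat.beq (tupAt q 1) (H91.HeT.get 12 W (tupAt r 1)) &&
    Nat.beq (tupAt q 2) (H91.HeT.get 12 W (tupAt r 2)) && Nat.beq (tupAt q 3) (H91.HeT.get 12 W (tupAt r 3))

/-- all checks at record `i` -/
noncomputable def recOK (i : ℕ) : Bool :=
  force (recOf i) fun r =>
    stepOK tabA matA r (nxt r 0) && stepOK tabB matB r (nxt r 1) &&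
    (Nat.beq (i + 1) 21504 || Nat.blt (mcode r) (mcode (recOf (i + 1)))) &&
    (bif Nat.beq i idx1 then Nat.beq (mcode r) oneCode && Nat.beq (tup r) baseTup
     else !(Nat.beq (mcode r) oneCode) && !(Nat.beq (tup r) baseTup) &&
      Nat.blt (parOf r) 21504 && force (recOf (parOf r)) fun p =>
        Nat.blt (rankOf p) (rankOf r) && Nat.beq (nxt p (pgOf r)) i)

/-- a word agrees with its table on all nodes and commutes with the involution -/
noncomputable def wordOK (w : List ℕ) (W : ℕ) : Bool :=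
  w.all (fun g => Nat.blt g 7) && allRange 0 2058 fun c =>
    walk H93.HeTable.data.T w c fun e => Nat.beq e (H91.HeT.get 12 W c) &&
      force (H93.HeTable.data.T 3 c) fun d => walk H93.HeTable.data.T w d fun e' =>
        Nat.beq e' (H93.HeTable.data.T 3 e)

/-- a node fixed by the involution is in the list -/
noncomputable def fixOK (c : ℕ) : Bool :=
  !(Nat.beq (H93.HeTable.data.T 3 c) c) || fixN.contains c

/-- the conjugate number `j` and its fixed points -/
def conjOK (j : ℕ) : Bool :=
  (conjWords.getD j []).all (fun g => Nat.blt g 7) && (List.range 85).all fun x =>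
    Nat.beq (H91.HeT.get 7 (conjTabs.getD j 0) (H91.HeT.wordB (conjWords.getD j []) x))
      (H91.HeT.wordB (conjWords.getD j []) (H91.HeT.genB 2 x)) &&
    ((Nat.beq (H91.HeT.get 7 (conjTabs.getD j 0) x) x) == lineMask.testBit x)

/-- the transporter number `i` -/
def lineOK (i : ℕ) : Bool :=
  (lineWords.getD i []).all (fun g => Nat.blt g 7) && Nat.blt (lineMasks.getD i 0) (2 ^ 85) &&
    (List.range 85).all fun x =>
      (lineMasks.getD i 0).testBit (H91.HeT.wordB (lineWords.getD i []) x) == lineMask.testBit x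

end H91.HeC
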