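/- Kernel checks for the involution centraliser in the Held group. -/
import Cfsg.Agent.H91.HeCentDefs

set_option autoImplicit false
set_option maxRecDepth 100000

namespace H91.HeC

open H93.Coset (allRange)

theorem words_ok : wordOK wordA tabA = true ∧ wordOK wordB tabB = true := by decide +kernel

theorem fix_ok : allRange 0 2058 fixOK = true ∧ fixN.length = 42 := by decide +kernel

theorem conj_ok : (List.range 45).all conjOK = true ∧
    (conjTabs.map fun P => (List.range 85).map fun x => H91.HeT.get 7 P x).Nodup ∧
    conjTabs.length = 45 := by decide +kernel

theorem line_ok : (List.range 85).all lineOK = true ∧ lineMasks.Nodup ∧ lineMasks.length = 85 := by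
  decide +kernel

theorem sub_two : H91.HeT.subWord 2 = [3] ∧ (H93.HeTable.data.T 3 1 ≠ 1 ∨ H93.HeTable.data.T 3 14 ≠ 14) := by decide +kernel

theorem rec0 : allRange 0 3072 recOK = true := by decide +kernel

theorem rec1 : allRange 3072 3072 recOK = true := by decide +kernel

theorem rec2 : allRange 6144 3072 recOK = true := by decide +kernel

theorem rec3 : allRange 9216 3072 recOK = true := by decide +kernel

theorem rec4 : allRange 12288 3072 recOK = true := by decide +kernel

theorem rec5 : allRange 15360 3072 recOK = true := by decide +kernel

theorem rec6 : allRange 18432 3072 recOK = true := by decide +kernel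

theorem rec_ok (i : ℕ) (h : i < 21504) : recOK i = true := by
  by_cases h1 : i < 3072
  · exact H93.Coset.allRange_spec rec0 i (Nat.zero_le _) (by omega)
  by_cases h2 : i < 6144
  · exact H93.Coset.allRange_spec rec1 i (by omega) (by omega)
  by_cases h3 : i < 9216
  · exact H93.Coset.allRange_spec rec2 i (by omega) (by omega)
  by_cases h4 : i < 12288
  · exact H93.Coset.allRange_spec rec3 i (by omega) (by omega)
  by_cases h5 : i < 15360
  · exact H93.Coset.allRange_spec rec4 i (by omega) (by omega)
  by_cases h6 : i < 18432
  · exact H93.Coset.allRange_spec rec5 i (by omega) (by omega)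
  exact H93.Coset.allRange_spec rec6 i (by omega) (by omega)

end H91.HeC
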