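/- The centraliser of a transvection in SL(5,2): matrices, row codes and the order bound. -/
import Mathlib
import Cfsg.Agent.H91.HeCentDefs

set_option autoImplicit false

noncomputable section

namespace H91.HeC

open Matrix

abbrev M5 := Matrix (Fin 5) (Fin 5) (ZMod 2)
abbrev SL5 := Matrix.SpecialLinearGroup (Fin 5) (ZMod 2)

/-- a row as a number -/
def rowNum (v : Fin 5 → ZMod 2) : ℕ :=
  (v 0).val + 2 * (v 1).val + 4 * (v 2).val + 8 * (v 3).val + 16 * (v 4).val

theorem rowNum_add : ∀ u v : Fin 5 → ZMod 2, rowNum (u + v) = Nat.xor (rowNum u) (rowNum v) := by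
  decide +kernel

theorem rowNum_smul : ∀ (a : ZMod 2) (v : Fin 5 → ZMod 2), rowNum (a • v) = a.val * rowNum v := by
  decide +kernel

theorem rowNum_inj : ∀ u v : Fin 5 → ZMod 2, rowNum u = rowNum v → u = v := by decide +kernel

theorem rowNum_lt : ∀ v : Fin 5 → ZMod 2, rowNum v < 32 := by decide +kernel

theorem rowNum_bits : ∀ v : Fin 5 → ZMod 2, (v 0).val = rowNum v / 1 % 2 ∧ (v 1).val = rowNum v / 2 % 2 ∧
    (v 2).val = rowNum v / 4 % 2 ∧ (v 3).val = rowNum v / 8 % 2 ∧ (v 4).val = rowNum v / 16 % 2 := by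
  decide +kernel

/-- the code of a matrix -/
def matCode (m : M5) : ℕ :=
  rowNum (m 0) + 32 * rowNum (m 1) + 1024 * rowNum (m 2) + 32768 * rowNum (m 3) + 1048576 * rowNum (m 4)

theorem rowOf_matCode (m : M5) (i : Fin 5) : rowOf (matCode m) i.val = rowNum (m i) := by
  have h0 := rowNum_lt (m 0); have h1 := rowNum_lt (m 1); have h2 := rowNum_lt (m 2)
  have h3 := rowNum_lt (m 3); have h4 := rowNum_lt (m 4)
  unfold rowOf matCode
  rw [Nat.shiftRight_eq_div_pow]
  rcases (show i = 0 ∨ i = 1 ∨ i = 2 ∨ i = 3 ∨ i = 4 by omega) with rfl | rfl | rfl | rfl | rfl <;>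
    simp <;> omega

theorem matCode_inj {m m' : M5} (h : matCode m = matCode m') : m = m' := by
  funext i
  exact rowNum_inj _ _ (by rw [← rowOf_matCode, ← rowOf_matCode, h])

theorem rowMul_matCode (v : Fin 5 → ZMod 2) (m : M5) :
    rowMul (rowNum v) (matCode m) = rowNum (v ᵥ* m) := by
  obtain ⟨b0, b1, b2, b3, b4⟩ := rowNum_bits v
  have e : v ᵥ* m = v 0 • m 0 + (v 1 • m 1 + (v 2 • m 2 + (v 3 • m 3 + v 4 • m 4))) := by
    funext k
    simp [Matrix.vecMul, dotProduct, Fin.sum_univ_five, add_assoc]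
  rw [e, rowNum_add, rowNum_add, rowNum_add, rowNum_add, rowNum_smul, rowNum_smul, rowNum_smul,
    rowNum_smul, rowNum_smul, b0, b1, b2, b3, b4]
  unfold rowMul
  rw [← rowOf_matCode m 0, ← rowOf_matCode m 1, ← rowOf_matCode m 2, ← rowOf_matCode m 3,
    ← rowOf_matCode m 4]
  rfl

theorem codeMul_matCode (M m : M5) : codeMul (matCode M) (matCode m) = matCode (M * m) := by
  have h : ∀ i : Fin 5, rowMul (rowOf (matCode M) i.val) (matCode m) = rowNum ((M * m) i) := fun i => by
    rw [rowOf_matCode, rowMul_matCode]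
    rfl
  unfold codeMul
  rw [show (0 : ℕ) = (0 : Fin 5).val from rfl, show (1 : ℕ) = (1 : Fin 5).val from rfl,
    h 0, h 1]
  rw [show rowMul (rowOf (matCode M) 2) (matCode m) = _ from h 2,
    show rowMul (rowOf (matCode M) 3) (matCode m) = _ from h 3,
    show rowMul (rowOf (matCode M) 4) (matCode m) = _ from h 4]
  rfl

/-- the matrix of a code -/
def matOf (c : ℕ) : M5 := fun i j => ((rowOf c i.val / 2 ^ j.val % 2 : ℕ) : ZMod 2)

theorem matCode_one : matCode (1 : M5) = oneCode := by decide +kernel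

theorem matCode_matA : matCode (matOf matA) = matA := by decide +kernel

theorem matCode_matB : matCode (matOf matB) = matB := by decide +kernel

theorem det_matA : (matOf matA).det = 1 := by decide +kernel

theorem det_matB : (matOf matB).det = 1 := by decide +kernel

def slA : SL5 := ⟨matOf matA, det_matA⟩
def slB : SL5 := ⟨matOf matB, det_matB⟩

/-- the transvection -/
abbrev tv01 : M5 := Matrix.transvection 0 1 1

theorem comm_matA : matOf matA * tv01 = tv01 * matOf matA := by decide +kernel

theorem comm_matB : matOf matB * tv01 = tv01 * matOf matB := by decide +kernel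

theorem comm_shape {g : M5} (h : g * tv01 = tv01 * g) :
    (∀ i, g i 0 = if i = 0 then g 0 0 else 0) ∧ (∀ j, g 1 j = if j = 1 then g 0 0 else 0) := by
  have e : g * Matrix.single 0 1 1 = Matrix.single 0 1 1 * g := by
    simpa [Matrix.transvection, mul_add, add_mul] using h
  have e1 : ∀ i, (if i = 0 then g 1 1 else 0) = g i 0 := fun i => by
    have := congrFun (congrFun e i) 1
    by_cases hi : i = 0
    · subst hi; simpa using this.symm
    · simpa [hi] using this.symm
  have e2 : ∀ j, g 1 j = if j = 1 then g 0 0 else 0 := fun j => by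
    have := congrFun (congrFun e 0) j
    by_cases hj : j = 1
    · subst hj; simpa using this.symm
    · simpa [hj] using this.symm
  refine ⟨fun i => ?_, e2⟩
  rw [← e1 i, e2 1, if_pos rfl]

/-- the bottom block -/
def low (g : M5) : Matrix (Fin 3) (Fin 3) (ZMod 2) := fun a b => g ⟨a.val + 2, by omega⟩ ⟨b.val + 2, by omega⟩

theorem low_mul {g h : M5} (hg : g * tv01 = tv01 * g) (hh : h * tv01 = tv01 * h) :
    low (g * h) = low g * low h := by
  obtain ⟨c, -⟩ := comm_shape hg
  obtain ⟨-, r⟩ := comm_shape hh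
  funext a b
  simp only [low, Matrix.mul_apply, Fin.sum_univ_five, Fin.sum_univ_three]
  have na : (⟨a.val + 2, by omega⟩ : Fin 5) ≠ 0 := fun h => by injection h; omega
  have nb : (⟨b.val + 2, by omega⟩ : Fin 5) ≠ 1 := fun h => by injection h with h; omega
  rw [c ⟨a.val + 2, by omega⟩, if_neg na, r ⟨b.val + 2, by omega⟩, if_neg nb]
  simp only [zero_mul, mul_zero, zero_add]
  rfl

theorem low_one : low 1 = 1 := by decide +kernel

theorem card_centralizer_le (s : SL5) (hs : (s : M5) = tv01) :
    Nat.card (Subgroup.centralizer ({s} : Set SL5)) ≤ 21504 := by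
  classical
  let C := Subgroup.centralizer ({s} : Set SL5)
  have hc : ∀ g : C, (g.1 : M5) * tv01 = tv01 * (g.1 : M5) := fun g => by
    have := congrArg (fun x : SL5 => (x : M5)) (Subgroup.mem_centralizer_singleton_iff.mp g.2)
    simpa [Matrix.SpecialLinearGroup.coe_mul, hs] using this
  have hu : ∀ g : C, low (g.1 : M5) * low ((g⁻¹ : C).1 : M5) = 1 ∧
      low ((g⁻¹ : C).1 : M5) * low (g.1 : M5) = 1 := fun g => by
    constructor
    · rw [← low_mul (hc g) (hc g⁻¹), ← Matrix.SpecialLinearGroup.coe_mul, ← Subgroup.coe_mul,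
        mul_inv_cancel]
      exact low_one
    · rw [← low_mul (hc g⁻¹) (hc g), ← Matrix.SpecialLinearGroup.coe_mul, ← Subgroup.coe_mul,
        inv_mul_cancel]
      exact low_one
  let f : C → ZMod 2 × (Fin 3 → ZMod 2) × (Fin 3 → ZMod 2) × GL (Fin 3) (ZMod 2) := fun g =>
    ((g.1 : M5) 0 1, fun b => (g.1 : M5) 0 ⟨b.val + 2, by omega⟩,
      fun a => (g.1 : M5) ⟨a.val + 2, by omega⟩ 1, ⟨_, _, (hu g).1, (hu g).2⟩)
  have hf : Function.Injective f := by
    intro g g' e
    simp only [f, Prod.mk.injEq] at e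
    obtain ⟨e1, e2, e3, e4⟩ := e
    have e4 : low (g.1 : M5) = low (g'.1 : M5) := congrArg Units.val e4
    obtain ⟨c, r⟩ := comm_shape (hc g)
    obtain ⟨c', r'⟩ := comm_shape (hc g')
    have d : ∀ k : C, (k.1 : M5) 0 0 = 1 := fun k => by
      obtain ⟨ck, -⟩ := comm_shape (hc k)
      have hne : (k.1 : M5) 0 0 ≠ 0 := fun h0 => by
        have hz : (k.1 : M5).det = 0 := Matrix.det_eq_zero_of_column_eq_zero 0 fun i => by
          rw [ck i]; split_ifs <;> simp [h0]
        rw [k.1.2] at hz
        exact one_ne_zero hz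
      revert hne
      generalize (k.1 : M5) 0 0 = x
      revert x
      decide
    refine Subtype.ext (Subtype.ext ?_)
    funext i j
    show (g.1 : M5) i j = (g'.1 : M5) i j
    have q : ∀ a b : Fin 3, (g.1 : M5) ⟨a.val + 2, by omega⟩ ⟨b.val + 2, by omega⟩ =
        (g'.1 : M5) ⟨a.val + 2, by omega⟩ ⟨b.val + 2, by omega⟩ := fun a b => congrFun (congrFun e4 a) b
    fin_cases i <;> fin_cases j
    all_goals first
      | exact (c _).trans ((congrArg (fun x => if _ = 0 then x else 0) ((d g).trans (d g').symm)).trans (c' _).symm)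
      | exact (r _).trans ((congrArg (fun x => if _ = 1 then x else 0) ((d g).trans (d g').symm)).trans (r' _).symm)
      | exact e1
      | exact congrFun e2 0 | exact congrFun e2 1 | exact congrFun e2 2
      | exact congrFun e3 0 | exact congrFun e3 1 | exact congrFun e3 2
      | exact q 0 0 | exact q 0 1 | exact q 0 2 | exact q 1 0 | exact q 1 1 | exact q 1 2
      | exact q 2 0 | exact q 2 1 | exact q 2 2
  refine (Nat.card_le_card_of_injective f hf).trans (le_of_eq ?_)
  rw [Nat.card_prod, Nat.card_prod, Nat.card_prod, Nat.card_zmod, Nat.card_fun, Nat.card_zmod,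
    Nat.card_fin, Matrix.card_GL_field]
  simp [Fin.prod_univ_three, ZMod.card]

end H91.HeC
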