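import Cfsg.Agent.H91.HeStab
set_option autoImplicit false
noncomputable section
namespace H91.HeP
open H93 H93.Coset

theorem cos_apply (a : He') (c : Fin HeTable.data.n) :
    cosetOf HeTable.data HeOrder.gen H0 (cosAct a c) = a • cosetOf HeTable.data HeOrder.gen H0 c :=
  model.act_apply a c

theorem mem_H0_iff_fix (x : He') :
    x ∈ H0 ↔ cosAct x ⟨0, model.tables.pos⟩ = ⟨0, model.tables.pos⟩ := by
  have h0 : cosetOf HeTable.data HeOrder.gen H0 ⟨0, model.tables.pos⟩ = ((1 : He') : He' ⧸ H0) := by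
    show HeTable.data.node HeOrder.gen _ 0 = _
    rw [Data.node_zero]
  constructor
  · intro hx
    apply model.bijective.1
    rw [cos_apply, h0]
    show ((x * 1 : He') : He' ⧸ H0) = _
    rw [QuotientGroup.eq, mul_one, mul_one]
    exact inv_mem hx
  · intro h
    have := congrArg (cosetOf HeTable.data HeOrder.gen H0) h
    rw [cos_apply, h0] at this
    have h2 : ((x * 1 : He') : He' ⧸ H0) = ((1 : He') : He' ⧸ H0) := this
    rw [QuotientGroup.eq, mul_one, mul_one] at h2
    simpa using inv_mem h2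

theorem cosAct_injective : Function.Injective cosAct := by
  have : IsSimpleGroup He' := HeOrder.isHe.1
  rw [← MonoidHom.ker_eq_bot_iff]
  refine (Subgroup.Normal.eq_bot_or_eq_top (inferInstance : cosAct.ker.Normal)).resolve_right fun h => ?_
  have h1 : ∀ x, x ∈ H0 := fun x => (mem_H0_iff_fix x).2 (by
    rw [(MonoidHom.mem_ker).1 (h ▸ Subgroup.mem_top x : x ∈ cosAct.ker)]; rfl)
  have h2 : H0 = ⊤ := eq_top_iff.2 fun x _ => h1 x
  have := index_H0
  rw [h2, Subgroup.index_top] at this
  exact absurd this (by norm_num)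

theorem cosAct_transitive (a b : Fin HeTable.data.n) : ∃ x, cosAct x a = b := by
  induction hq : cosetOf HeTable.data HeOrder.gen H0 a using QuotientGroup.induction_on with
  | _ g =>
  induction hr : cosetOf HeTable.data HeOrder.gen H0 b using QuotientGroup.induction_on with
  | _ h =>
  refine ⟨h * g⁻¹, model.bijective.1 ?_⟩
  rw [cos_apply, hq, hr]
  show ((h * g⁻¹ * g : He') : He' ⧸ H0) = _
  rw [inv_mul_cancel_right]

/-- the point stabiliser in the image of `cosAct` -/
def stabEquiv :
    H0 ≃* MulAction.stabilizer cosAct.range (⟨0, model.tables.pos⟩ : Fin HeTable.data.n) :=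
  MulEquiv.ofBijective
    ({ toFun := fun x => ⟨cosAct.rangeRestrict x, (mem_H0_iff_fix x).1 x.2⟩
       map_one' := Subtype.ext (map_one cosAct.rangeRestrict)
       map_mul' := fun x y => Subtype.ext (map_mul cosAct.rangeRestrict (x : He') y) } :
      H0 →* MulAction.stabilizer cosAct.range (⟨0, model.tables.pos⟩ : Fin HeTable.data.n))
    ⟨fun x y e => Subtype.ext (cosAct_injective (congrArg Subtype.val (congrArg Subtype.val e))),
      fun ⟨⟨p, ⟨g, hg⟩⟩, hp⟩ => ⟨⟨g, (mem_H0_iff_fix g).2 (by
        have h3 : p ⟨0, model.tables.pos⟩ = ⟨0, model.tables.pos⟩ := hp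
        rw [hg]; exact h3)⟩, Subtype.ext (Subtype.ext hg)⟩⟩

/-- the Held group as a permutation group of degree 2058 -/
def heGrp : Subgroup (Equiv.Perm (Fin 2058)) := cosAct.range

theorem heGrp_isHe : Cfsg.IsHe heGrp := by
  have e : He' ≃* cosAct.range := MonoidHom.ofInjective cosAct_injective
  have h1 : IsSimpleGroup He' := HeOrder.isHe.1
  refine ⟨?_, ?_⟩
  · exact (e.symm.isSimpleGroup : IsSimpleGroup cosAct.range)
  · exact (Nat.card_congr e.toEquiv).symm.trans card_He

theorem heGrp_transitive : MulAction.IsPretransitive heGrp (Fin 2058) :=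
  ⟨fun a b => by
    obtain ⟨x, hx⟩ := cosAct_transitive a b
    exact ⟨⟨cosAct x, x, rfl⟩, hx⟩⟩

theorem heGrp_stab : ∃ N : Subgroup (MulAction.stabilizer heGrp (0 : Fin 2058)),
    N.index = 2 ∧ Nonempty (N ≃* Matrix.symplecticGroup (Fin 2) HeS.K4) := by
  have h : H0 ≃* MulAction.stabilizer heGrp (0 : Fin 2058) := stabEquiv
  obtain ⟨f⟩ := evenPart_equiv
  exact ⟨evenPart.map h.toMonoidHom, (Subgroup.index_map_equiv evenPart h).trans evenPart_index,
    ⟨(h.subgroupMap evenPart).symm.trans f⟩⟩

end H91.HeP
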