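/- An involution of the Held group whose centraliser is that of a transvection in SL(5,2). -/
import Cfsg.Agent.H91.HeReal
import Cfsg.Agent.H91.HeCentCheck
import Cfsg.Agent.H91.HeCentSL

set_option autoImplicit false

noncomputable section

namespace H91.HeC

open H93 H93.Coset
open H91.HeP (He' H0 model cosAct sgen genPerm wordPerm blkHom)

/-- the involution -/
def invo : He' := HeOrder.gen 3

theorem invo_act (c : Fin HeTable.data.n) : (cosAct invo c).val = HeTable.data.T 3 c.val := by
  have h : invo = ev HeOrder.gen [3] := by simp [invo, ev]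
  rw [h]
  exact model.act_ev [3] (by intro g hg; rw [List.mem_singleton.mp hg]; exact (show (3 : ℕ) < 7 by norm_num)) c

theorem sgen_two : sgen 2 = invo := by
  rw [HeP.sgen, show H91.HeT.subWord (2 : Fin 7).val = [3] from sub_two.1]
  simp [invo, ev]

theorem invo_mem : invo ∈ H0 := sgen_two ▸ HeP.sgen_mem 2

theorem invo_order : orderOf invo = 2 := by
  refine orderOf_eq_prime (p := 2) ?_ fun h => ?_
  · rw [sq]
    exact model.inv 3 (show (3 : ℕ) < 7 by norm_num)
  · have key : ∀ c : Fin HeTable.data.n, HeTable.data.T 3 c.val = c.val := fun c => by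
      rw [← invo_act, h, map_one]; rfl
    rcases sub_two.2 with h1 | h1
    · exact h1 (key ⟨1, show 1 < 2058 by norm_num⟩)
    · exact h1 (key ⟨14, show 14 < 2058 by norm_num⟩)

/-- the centraliser -/
abbrev CH : Subgroup He' := Subgroup.centralizer {invo}

theorem mem_CH {g : He'} : g ∈ CH ↔ g * invo = invo * g := Subgroup.mem_centralizer_singleton_iff

/-! ### the order bound -/

theorem card_fix : Nat.card {c : Fin HeTable.data.n // cosAct invo c = c} ≤ 42 := by
  classical
  have h : ∀ c : Fin HeTable.data.n, cosAct invo c = c → c.val ∈ fixN := fun c hc => by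
    have := allRange_spec fix_ok.1 c.val (Nat.zero_le _) (Nat.lt_of_lt_of_le c.isLt (le_of_eq (show HeTable.data.n = 0 + 2058 from rfl)))
    simp only [fixOK, Bool.or_eq_true, Bool.not_eq_true', List.contains_iff_mem] at this
    rcases this with h | h
    · rw [← invo_act, hc] at h
      simp at h
    · exact h
  have hinj : Function.Injective (fun c : {c : Fin HeTable.data.n // cosAct invo c = c} =>
      (⟨c.1.val, List.mem_toFinset.mpr (h c.1 c.2)⟩ : fixN.toFinset)) := fun a b e => by
    simpa [Subtype.ext_iff, Fin.ext_iff] using e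
  refine (Nat.card_le_card_of_injective _ hinj).trans ?_
  rw [Nat.card_eq_fintype_card, Fintype.card_coe]
  exact (List.toFinset_card_le _).trans (le_of_eq fix_ok.2)

theorem index_le : (H0.subgroupOf CH).index ≤ 42 := by
  let z0 : Fin HeTable.data.n := ⟨0, model.tables.pos⟩
  have hfix : ∀ g : CH, cosAct invo (cosAct (g : He') z0) = cosAct (g : He') z0 := fun g => by
    rw [← Equiv.Perm.mul_apply, ← map_mul, ← mem_CH.mp g.2, map_mul, Equiv.Perm.mul_apply,
      (HeP.mem_H0_iff_fix invo).mp invo_mem]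
  let f : CH ⧸ H0.subgroupOf CH → {c : Fin HeTable.data.n // cosAct invo c = c} :=
    Quotient.lift (fun g => ⟨cosAct (g : He') z0, hfix g⟩) (fun a b hab => by
      have h := (HeP.mem_H0_iff_fix _).mp (Subgroup.mem_subgroupOf.mp (QuotientGroup.leftRel_apply.mp hab))
      refine Subtype.ext ?_
      show cosAct (a : He') z0 = cosAct (b : He') z0
      rw [show (b : He') = (a : He') * ((a⁻¹ * b : CH) : He') by simp, map_mul, Equiv.Perm.mul_apply, h])
  have hf : Function.Injective f := by
    intro x y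
    induction x using QuotientGroup.induction_on with
    | _ a =>
    induction y using QuotientGroup.induction_on with
    | _ b =>
    intro e
    have e : cosAct (a : He') z0 = cosAct (b : He') z0 := congrArg Subtype.val e
    rw [QuotientGroup.eq, Subgroup.mem_subgroupOf, HeP.mem_H0_iff_fix]
    show cosAct ((a : He')⁻¹ * (b : He')) z0 = z0
    rw [map_mul, Equiv.Perm.mul_apply, ← e, ← Equiv.Perm.mul_apply, ← map_mul, inv_mul_cancel, map_one]
    rfl
  exact (Nat.card_le_card_of_injective f hf).trans card_fix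

/-- the involution on the blocks -/
def uS : HeS.semiGrp := ⟨genPerm 2, HeP.genPerm_semi 2⟩

theorem blk_invo : blkHom ⟨invo, invo_mem⟩ = genPerm 2 := by
  rw [show (⟨invo, invo_mem⟩ : H0) = ⟨sgen 2, HeP.sgen_mem 2⟩ from Subtype.ext sgen_two.symm]
  exact HeP.blkHom_gen 2

theorem wordPerm_semi (w : List ℕ) : wordPerm w ∈ HeS.semiGrp :=
  HeP.blkHom_range ▸ HeP.wordPerm_mem w

theorem class_ge : 3825 ≤ (Subgroup.centralizer ({uS} : Set HeS.semiGrp)).index := by
  classical
  let W : Fin 45 → HeS.semiGrp := fun j => ⟨_, wordPerm_semi (conjWords.getD j.val [])⟩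
  let T : Fin 85 → HeS.semiGrp := fun i => ⟨_, wordPerm_semi (lineWords.getD i.val [])⟩
  let f : Fin 85 × Fin 45 → HeS.semiGrp ⧸ Subgroup.centralizer ({uS} : Set HeS.semiGrp) := fun p =>
    QuotientGroup.mk (T p.1 * W p.2)
  have hcw : ∀ j : Fin 45, (∀ g ∈ conjWords.getD j.val [], g < 7) ∧ ∀ x : Fin 85,
      ((W j * uS * (W j)⁻¹).1 (wordPerm (conjWords.getD j.val []) x)).val =
        H91.HeT.get 7 (conjTabs.getD j.val 0) (wordPerm (conjWords.getD j.val []) x).val ∧
      ((Nat.beq (H91.HeT.get 7 (conjTabs.getD j.val 0) x.val) x.val) = lineMask.testBit x.val) := fun j => by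
    have h := List.all_eq_true.mp conj_ok.1 j.val (List.mem_range.mpr j.isLt)
    simp only [conjOK, Bool.and_eq_true, List.all_eq_true, List.mem_range, Data.blt_iff, Nat.beq_eq,
      beq_iff_eq] at h
    refine ⟨h.1, fun x => ⟨?_, ?_⟩⟩
    · have e : (W j * uS * (W j)⁻¹).1 (wordPerm (conjWords.getD j.val []) x) =
          wordPerm (conjWords.getD j.val []) (genPerm 2 x) := by simp [W, uS]
      rw [e, HeP.wordPerm_apply _ h.1, HeP.wordPerm_apply _ h.1, HeP.genPerm_apply]
      exact (h.2 x.val x.isLt).1.symm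
    · exact (h.2 x.val x.isLt).2
  have hq : ∀ (j : Fin 45) (x : Fin 85),
      ((W j * uS * (W j)⁻¹).1 x).val = H91.HeT.get 7 (conjTabs.getD j.val 0) x.val := fun j x => by
    have := ((hcw j).2 ((wordPerm (conjWords.getD j.val []))⁻¹ x)).1
    simpa using this
  have hline : ∀ (i : Fin 85), (lineMasks.getD i.val 0) < 2 ^ 85 ∧ ∀ x : Fin 85,
      (lineMasks.getD i.val 0).testBit ((T i).1 x).val = lineMask.testBit x.val := fun i => by
    have h := List.all_eq_true.mp line_ok.1 i.val (List.mem_range.mpr i.isLt)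
    simp only [lineOK, Bool.and_eq_true, List.all_eq_true, List.mem_range, Data.blt_iff, beq_iff_eq] at h
    refine ⟨h.1.2, fun x => ?_⟩
    rw [show ((T i).1 x).val = _ from HeP.wordPerm_apply _ h.1.1 x]
    exact h.2 x.val x.isLt
  have hfix : ∀ (j : Fin 45) (x : Fin 85), (W j * uS * (W j)⁻¹).1 x = x ↔ lineMask.testBit x.val = true :=
    fun j x => by
      rw [← ((hcw j).2 x).2, Nat.beq_eq, Fin.ext_iff, hq]
  have hinj : Function.Injective f := by
    rintro ⟨i, j⟩ ⟨i', j'⟩ e
    have hm : (T i * W j)⁻¹ * (T i' * W j') ∈ Subgroup.centralizer ({uS} : Set HeS.semiGrp) :=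
      QuotientGroup.eq.mp e
    have hm := Subgroup.mem_centralizer_singleton_iff.mp hm
    have hh : T i * (W j * uS * (W j)⁻¹) * (T i)⁻¹ = T i' * (W j' * uS * (W j')⁻¹) * (T i')⁻¹ := by
      calc T i * (W j * uS * (W j)⁻¹) * (T i)⁻¹
          = T i * W j * (uS * ((T i * W j)⁻¹ * (T i' * W j'))) * (T i' * W j')⁻¹ := by group
        _ = T i * W j * ((T i * W j)⁻¹ * (T i' * W j') * uS) * (T i' * W j')⁻¹ := by rw [hm]
        _ = T i' * (W j' * uS * (W j')⁻¹) * (T i')⁻¹ := by group
    have key : ∀ (i : Fin 85) (j : Fin 45) (y : Fin 85),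
        (T i * (W j * uS * (W j)⁻¹) * (T i)⁻¹).1 y = y ↔ (lineMasks.getD i.val 0).testBit y.val = true := by
      intro i j y
      have hx := (hline i).2 ((T i).1⁻¹ y)
      rw [show (T i).1 ((T i).1⁻¹ y) = y from Equiv.apply_symm_apply _ _] at hx
      rw [hx, ← hfix j, Subgroup.coe_mul, Subgroup.coe_mul, Subgroup.coe_inv, Equiv.Perm.mul_apply,
        Equiv.Perm.mul_apply]
      exact Equiv.eq_symm_apply _ |>.symm
    have hmask : lineMasks.getD i.val 0 = lineMasks.getD i'.val 0 := by
      refine Nat.eq_of_testBit_eq fun k => ?_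
      by_cases hk : k < 85
      · have a := key i j ⟨k, hk⟩
        have b := key i' j' ⟨k, hk⟩
        rw [hh] at a
        exact Bool.eq_iff_iff.mpr (a.symm.trans b)
      · rw [Nat.testBit_lt_two_pow ((hline i).1.trans_le (Nat.pow_le_pow_right (by norm_num) (by omega))),
          Nat.testBit_lt_two_pow ((hline i').1.trans_le (Nat.pow_le_pow_right (by norm_num) (by omega)))]
    have hi : i = i' := by
      have hl := line_ok.2.2
      rw [List.getD_eq_getElem _ _ (by omega), List.getD_eq_getElem _ _ (by omega)] at hmask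
      exact Fin.ext ((List.Nodup.getElem_inj_iff line_ok.2.1).mp hmask)
    subst hi
    have he : W j * uS * (W j)⁻¹ = W j' * uS * (W j')⁻¹ := mul_left_cancel (mul_right_cancel hh)
    have hj : j = j' := by
      have hl := conj_ok.2.2
      have hk : (List.range 85).map (fun x => H91.HeT.get 7 (conjTabs.getD j.val 0) x) =
          (List.range 85).map (fun x => H91.HeT.get 7 (conjTabs.getD j'.val 0) x) := by
        refine List.map_congr_left fun x hx => ?_
        have := hq j ⟨x, List.mem_range.mp hx⟩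
        rw [he, hq j'] at this
        exact this.symm
      rw [List.getD_eq_getElem _ _ (by omega), List.getD_eq_getElem _ _ (by omega)] at hk
      refine Fin.ext ((List.Nodup.getElem_inj_iff conj_ok.2.1 (hi := by simpa [hl] using j.isLt)
        (hj := by simpa [hl] using j'.isLt)).mp ?_)
      simpa using hk
    rw [hj]
  have := Nat.card_le_card_of_injective f hinj
  rw [Nat.card_prod, Nat.card_fin, Nat.card_fin] at this
  exact this

theorem card_uS : Nat.card (Subgroup.centralizer ({uS} : Set HeS.semiGrp)) ≤ 512 := by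
  have h := Subgroup.card_mul_index (Subgroup.centralizer ({uS} : Set HeS.semiGrp))
  rw [HeS.semiGrp_card] at h
  have h2 := Nat.mul_le_mul_left (Nat.card (Subgroup.centralizer ({uS} : Set HeS.semiGrp))) class_ge
  rw [h] at h2
  exact (Nat.le_div_iff_mul_le (show 0 < 3825 by norm_num)).mpr h2 |>.trans (by norm_num)

theorem card_CH_le : Nat.card CH ≤ 21504 := by
  have hle : Nat.card (H0.subgroupOf CH) ≤ 512 := by
    let f : H0.subgroupOf CH → Subgroup.centralizer ({uS} : Set HeS.semiGrp) := fun g =>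
      ⟨⟨blkHom ⟨(g.1 : He'), Subgroup.mem_subgroupOf.mp g.2⟩, HeP.blkHom_range ▸ ⟨_, rfl⟩⟩, by
        refine Subgroup.mem_centralizer_singleton_iff.mpr (Subtype.ext ?_)
        show blkHom _ * genPerm 2 = genPerm 2 * blkHom _
        rw [← blk_invo, ← map_mul, ← map_mul]
        exact congrArg blkHom (Subtype.ext (mem_CH.mp g.1.2))⟩
    have hf : Function.Injective f := fun a b e => by
      have h : blkHom ⟨(a.1 : He'), Subgroup.mem_subgroupOf.mp a.2⟩ =
          blkHom ⟨(b.1 : He'), Subgroup.mem_subgroupOf.mp b.2⟩ := congrArg (fun z => z.1.1) e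
      exact Subtype.ext (Subtype.ext (congrArg Subtype.val (HeP.blkHom_injective h) : _))
    exact (Nat.card_le_card_of_injective f hf).trans card_uS
  rw [← Subgroup.card_mul_index (H0.subgroupOf CH)]
  exact (Nat.mul_le_mul hle index_le).trans (by norm_num)

/-! ### the isomorphism -/

/-- base node `k` -/
def baseN (k : ℕ) : ℕ := (baseTup >>> (12 * k)) % 2 ^ 12

/-- the pair is described by record `i` -/
def Rep (i : ℕ) (p : He' × SL5) : Prop :=
  (∀ k < 4, ∀ c : Fin HeTable.data.n, c.val = baseN k → (cosAct p.1 c).val = tupAt (recOf i) k) ∧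
    matCode (p.2 : M5) = mcode (recOf i)

def pA : He' × SL5 := (ev HeOrder.gen wordA, slA)
def pB : He' × SL5 := (ev HeOrder.gen wordB, slB)

/-- the paired group -/
def PP : Subgroup (He' × SL5) := Subgroup.closure {pA, pB}

theorem word_spec {w : List ℕ} {W : ℕ} (h : wordOK w W = true) :
    (∀ c : Fin HeTable.data.n, (cosAct (ev HeOrder.gen w) c).val = H91.HeT.get 12 W c.val) ∧
      ev HeOrder.gen w ∈ CH := by
  simp only [wordOK, Bool.and_eq_true, List.all_eq_true, Data.blt_iff] at h
  have hs : ∀ c : Fin HeTable.data.n, (cosAct (ev HeOrder.gen w) c).val = H91.HeT.get 12 W c.val ∧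
      (cosAct (ev HeOrder.gen w) (cosAct invo c)).val = HeTable.data.T 3 (cosAct (ev HeOrder.gen w) c).val := by
    intro c
    have hc := allRange_spec h.2 c.val (Nat.zero_le _) (Nat.lt_of_lt_of_le c.isLt (le_of_eq (show HeTable.data.n = 0 + 2058 from rfl)))
    simp only [walk_eq, force_eq, Bool.and_eq_true, Nat.beq_eq] at hc
    have e : ∀ d : Fin HeTable.data.n, (cosAct (ev HeOrder.gen w) d).val = pathEnd HeTable.data.T w d.val :=
      fun d => model.act_ev w h.1 d
    rw [e, e, invo_act]
    exact hc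
  refine ⟨fun c => (hs c).1, mem_CH.mpr (HeP.cosAct_injective (Equiv.ext fun c => Fin.ext ?_))⟩
  rw [map_mul, map_mul, Equiv.Perm.mul_apply, Equiv.Perm.mul_apply, (hs c).2, invo_act]

theorem recs_spec (i : ℕ) (h : i < 21504) :
    stepOK tabA matA (recOf i) (nxt (recOf i) 0) = true ∧
    stepOK tabB matB (recOf i) (nxt (recOf i) 1) = true ∧
    (i + 1 = 21504 ∨ mcode (recOf i) < mcode (recOf (i + 1))) ∧
    ((i = idx1 ∧ mcode (recOf i) = oneCode ∧ tup (recOf i) = baseTup) ∨
      (i ≠ idx1 ∧ mcode (recOf i) ≠ oneCode ∧ tup (recOf i) ≠ baseTup ∧ parOf (recOf i) < 21504 ∧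
        rankOf (recOf (parOf (recOf i))) < rankOf (recOf i) ∧
        nxt (recOf (parOf (recOf i))) (pgOf (recOf i)) = i)) := by
  have hr := rec_ok i h
  simp only [recOK, force_eq, Bool.and_eq_true, Bool.or_eq_true, Data.blt_iff, Nat.beq_eq] at hr
  obtain ⟨⟨⟨h1, h2⟩, h3⟩, h4⟩ := hr
  refine ⟨h1, h2, h3, ?_⟩
  by_cases hi : i = idx1
  · rw [show Nat.beq i idx1 = true from Nat.beq_eq.mpr hi] at h4
    simp only [cond_true, Bool.and_eq_true, Nat.beq_eq] at h4
    exact Or.inl ⟨hi, h4⟩
  · rw [show Nat.beq i idx1 = false from Bool.eq_false_iff.mpr fun e => hi (Nat.beq_eq.mp e)] at h4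
    simp only [cond_false, Bool.and_eq_true, Bool.not_eq_true', Data.blt_iff, Nat.beq_eq,
      ← Bool.not_eq_true] at h4
    exact Or.inr ⟨hi, h4.1.1.1, h4.1.1.2, h4.1.2, h4.2⟩

theorem baseN_lt : ∀ k : Fin 4, baseN k.val < 2058 := by decide +kernel

theorem rep_step {W M j : ℕ} {r i : ℕ} {p q : He' × SL5}
    (hr : r = recOf i) (hq1 : ∀ c : Fin HeTable.data.n, (cosAct q.1 c).val = H91.HeT.get 12 W c.val)
    (hq2 : matCode (q.2 : M5) = M) (hs : stepOK W M r j = true) (hp : Rep i p) :
    j < 21504 ∧ Rep j (q * p) := by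
  subst hr
  simp only [stepOK, force_eq, Bool.and_eq_true, Data.blt_iff, Nat.beq_eq] at hs
  obtain ⟨hj, ⟨⟨⟨hm, h0⟩, h1⟩, h2⟩, h3⟩ := hs
  refine ⟨hj, fun k hk c hc => ?_, ?_⟩
  · show (cosAct (q.1 * p.1) c).val = _
    rw [map_mul, Equiv.Perm.mul_apply, hq1, hp.1 k hk c hc]
    rcases (show k = 0 ∨ k = 1 ∨ k = 2 ∨ k = 3 by omega) with rfl | rfl | rfl | rfl
    · exact h0.symm
    · exact h1.symm
    · exact h2.symm
    · exact h3.symm
  · show matCode ((q.2 * p.2 : SL5) : M5) = _
    rw [Matrix.SpecialLinearGroup.coe_mul, ← codeMul_matCode, hq2, hp.2, hm]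

theorem pA_spec : (∀ c : Fin HeTable.data.n, (cosAct pA.1 c).val = H91.HeT.get 12 tabA c.val) ∧
    matCode (pA.2 : M5) = matA := ⟨(word_spec words_ok.1).1, matCode_matA⟩

theorem pB_spec : (∀ c : Fin HeTable.data.n, (cosAct pB.1 c).val = H91.HeT.get 12 tabB c.val) ∧
    matCode (pB.2 : M5) = matB := ⟨(word_spec words_ok.2).1, matCode_matB⟩

theorem rep_one : Rep idx1 1 := by
  rcases recs_spec idx1 (by decide) with ⟨-, -, -, h | h⟩
  · refine ⟨fun k hk c hc => ?_, ?_⟩
    · show (cosAct 1 c).val = _
      rw [map_one, Equiv.Perm.one_apply, hc]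
      have e : tupAt (recOf idx1) k = (tup (recOf idx1) >>> (12 * k)) % 2 ^ 12 := by
        unfold tupAt tup
        rw [Nat.shiftRight_add]
        simp only [Nat.shiftRight_eq_div_pow]
        rcases (show k = 0 ∨ k = 1 ∨ k = 2 ∨ k = 3 by omega) with rfl | rfl | rfl | rfl <;>
          simp <;> omega
      rw [e, h.2.2]
      rfl
    · show matCode ((1 : SL5) : M5) = _
      rw [Matrix.SpecialLinearGroup.coe_one, matCode_one, h.2.1]
  · exact absurd rfl h.1

theorem finite_He : Finite He' := Nat.finite_of_card_ne_zero (by rw [HeP.card_He]; norm_num)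

theorem exists_rep {p : He' × SL5} (hp : p ∈ PP) : ∃ i < 21504, Rep i p := by
  haveI := finite_He
  haveI : Finite (He' × SL5) := Finite.instProd
  rw [PP, ← Subgroup.mem_toSubmonoid, Subgroup.closure_toSubmonoid_of_finite] at hp
  induction hp using Submonoid.closure_induction_left with
  | one => exact ⟨idx1, by decide, rep_one⟩
  | mul_left q hq p _ ih =>
    obtain ⟨i, hi, hr⟩ := ih
    obtain ⟨sA, sB, -, -⟩ := recs_spec i hi
    rcases hq with rfl | rfl
    · exact ⟨_, rep_step rfl pA_spec.1 pA_spec.2 sA hr⟩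
    · exact ⟨_, rep_step rfl pB_spec.1 pB_spec.2 sB hr⟩

theorem rep_all (i : ℕ) (hi : i < 21504) : ∃ p ∈ PP, Rep i p := by
  induction hr : rankOf (recOf i) using Nat.strong_induction_on generalizing i with
  | _ n ih =>
    rcases (recs_spec i hi).2.2.2 with h | ⟨-, -, -, hp, hlt, hn⟩
    · exact ⟨1, one_mem _, h.1 ▸ rep_one⟩
    · obtain ⟨p, hpP, hrep⟩ := ih _ (hr ▸ hlt) _ hp rfl
      obtain ⟨sA, sB, -, -⟩ := recs_spec _ hp
      have hg : pgOf (recOf i) < 2 := Nat.mod_lt _ (by norm_num)
      rcases (show pgOf (recOf i) = 0 ∨ pgOf (recOf i) = 1 by omega) with e | e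
      · rw [e] at hn
        rw [hn] at sA
        exact ⟨pA * p, mul_mem (Subgroup.subset_closure (Or.inl rfl)) hpP,
          (rep_step rfl pA_spec.1 pA_spec.2 sA hrep).2⟩
      · rw [e] at hn
        rw [hn] at sB
        exact ⟨pB * p, mul_mem (Subgroup.subset_closure (Or.inr rfl)) hpP,
          (rep_step rfl pB_spec.1 pB_spec.2 sB hrep).2⟩

theorem mcode_mono : ∀ i j, i < j → j < 21504 → mcode (recOf i) < mcode (recOf j) := by
  intro i j hij hj
  induction hij with
  | refl => rcases (recs_spec i (by omega)).2.2.1 with h | h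
            · omega
            · exact h
  | @step m hm ih =>
    refine (ih (by omega)).trans ?_
    rcases (recs_spec m (by omega)).2.2.1 with h | h
    · omega
    · exact h

theorem card_PP : 21504 ≤ Nat.card PP := by
  haveI := finite_He
  let f : Fin 21504 → PP := fun i => ⟨_, (rep_all i.val i.isLt).choose_spec.1⟩
  have hf : Function.Injective f := fun i j e => by
    have e : (rep_all i.val i.isLt).choose = (rep_all j.val j.isLt).choose := congrArg Subtype.val e
    have hc := (rep_all i.val i.isLt).choose_spec.2.2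
    rw [e, (rep_all j.val j.isLt).choose_spec.2.2] at hc
    rcases lt_trichotomy i.val j.val with h | h | h
    · exact absurd hc.symm (mcode_mono _ _ h j.isLt).ne
    · exact Fin.ext h
    · exact absurd hc (mcode_mono _ _ h i.isLt).ne
  simpa using Nat.card_le_card_of_injective f hf

/-- the elements fixing the base are trivial -/
theorem base_trivial {g : He'} (h : ∀ k < 4, ∀ c : Fin HeTable.data.n, c.val = baseN k → cosAct g c = c) :
    g = 1 := by
  haveI := finite_He
  have key : ∀ (ls : List Level) (pts : List ℕ), chainOK HeTable.data pts ls = true →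
      chainProd ls * Nat.card (fixSub cosAct ((ls.map (·.1)).reverse ++ pts)) ≤
        Nat.card (fixSub cosAct pts) := by
    intro ls
    induction ls with
    | nil => intro pts _; simp [chainProd]
    | cons L ls ih =>
      intro pts hh
      simp only [chainOK, Bool.and_eq_true] at hh
      have h1 := ih _ hh.2
      rw [List.map_cons, List.reverse_cons, List.append_assoc, List.singleton_append]
      refine le_trans ?_ (model.chain_step hh.1)
      rw [show chainProd (L :: ls) = (L.2.2.length + 1) * chainProd ls from rfl, Nat.mul_assoc]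
      exact Nat.mul_le_mul le_rfl h1
  have hp := key HeTableChain.levels [] HeTableChain.ok
  rw [HeTableChain.prod_eq] at hp
  have hG : Nat.card (fixSub cosAct []) ≤ 4030387200 :=
    (Nat.le_of_dvd Nat.card_pos (Subgroup.card_subgroup_dvd_card _)).trans (le_of_eq HeP.card_He)
  have hpos : 0 < Nat.card (fixSub cosAct ((HeTableChain.levels.map (·.1)).reverse ++ [])) := Nat.card_pos
  have h1 : Nat.card (fixSub cosAct ((HeTableChain.levels.map (·.1)).reverse ++ [])) ≤ 1 :=
    Nat.le_of_mul_le_mul_left (c := 4030387200) (by simpa using hp.trans hG) (by norm_num)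
  have hbot := Subgroup.card_eq_one.mp (le_antisymm h1 hpos)
  have hg : g ∈ fixSub cosAct ((HeTableChain.levels.map (·.1)).reverse ++ []) := by
    intro c hc
    have hl : ∀ x ∈ (HeTableChain.levels.map (·.1)).reverse ++ [], ∃ k < 4, x = baseN k := by decide +kernel
    obtain ⟨k, hk, e⟩ := hl _ hc
    exact h k hk c e
  rwa [hbot, Subgroup.mem_bot] at hg

theorem PP_fst {p : He' × SL5} (hp : p ∈ PP) (h : p.1 = 1) : p = 1 := by
  obtain ⟨i, hi, h1, h2⟩ := exists_rep hp
  have ht : ∀ k < 4, tupAt (recOf i) k = baseN k := fun k hk => by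
    have := h1 k hk ⟨_, baseN_lt ⟨k, hk⟩⟩ rfl
    rw [h, map_one] at this
    exact this.symm
  have hi1 : i = idx1 := by
    rcases (recs_spec i hi).2.2.2 with hh | ⟨-, -, hh, -⟩
    · exact hh.1
    · refine absurd ?_ hh
      have t0 := ht 0 (by norm_num); have t1 := ht 1 (by norm_num)
      have t2 := ht 2 (by norm_num); have t3 := ht 3 (by norm_num)
      unfold tupAt baseN baseTup at t0 t1 t2 t3
      unfold tup baseTup
      simp only [Nat.shiftRight_eq_div_pow] at t0 t1 t2 t3 ⊢
      norm_num at t0 t1 t2 t3 ⊢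
      omega
  refine Prod.ext h (Subtype.ext (matCode_inj ?_))
  rw [h2, hi1]
  exact rep_one.2.symm.trans (by rfl)

theorem PP_snd {p : He' × SL5} (hp : p ∈ PP) (h : p.2 = 1) : p = 1 := by
  obtain ⟨i, hi, h1, h2⟩ := exists_rep hp
  have hi1 : i = idx1 := by
    rcases (recs_spec i hi).2.2.2 with hh | ⟨-, hh, -⟩
    · exact hh.1
    · refine absurd ?_ hh
      rw [← h2, h, Matrix.SpecialLinearGroup.coe_one, matCode_one]
  refine Prod.ext (base_trivial fun k hk c hc => Fin.ext ?_) h
  rw [h1 k hk c hc, hi1, ← rep_one.1 k hk c hc]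
  show (cosAct 1 c).val = _
  rw [map_one]; rfl

theorem centralizer_equiv (s : SL5) (hs : (s : M5) = tv01) :
    Nonempty (CH ≃* Subgroup.centralizer ({s} : Set SL5)) := by
  classical
  haveI := finite_He
  have hle : PP ≤ CH.prod (Subgroup.centralizer ({s} : Set SL5)) := by
    rw [PP, Subgroup.closure_le]
    rintro q (rfl | rfl)
    · exact ⟨(word_spec words_ok.1).2, Subgroup.mem_centralizer_singleton_iff.mpr
        (Subtype.ext (by simp only [Matrix.SpecialLinearGroup.coe_mul, hs]; exact comm_matA))⟩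
    · exact ⟨(word_spec words_ok.2).2, Subgroup.mem_centralizer_singleton_iff.mpr
        (Subtype.ext (by simp only [Matrix.SpecialLinearGroup.coe_mul, hs]; exact comm_matB))⟩
  let f1 : PP →* CH := ((MonoidHom.fst He' SL5).comp PP.subtype).codRestrict CH fun p => (hle p.2).1
  let f2 : PP →* Subgroup.centralizer ({s} : Set SL5) :=
    ((MonoidHom.snd He' SL5).comp PP.subtype).codRestrict _ fun p => (hle p.2).2
  have i1 : Function.Injective f1 := (injective_iff_map_eq_one f1).mpr fun p h =>
    Subtype.ext (PP_fst p.2 (congrArg Subtype.val h))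
  have i2 : Function.Injective f2 := (injective_iff_map_eq_one f2).mpr fun p h =>
    Subtype.ext (PP_snd p.2 (congrArg Subtype.val h))
  have b1 : Function.Bijective f1 := i1.bijective_of_nat_card_le (card_CH_le.trans card_PP)
  have b2 : Function.Bijective f2 := i2.bijective_of_nat_card_le ((card_centralizer_le s hs).trans card_PP)
  exact ⟨(MulEquiv.ofBijective f1 b1).symm.trans (MulEquiv.ofBijective f2 b2)⟩

end H91.HeC
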