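/- Kernel checks of the tables for the point stabiliser in the Held group. -/
import Cfsg.Agent.H91.HeDefs

set_option autoImplicit false

namespace H91.HeT

open H93.Coset (allRange walk allRange_spec walk_eq)

theorem qadd_lt : ∀ a b : Fin 4, qadd a.val b.val < 4 ∧ qmul a.val b.val < 4 := by decide +kernel

theorem subWord_count : (H93.HeTable.data.words.drop H93.HeTable.data.nrel).length = 7 := by
  decide +kernel

theorem blk_fast (i : Fin 7) : allRange 0 2058 (fun c => !(blkMask.testBit c) ||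
    walk H93.HeTable.data.T (subWord i.val) c fun e => blkMask.testBit e && Nat.beq (blk e) (genB i.val (blk c))) = true := by
  revert i
  decide +kernel

theorem blk_ok : ∀ i : Fin 7, ∀ c : Fin 2058, blkMask.testBit c.val = true →
    blkMask.testBit (cosImg i.val c.val) = true ∧
      blk (cosImg i.val c.val) = genB i.val (blk c.val) := by
  intro i c hc
  have h := allRange_spec (blk_fast i) c.val (Nat.zero_le _) (by have := c.isLt; omega)
  simp only [walk_eq, hc, Bool.not_true, Bool.false_or, Bool.and_eq_true, Nat.beq_eq] at h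
  exact h

theorem blkLt_fast : allRange 0 2058 (fun c => !(blkMask.testBit c) || Nat.blt (blk c) 85) = true := by
  decide +kernel

theorem blk_lt : ∀ c : Fin 2058, blkMask.testBit c.val = true → blk c.val < 85 := by
  intro c hc
  simpa [hc, H93.Coset.Data.blt_iff] using
    allRange_spec blkLt_fast c.val (Nat.zero_le _) (by have := c.isLt; omega)

theorem blkMask_lt : blkMask < 2 ^ 2058 := by decide +kernel

theorem brep_ok : ∀ b : Fin 85, brep b.val < 2058 ∧ blkMask.testBit (brep b.val) = true ∧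
    blk (brep b.val) = b.val := by decide +kernel

theorem genB_lt : ∀ i : Fin 7, ∀ x : Fin 85, genB i.val x.val < 85 := by decide +kernel

theorem point_ok : ∀ p : Fin 85, codeOf (pv p.val) ≠ 0 ∧ plam (pv p.val) = 1 ∧ pidx (pv p.val) = p.val := by
  decide +kernel

theorem vector_ok : ∀ c : Fin 256, c.val ≠ 0 → pidx (vecOf c.val) < 85 ∧ plam (vecOf c.val) < 4 ∧
    plam (vecOf c.val) ≠ 0 ∧
      qsmul (plam (vecOf c.val)) (pv (pidx (vecOf c.val))) = vecOf c.val := by decide +kernel

theorem smul_idx : ∀ p : Fin 85, ∀ a : Fin 4, a.val ≠ 0 →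
    codeOf (qsmul a.val (pv p.val)) ≠ 0 ∧ pidx (qsmul a.val (pv p.val)) = p.val := by decide +kernel

theorem tvVec_ok : ∀ t : Fin 255, ∀ x : Fin 85, codeOf (tvVec t.val x.val) ≠ 0 ∧
    tvP t.val x.val < 85 := by decide +kernel

theorem frob_ok : ∀ x : Fin 85, frobP x.val < 85 ∧ frobP (frobP x.val) = x.val := by decide +kernel

theorem frob_moves : frobP (pidx (1, 2, 0, 0)) ≠ pidx (1, 2, 0, 0) ∧
    frobP (pidx (1, 0, 0, 0)) = pidx (1, 0, 0, 0) ∧ frobP (pidx (0, 1, 0, 0)) = pidx (0, 1, 0, 0) ∧
    frobP (pidx (0, 0, 1, 0)) = pidx (0, 0, 1, 0) ∧ frobP (pidx (0, 0, 0, 1)) = pidx (0, 0, 0, 1) ∧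
    frobP (pidx (1, 1, 1, 1)) = pidx (1, 1, 1, 1) := by decide +kernel

theorem frob_tv : ∀ t : Fin 255, ∃ u : Fin 255,
    u.val / 3 = frobP (t.val / 3) ∧ ∀ x : Fin 85, frobP (tvP t.val x.val) = tvP u.val (frobP x.val) := by
  decide +kernel

theorem seed_ok : seedTv < 255 ∧ (∀ i ∈ seedWord, i < 7) ∧
    ∀ x : Fin 85, wordB seedWord x.val = tvP seedTv x.val := by decide +kernel

theorem tree_ok : ∀ u : Fin 255, u.val = seedTv ∨
    (get 3 tvGen u.val < 7 ∧ get 8 tvPar u.val < 255 ∧
      get 8 tvRank (get 8 tvPar u.val) < get 8 tvRank u.val ∧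
      ∀ x : Fin 85, genB (get 3 tvGen u.val) (tvP (get 8 tvPar u.val) x.val) =
        tvP u.val (genB (get 3 tvGen u.val) x.val)) := by decide +kernel

theorem dec_ok : ∀ i : Fin 7, (∀ t ∈ decWords.getD i.val [], t < 255) ∧ ∀ x : Fin 85,
    genB i.val x.val =
      tvWord (decWords.getD i.val []) (if decFrob.getD i.val false then frobP x.val else x.val) := by
  decide +kernel

theorem dec_odd : decFrob.getD 5 false = true := by decide +kernel

end H91.HeT
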