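/- Sp(4,4) as a group of permutations of the 85 coded points. -/
import Cfsg.Agent.H48.Count
import Cfsg.Agent.H91.HeCheck

set_option autoImplicit false

noncomputable section

namespace H91.HeS

open H91.HeT (V4 qadd qmul qform qsmul qvadd vecOf codeOf pv pidx plam tvVec tvP frobP)

/-- the field of four elements -/
abbrev K4 : Type := GaloisField 2 2

instance k4Fintype : Fintype K4 := Fintype.ofFinite _

theorem card_K4 : Fintype.card K4 = 4 := by
  rw [← Nat.card_eq_fintype_card, GaloisField.card 2 2 (by norm_num)]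
  norm_num

theorem exists_omega : ∃ w : K4, w ≠ 0 ∧ w ≠ 1 ∧ w * w = w + 1 := by
  classical
  obtain ⟨w, -, hw⟩ := Finset.exists_mem_notMem_of_card_lt_card
    (s := ({0, 1} : Finset K4)) (t := Finset.univ) (by
      rw [Finset.card_univ, card_K4]
      exact lt_of_le_of_lt Finset.card_le_two (by norm_num))
  simp only [Finset.mem_insert, Finset.mem_singleton, not_or] at hw
  refine ⟨w, hw.1, hw.2, ?_⟩
  have h3 : w ^ 3 = 1 := by
    have := FiniteField.pow_card_sub_one_eq_one w hw.1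
    rwa [card_K4] at this
  have h2 : (2 : K4) = 0 := by exact_mod_cast CharP.cast_eq_zero K4 2
  have hne : w - 1 ≠ 0 := sub_ne_zero.mpr hw.2
  apply mul_left_cancel₀ hne
  linear_combination h3 - (w * w - 1) * h2

/-- a root of `x² + x + 1` -/
def omega4 : K4 := exists_omega.choose

theorem omega4_spec : omega4 ≠ 0 ∧ omega4 ≠ 1 ∧ omega4 * omega4 = omega4 + 1 :=
  exists_omega.choose_spec

theorem two_eq : (2 : K4) = 0 := by exact_mod_cast CharP.cast_eq_zero K4 2

/-- value of a code -/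
def qval : ℕ → K4
  | 1 => 1
  | 2 => omega4
  | 3 => omega4 + 1
  | _ => 0

theorem qval_add : ∀ {a b : ℕ}, a < 4 → b < 4 → qval (qadd a b) = qval a + qval b := by
  intro a b ha hb
  have h2 := two_eq
  show qval (a ^^^ b) = _
  interval_cases a <;> interval_cases b <;> simp only [Nat.reduceXor, qval] <;>
    first
      | (simp [qval]; done)
      | linear_combination (-(1 : K4)) * h2
      | linear_combination (-omega4) * h2
      | linear_combination (-(omega4 + 1)) * h2
      | linear_combination (1 : K4) * h2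
      | linear_combination omega4 * h2
      | linear_combination (omega4 + 1) * h2
      | ring

theorem qval_mul : ∀ {a b : ℕ}, a < 4 → b < 4 → qval (qmul a b) = qval a * qval b := by
  intro a b ha hb
  have h2 := two_eq
  have hw := omega4_spec.2.2
  interval_cases a <;> interval_cases b <;> simp only [qmul, qval] <;>
    first
      | (simp; done)
      | linear_combination hw
      | linear_combination -hw
      | linear_combination -hw - omega4 * h2
      | linear_combination -hw - h2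
      | linear_combination -hw - (omega4 + 1) * h2
      | linear_combination -hw + omega4 * h2
      | linear_combination -hw + h2

theorem qval_ne {a : ℕ} (ha : a < 4) (h0 : a ≠ 0) : qval a ≠ 0 := by
  obtain ⟨h1, h2, -⟩ := omega4_spec
  interval_cases a <;> simp only [qval]
  · exact absurd rfl h0
  · exact one_ne_zero
  · exact h1
  · intro h; exact h2 (by linear_combination h - two_eq)

theorem qval_surj : ∀ x : K4, ∃ a < 4, qval a = x := by
  classical
  have hinj : Function.Injective fun a : Fin 4 => qval a.val := by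
    intro a b e
    have h := qval_add a.isLt b.isLt
    dsimp only at e
    rw [e, ← two_mul, two_eq, zero_mul] at h
    by_contra hne
    have hd : ∀ a b : Fin 4, a ≠ b → qadd a.val b.val ≠ 0 := by decide +kernel
    exact qval_ne (HeT.qadd_lt a b).1 (hd a b hne) h
  intro x
  obtain ⟨a, ha⟩ := ((Fintype.bijective_iff_injective_and_card _).mpr
    ⟨hinj, by rw [Fintype.card_fin, card_K4]⟩).2 x
  exact ⟨a, a.isLt, ha⟩

/-- the symplectic space -/
abbrev V : Type := Fin 2 ⊕ Fin 2 → K4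
/-- the symplectic group -/
abbrev Sp4 : Type := Matrix.symplecticGroup (Fin 2) K4

/-- all entries are codes -/
def Okv (v : V4) : Prop := v.1 < 4 ∧ v.2.1 < 4 ∧ v.2.2.1 < 4 ∧ v.2.2.2 < 4

/-- vector of a coded vector -/
def qvec (v : V4) : V := Sum.elim ![qval v.1, qval v.2.1] ![qval v.2.2.1, qval v.2.2.2]

theorem okv_vecOf (c : ℕ) : Okv (vecOf c) :=
  ⟨Nat.mod_lt _ (by norm_num), Nat.mod_lt _ (by norm_num), Nat.mod_lt _ (by norm_num),
    Nat.mod_lt _ (by norm_num)⟩

theorem okv_pv (p : ℕ) : Okv (pv p) := okv_vecOf _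

theorem qmul_lt {a b : ℕ} (ha : a < 4) (hb : b < 4) : qmul a b < 4 := (HeT.qadd_lt ⟨a, ha⟩ ⟨b, hb⟩).2

theorem qadd_lt' {a b : ℕ} (ha : a < 4) (hb : b < 4) : qadd a b < 4 := (HeT.qadd_lt ⟨a, ha⟩ ⟨b, hb⟩).1

theorem okv_smul {a : ℕ} {v : V4} (ha : a < 4) (hv : Okv v) : Okv (qsmul a v) :=
  ⟨qmul_lt ha hv.1, qmul_lt ha hv.2.1, qmul_lt ha hv.2.2.1, qmul_lt ha hv.2.2.2⟩

theorem okv_add {u v : V4} (hu : Okv u) (hv : Okv v) : Okv (qvadd u v) :=
  ⟨qadd_lt' hu.1 hv.1, qadd_lt' hu.2.1 hv.2.1, qadd_lt' hu.2.2.1 hv.2.2.1,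
    qadd_lt' hu.2.2.2 hv.2.2.2⟩

theorem qvec_smul {a : ℕ} {v : V4} (ha : a < 4) (hv : Okv v) :
    qvec (qsmul a v) = qval a • qvec v := by
  funext i
  rcases i with i | i <;> fin_cases i <;>
    simp [qvec, qsmul, qval_mul, ha, hv.1, hv.2.1, hv.2.2.1, hv.2.2.2]

theorem qvec_add {u v : V4} (hu : Okv u) (hv : Okv v) : qvec (qvadd u v) = qvec u + qvec v := by
  funext i
  rcases i with i | i <;> fin_cases i <;>
    simp [qvec, qvadd, qval_add, hu.1, hu.2.1, hu.2.2.1, hu.2.2.2, hv.1, hv.2.1, hv.2.2.1, hv.2.2.2]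

theorem qform_lt {u v : V4} (hu : Okv u) (hv : Okv v) : qform u v < 4 :=
  qadd_lt' (qadd_lt' (qadd_lt' (qmul_lt hu.1 hv.2.2.1) (qmul_lt hu.2.1 hv.2.2.2))
    (qmul_lt hu.2.2.1 hv.1)) (qmul_lt hu.2.2.2 hv.2.1)

theorem qval_form {u v : V4} (hu : Okv u) (hv : Okv v) :
    qval (qform u v) = H48.sf (qvec u) (qvec v) := by
  obtain ⟨a, b, c, d⟩ := hu
  obtain ⟨a', b', c', d'⟩ := hv
  rw [qform, qval_add (qadd_lt' (qadd_lt' (qmul_lt a c') (qmul_lt b d')) (qmul_lt c a'))
    (qmul_lt d b'), qval_add (qadd_lt' (qmul_lt a c') (qmul_lt b d')) (qmul_lt c a'),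
    qval_add (qmul_lt a c') (qmul_lt b d'), qval_mul a c', qval_mul b d', qval_mul c a',
    qval_mul d b', H48.sf_apply, Fin.sum_univ_two]
  simp [qvec]
  linear_combination (qval u.1 * qval v.2.2.1 + qval u.2.1 * qval v.2.2.2) * two_eq

theorem codeOf_lt {v : V4} (h : Okv v) : codeOf v < 256 := by
  obtain ⟨a, b, c, d⟩ := h
  simp only [codeOf]
  omega

theorem vecOf_codeOf {v : V4} (h : Okv v) : vecOf (codeOf v) = v := by
  obtain ⟨a, b, c, d⟩ := h
  obtain ⟨x, y, z, w⟩ := v
  simp only [vecOf, codeOf, Prod.mk.injEq] at *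
  omega

theorem exists_code (x : V) : ∃ v : V4, Okv v ∧ qvec v = x := by
  obtain ⟨a, ha, ha'⟩ := qval_surj (x (Sum.inl 0))
  obtain ⟨b, hb, hb'⟩ := qval_surj (x (Sum.inl 1))
  obtain ⟨c, hc, hc'⟩ := qval_surj (x (Sum.inr 0))
  obtain ⟨d, hd, hd'⟩ := qval_surj (x (Sum.inr 1))
  refine ⟨(a, b, c, d), ⟨ha, hb, hc, hd⟩, ?_⟩
  funext i
  rcases i with i | i <;> fin_cases i <;> simp [qvec, ha', hb', hc', hd']

theorem qvec_inj {u v : V4} (hu : Okv u) (hv : Okv v) (h : qvec u = qvec v) : u = v := by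
  have key : ∀ a b : ℕ, a < 4 → b < 4 → qval a = qval b → a = b := by
    intro a b ha hb e
    by_contra hne
    have hq := qval_add ha hb
    rw [e, ← two_mul, two_eq, zero_mul] at hq
    have hd : ∀ a b : Fin 4, a ≠ b → qadd a.val b.val ≠ 0 := by decide +kernel
    exact qval_ne (qadd_lt' ha hb) (hd ⟨a, ha⟩ ⟨b, hb⟩ (fun z => hne (congrArg Fin.val z))) hq
  obtain ⟨a, b, c, d⟩ := hu
  obtain ⟨a', b', c', d'⟩ := hv
  exact Prod.ext (key _ _ a a' (congrFun h (Sum.inl 0)))
    (Prod.ext (key _ _ b b' (congrFun h (Sum.inl 1)))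
      (Prod.ext (key _ _ c c' (congrFun h (Sum.inr 0))) (key _ _ d d' (congrFun h (Sum.inr 1)))))

/-- vector of point `p` -/
def ptv (p : Fin 85) : V := qvec (pv p.val)

theorem qvec_zero : qvec (0, 0, 0, 0) = 0 := by
  funext i
  rcases i with i | i <;> fin_cases i <;> simp [qvec, qval]

theorem ptv_ne (p : Fin 85) : ptv p ≠ 0 := by
  intro h
  rw [← qvec_zero] at h
  have := qvec_inj (okv_pv _) ⟨by norm_num, by norm_num, by norm_num, by norm_num⟩ h
  exact (HeT.point_ok p).1 (by rw [this]; rfl)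

theorem code_point {v : V4} (hv : Okv v) (h0 : codeOf v ≠ 0) :
    ∃ (h : pidx v < 85) (l : K4), l ≠ 0 ∧ qvec v = l • ptv ⟨pidx v, h⟩ := by
  obtain ⟨h1, h2, h3, h4⟩ := HeT.vector_ok ⟨codeOf v, codeOf_lt hv⟩ h0
  dsimp only at h1 h2 h3 h4
  rw [vecOf_codeOf hv] at h1 h2 h3 h4
  refine ⟨h1, qval (plam v), qval_ne h2 h3, ?_⟩
  conv_lhs => rw [← h4]
  rw [qvec_smul h2 (okv_pv _)]
  rfl

theorem exists_point (x : V) (hx : x ≠ 0) : ∃ (p : Fin 85) (l : K4), l ≠ 0 ∧ x = l • ptv p := by
  obtain ⟨v, hv, rfl⟩ := exists_code x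
  have h0 : codeOf v ≠ 0 := by
    intro h
    apply hx
    have := vecOf_codeOf hv
    rw [h] at this
    rw [← this]
    exact qvec_zero
  obtain ⟨h, l, hl, e⟩ := code_point hv h0
  exact ⟨⟨_, h⟩, l, hl, e⟩

theorem point_unique {p q : Fin 85} {l m : K4} (hl : l ≠ 0)
    (h : l • ptv p = m • ptv q) : p = q := by
  obtain ⟨a, ha, ha'⟩ := qval_surj (m⁻¹ * l)
  have hm : m ≠ 0 := by
    rintro rfl
    rw [zero_smul] at h
    exact smul_ne_zero hl (ptv_ne p) h
  have e : ptv q = qval a • ptv p := by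
    rw [ha', mul_smul, h, inv_smul_smul₀ hm]
  have h0 : a ≠ 0 := by
    rintro rfl
    simp [qval, ptv_ne q] at e
  rw [ptv, ptv, ← qvec_smul ha (okv_pv _)] at e
  have e2 := qvec_inj (okv_pv _) (okv_smul ha (okv_pv _)) e
  refine Fin.ext ?_
  rw [← (HeT.point_ok q).2.2, e2, (HeT.smul_idx p ⟨a, ha⟩ h0).2]

/-- image point -/
def spIdx (g : Sp4) (p : Fin 85) : Fin 85 :=
  (exists_point (g • ptv p) (fun h => ptv_ne p (by
    have := congrArg (fun y : V => g⁻¹ • y) h
    simpa using this))).choose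

theorem spIdx_spec (g : Sp4) (p : Fin 85) : ∃ l : K4, l ≠ 0 ∧ g • ptv p = l • ptv (spIdx g p) :=
  (exists_point (g • ptv p) (fun h => ptv_ne p (by
    have := congrArg (fun y : V => g⁻¹ • y) h
    simpa using this))).choose_spec

theorem spIdx_eq {g : Sp4} {p q : Fin 85} {l : K4} (h : g • ptv p = l • ptv q) :
    spIdx g p = q := by
  obtain ⟨m, hm, e⟩ := spIdx_spec g p
  exact point_unique hm (e.symm.trans h)

theorem sp_smul_smul (g : Sp4) (l : K4) (x : V) : g • (l • x) = l • (g • x) := by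
  rw [H48.spSmulDef, H48.spSmulDef, Matrix.mulVec_smul]

theorem spIdx_one (p : Fin 85) : spIdx 1 p = p := spIdx_eq (l := 1) (by simp)

theorem spIdx_mul (g h : Sp4) (p : Fin 85) : spIdx (g * h) p = spIdx g (spIdx h p) := by
  obtain ⟨l, -, e⟩ := spIdx_spec h p
  obtain ⟨m, -, e'⟩ := spIdx_spec g (spIdx h p)
  exact spIdx_eq (l := l * m) (by rw [mul_smul, e, sp_smul_smul, e', smul_smul])

/-- the symplectic group on the points -/
def spPerm : Sp4 →* Equiv.Perm (Fin 85) where
  toFun g :=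
    { toFun := spIdx g
      invFun := spIdx g⁻¹
      left_inv := fun i => by rw [← spIdx_mul, inv_mul_cancel, spIdx_one]
      right_inv := fun i => by rw [← spIdx_mul, mul_inv_cancel, spIdx_one] }
  map_one' := Equiv.ext spIdx_one
  map_mul' g h := Equiv.ext (spIdx_mul g h)

theorem spPerm_tv (t : Fin 255) (x : Fin 85) :
    (spPerm (H48.tv (ptv ⟨t.val / 3, by omega⟩) (qval (t.val % 3 + 1))) x).val = tvP t.val x.val := by
  obtain ⟨h0, -⟩ := HeT.tvVec_ok t x
  have hc : t.val % 3 + 1 < 4 := by omega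
  have hf := qform_lt (okv_pv x.val) (okv_pv (t.val / 3))
  have hok : Okv (tvVec t.val x.val) :=
    okv_add (okv_pv _) (okv_smul (qmul_lt hc hf) (okv_pv _))
  obtain ⟨h, l, -, e⟩ := code_point hok h0
  refine congrArg Fin.val (spIdx_eq (q := ⟨tvP t.val x.val, h⟩) (l := l) ?_)
  rw [H48.tv_smul, ← show qvec (tvVec t.val x.val) = l • ptv ⟨tvP t.val x.val, h⟩ from e, tvVec,
    qvec_add (okv_pv _) (okv_smul (qmul_lt hc hf) (okv_pv _)), qvec_smul (qmul_lt hc hf) (okv_pv _),
    qval_mul hc hf, qval_form (okv_pv _) (okv_pv _)]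
  rfl

/-- transvection `t` on the points -/
def tvPerm (t : Fin 255) : Equiv.Perm (Fin 85) :=
  spPerm (H48.tv (ptv ⟨t.val / 3, by omega⟩) (qval (t.val % 3 + 1)))

theorem tvPerm_apply (t : Fin 255) (x : Fin 85) : (tvPerm t x).val = tvP t.val x.val := spPerm_tv t x

theorem tv_exists (v : V) (c : K4) : spPerm (H48.tv v c) = 1 ∨ ∃ t, spPerm (H48.tv v c) = tvPerm t := by
  by_cases hv : v = 0
  · exact Or.inl (by rw [hv, H48.tv_zero_left, map_one])
  obtain ⟨p, l, hl, rfl⟩ := exists_point v hv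
  rw [H48.tv_scale]
  obtain ⟨a, ha, e⟩ := qval_surj (l * l * c)
  rw [← e]
  by_cases h0 : a = 0
  · subst h0
    exact Or.inl (by rw [show qval 0 = 0 from rfl, H48.tv_zero, map_one])
  · refine Or.inr ⟨⟨3 * p.val + (a - 1), by omega⟩, ?_⟩
    unfold tvPerm
    congr 3
    · exact Fin.ext (show p.val = (3 * p.val + (a - 1)) / 3 by omega)
    · show a = (3 * p.val + (a - 1)) % 3 + 1
      omega

theorem range_eq : spPerm.range = Subgroup.closure (Set.range tvPerm) := by
  apply le_antisymm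
  · rw [MonoidHom.range_eq_map, ← H48.transGroup_eq_top, H48.transGroup, MonoidHom.map_closure,
      Subgroup.closure_le, H48.transSet_eq]
    rintro _ ⟨_, ⟨v, c, rfl⟩, rfl⟩
    rcases tv_exists v c with h | ⟨t, h⟩
    · rw [h]; exact one_mem _
    · rw [h]; exact Subgroup.subset_closure ⟨t, rfl⟩
  · rw [Subgroup.closure_le]
    rintro _ ⟨t, rfl⟩
    exact ⟨_, rfl⟩

/-- point of a coded vector -/
def pointFin (v : V4) (h : pidx v < 85) : Fin 85 := ⟨pidx v, h⟩

theorem eq_one_of_fix (g : Sp4)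
    (hfix : ∀ v ∈ [(1, 0, 0, 0), (0, 1, 0, 0), (0, 0, 1, 0), (0, 0, 0, 1), (1, 1, 1, 1)],
      ∀ h : pidx v < 85, spPerm g (pointFin v h) = pointFin v h) : g = 1 := by
  have hline : ∀ v ∈ [((1, 0, 0, 0) : V4), (0, 1, 0, 0), (0, 0, 1, 0), (0, 0, 0, 1), (1, 1, 1, 1)],
      ∃ l : K4, g • qvec v = l • qvec v := by
    intro v hv
    have hok : Okv v ∧ codeOf v ≠ 0 := by
      simp only [List.mem_cons, List.not_mem_nil, or_false] at hv
      rcases hv with rfl | rfl | rfl | rfl | rfl <;> simp [Okv, codeOf]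
    obtain ⟨h, l, hl, e⟩ := code_point hok.1 hok.2
    obtain ⟨m, -, e'⟩ := spIdx_spec g ⟨pidx v, h⟩
    rw [show spIdx g ⟨pidx v, h⟩ = ⟨pidx v, h⟩ from hfix v hv h] at e'
    exact ⟨m, by rw [e, sp_smul_smul, e', smul_comm]⟩
  obtain ⟨a, ha⟩ := hline (1, 0, 0, 0) (by simp)
  obtain ⟨b, hb⟩ := hline (0, 1, 0, 0) (by simp)
  obtain ⟨c, hc⟩ := hline (0, 0, 1, 0) (by simp)
  obtain ⟨d, hd⟩ := hline (0, 0, 0, 1) (by simp)
  obtain ⟨e, he⟩ := hline (1, 1, 1, 1) (by simp)
  have hsum : qvec (1, 1, 1, 1) =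
      qvec (1, 0, 0, 0) + qvec (0, 1, 0, 0) + qvec (0, 0, 1, 0) + qvec (0, 0, 0, 1) := by
    funext i
    rcases i with i | i <;> fin_cases i <;> simp [qvec, qval]
  have hadd : ∀ x y : V, g • (x + y) = g • x + g • y := fun x y => by
    rw [H48.spSmulDef, H48.spSmulDef, H48.spSmulDef, Matrix.mulVec_add]
  rw [hsum, hadd, hadd, hadd, ha, hb, hc, hd] at he
  have h0 := congrFun he (Sum.inl 0)
  have h1 := congrFun he (Sum.inl 1)
  have h2 := congrFun he (Sum.inr 0)
  have h3 := congrFun he (Sum.inr 1)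
  simp [qvec, qval] at h0 h1 h2 h3
  obtain rfl : b = a := by first | linear_combination h1 - h0 | linear_combination h0 - h1
  obtain rfl : c = b := by first | linear_combination h2 - h0 | linear_combination h0 - h2
  obtain rfl : d = c := by first | linear_combination h3 - h0 | linear_combination h0 - h3
  have hform := H48.sf_smul_smul g (qvec (1, 0, 0, 0)) (qvec (0, 0, 1, 0))
  simp only [ha, hc, map_smul, LinearMap.smul_apply, H48.sf_apply, Fin.sum_univ_two] at hform
  simp [qvec, qval] at hform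
  have ha1 : d = 1 := by
    have h2 := two_eq
    rw [← sub_eq_zero, ← mul_self_eq_zero]
    first
      | linear_combination -hform + (1 - d) * h2
      | linear_combination hform + (1 - d) * h2
  subst ha1
  refine H48.sp_ext fun x => ?_
  rw [one_smul]
  obtain ⟨v, hv, rfl⟩ := exists_code x
  have hx : qvec v = qval v.1 • qvec (1, 0, 0, 0) + qval v.2.1 • qvec (0, 1, 0, 0) +
      qval v.2.2.1 • qvec (0, 0, 1, 0) + qval v.2.2.2 • qvec (0, 0, 0, 1) := by
    funext i
    rcases i with i | i <;> fin_cases i <;> simp [qvec, qval]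
  rw [hx, hadd, hadd, hadd, sp_smul_smul, sp_smul_smul, sp_smul_smul, sp_smul_smul, ha, hb, hc, hd,
    one_smul, one_smul, one_smul, one_smul]

theorem spPerm_injective : Function.Injective spPerm := by
  rw [injective_iff_map_eq_one]
  intro g hg
  exact eq_one_of_fix g fun v _ h => by rw [hg]; rfl

theorem card_range_sp : Nat.card spPerm.range = 979200 := by
  rw [← Nat.card_congr (MonoidHom.ofInjective spPerm_injective).toEquiv, H48.card_sp, card_K4,
    Fintype.card_fin]
  simp [Finset.prod_range_succ]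

/-- the field automorphism on the points -/
def frobPerm : Equiv.Perm (Fin 85) where
  toFun x := ⟨frobP x.val, (HeT.frob_ok x).1⟩
  invFun x := ⟨frobP x.val, (HeT.frob_ok x).1⟩
  left_inv x := Fin.ext (HeT.frob_ok x).2
  right_inv x := Fin.ext (HeT.frob_ok x).2

theorem frobPerm_sq : frobPerm * frobPerm = 1 := Equiv.ext fun x => Fin.ext (HeT.frob_ok x).2

theorem pidx_moved : pidx ((1, 2, 0, 0) : V4) < 85 := by decide +kernel

attribute [local irreducible] H91.HeT.pidx H91.HeT.frobP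

theorem frobPerm_val (x : Fin 85) : (frobPerm x).val = frobP x.val := rfl

theorem frobPerm_notMem : frobPerm ∉ spPerm.range := by
  rintro ⟨g, hg⟩
  obtain ⟨h6, h1, h2, h3, h4, h5⟩ := HeT.frob_moves
  have hg1 : g = 1 := eq_one_of_fix g fun v hv h => by
    rw [hg]
    refine Fin.ext ?_
    rw [frobPerm_val]
    simp only [List.mem_cons, List.not_mem_nil, or_false] at hv
    rcases hv with rfl | rfl | rfl | rfl | rfl
    exacts [h1, h2, h3, h4, h5]
  rw [hg1, map_one] at hg
  have e := congrArg (fun π : Equiv.Perm (Fin 85) => (π (pointFin _ pidx_moved)).val) hg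
  simp only [frobPerm_val, Equiv.Perm.one_apply] at e
  exact h6 e.symm

theorem frob_conj {g : Equiv.Perm (Fin 85)} (hg : g ∈ spPerm.range) :
    frobPerm * g * frobPerm ∈ spPerm.range := by
  rw [range_eq] at hg ⊢
  induction hg using Subgroup.closure_induction with
  | mem y hy =>
    obtain ⟨t, rfl⟩ := hy
    obtain ⟨u, -, hu⟩ := HeT.frob_tv t
    refine Subgroup.subset_closure ⟨u, ?_⟩
    ext x
    have := hu ⟨frobP x.val, (HeT.frob_ok x).1⟩
    simp only [(HeT.frob_ok x).2] at this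
    rw [tvPerm_apply, Equiv.Perm.mul_apply, Equiv.Perm.mul_apply]
    show _ = frobP (tvPerm t ⟨frobP x.val, _⟩).val
    rw [tvPerm_apply, this]
  | one => rw [mul_one, frobPerm_sq]; exact one_mem _
  | mul a b _ _ iha ihb =>
    have : frobPerm * (a * b) * frobPerm = (frobPerm * a * frobPerm) * (frobPerm * b * frobPerm) := by
      simp only [mul_assoc]
      rw [← mul_assoc frobPerm frobPerm, frobPerm_sq, one_mul]
    rw [this]
    exact mul_mem iha ihb
  | inv a _ ih =>
    have hi : frobPerm⁻¹ = frobPerm := inv_eq_of_mul_eq_one_right frobPerm_sq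
    have : frobPerm * a⁻¹ * frobPerm = (frobPerm * a * frobPerm)⁻¹ := by
      rw [mul_inv_rev, mul_inv_rev, hi, mul_assoc]
    rw [this]
    exact inv_mem ih

/-- the symplectic group extended by the field automorphism -/
def semiGrp : Subgroup (Equiv.Perm (Fin 85)) where
  carrier := {g | g ∈ spPerm.range ∨ g * frobPerm ∈ spPerm.range}
  one_mem' := Or.inl (one_mem _)
  mul_mem' := by
    rintro a b (ha | ha) (hb | hb)
    · exact Or.inl (mul_mem ha hb)
    · exact Or.inr (by rw [mul_assoc]; exact mul_mem ha hb)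
    · refine Or.inr ?_
      have : a * b * frobPerm = (a * frobPerm) * (frobPerm * b * frobPerm) := by
        simp only [mul_assoc]
        rw [← mul_assoc frobPerm frobPerm, frobPerm_sq, one_mul]
      rw [this]
      exact mul_mem ha (frob_conj hb)
    · refine Or.inl ?_
      have hb' := frob_conj hb
      have : a * b = (a * frobPerm) * (frobPerm * (b * frobPerm) * frobPerm) := by
        simp only [mul_assoc, frobPerm_sq, mul_one]
        rw [← mul_assoc frobPerm frobPerm, frobPerm_sq, one_mul]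
      rw [this]
      exact mul_mem ha hb'
  inv_mem' := by
    rintro a (ha | ha)
    · exact Or.inl (inv_mem ha)
    · refine Or.inr ?_
      have hi : frobPerm⁻¹ = frobPerm := inv_eq_of_mul_eq_one_right frobPerm_sq
      have : a⁻¹ * frobPerm = frobPerm * (a * frobPerm)⁻¹ * frobPerm := by
        rw [mul_inv_rev, hi]
        simp only [← mul_assoc]
        rw [frobPerm_sq, one_mul]
      rw [this]
      exact frob_conj (inv_mem ha)

theorem le_semiGrp : spPerm.range ≤ semiGrp := fun _ h => Or.inl h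

theorem semiGrp_index : (spPerm.range.subgroupOf semiGrp).index = 2 := by
  rw [Subgroup.index_eq_two_iff]
  refine ⟨⟨frobPerm, Or.inr (by rw [frobPerm_sq]; exact one_mem _)⟩, fun b => ?_⟩
  rcases b.2 with hb | hb
  · refine Or.inr ⟨Subgroup.mem_subgroupOf.mpr hb, fun h => frobPerm_notMem ?_⟩
    rw [Subgroup.mem_subgroupOf] at h
    simpa using mul_mem (inv_mem hb) h
  · refine Or.inl ⟨Subgroup.mem_subgroupOf.mpr hb, fun h => frobPerm_notMem ?_⟩
    rw [Subgroup.mem_subgroupOf] at h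
    simpa using mul_mem (inv_mem h) hb

theorem semiGrp_card : Nat.card semiGrp = 1958400 := by
  rw [← Subgroup.card_mul_index (spPerm.range.subgroupOf semiGrp), semiGrp_index,
    Nat.card_congr (Subgroup.subgroupOfEquivOfLe le_semiGrp).toEquiv, card_range_sp]

end H91.HeS
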