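/- The point stabiliser in the Held group on 2058 points is Sp(4,4) extended by an automorphism. -/
import Cfsg.Agent.H93.HeOrder
import Cfsg.Agent.H91.HeSymp

set_option autoImplicit false

noncomputable section

namespace H91.HeP

open H93 H93.Coset
open H91.HeT (blk brep genB subWord cosImg blkMask wordB tvWord tvP frobP get decWords decFrob seedWord seedTv tvPar tvGen tvRank)
open H91.HeS (spPerm tvPerm frobPerm semiGrp)

/-- the Held group -/
abbrev He' : Type := Cfsg.Spor.He

/-- the point stabiliser of the coset table -/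
abbrev H0 : Subgroup He' :=
  (Subgroup.closure {r | r ∈ HeTable.sub}).map
    (PresentedGroup.mk (Cfsg.Spor.coxRelators Cfsg.Spor.He.edges ∪ {r | r ∈ Cfsg.Spor.He.extra}))

theorem model : Model HeTable.data HeOrder.gen H0 := HeTable.fit.model

/-- the action on the cosets -/
def cosAct : He' →* Equiv.Perm (Fin HeTable.data.n) := model.act

theorem index_H0 : H0.index = 2058 := model.index_eq

theorem card_He : Nat.card He' = 4030387200 := HeOrder.isHe.2

theorem card_H0 : Nat.card H0 = 1958400 := by
  have h := Subgroup.card_mul_index H0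
  rw [index_H0, card_He] at h
  exact Nat.eq_of_mul_eq_mul_right (m := 2058) (by norm_num) (h.trans (by norm_num))

/-- the node `c` lies in the suborbit of 425 -/
def InO (c : Fin HeTable.data.n) : Prop := blkMask.testBit c.val = true

/-- block number -/
def blkF (c : Fin HeTable.data.n) (h : InO c) : Fin 85 :=
  ⟨blk c.val, HeT.blk_lt ⟨c.val, c.isLt⟩ h⟩

/-- `x` induces `π` on the blocks -/
def Induces (x : He') (π : Equiv.Perm (Fin 85)) : Prop :=
  ∀ c, (InO c ↔ InO (cosAct x c)) ∧
    ∀ (h : InO c) (h' : InO (cosAct x c)), blkF (cosAct x c) h' = π (blkF c h)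

theorem induces_one : Induces 1 1 := fun c => by
  rw [map_one]
  exact ⟨Iff.rfl, fun _ _ => rfl⟩

theorem induces_mul {x y : He'} {π ρ : Equiv.Perm (Fin 85)} (hx : Induces x π) (hy : Induces y ρ) :
    Induces (x * y) (π * ρ) := by
  intro c
  obtain ⟨i1, b1⟩ := hy c
  obtain ⟨i2, b2⟩ := hx (cosAct y c)
  have e : cosAct (x * y) c = cosAct x (cosAct y c) := by rw [map_mul]; rfl
  refine ⟨by rw [e]; exact i1.trans i2, fun h h' => ?_⟩
  have h1 := i1.mp h
  have h2 := i2.mp h1
  have : blkF (cosAct (x * y) c) h' = blkF (cosAct x (cosAct y c)) h2 :=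
    Fin.ext (show blk _ = blk _ by rw [e])
  rw [this, b2 h1 h2, b1 h h1, Equiv.Perm.mul_apply]

theorem induces_inv {x : He'} {π : Equiv.Perm (Fin 85)} (hx : Induces x π) : Induces x⁻¹ π⁻¹ := by
  intro c
  obtain ⟨i, b⟩ := hx (cosAct x⁻¹ c)
  have e : cosAct x (cosAct x⁻¹ c) = c := by
    rw [map_inv, ← Equiv.Perm.mul_apply, mul_inv_cancel, Equiv.Perm.one_apply]
  rw [e] at i
  refine ⟨i.symm, fun h h' => ?_⟩
  have h2 : InO (cosAct x (cosAct x⁻¹ c)) := by rw [e]; exact h
  have hb := b h' h2
  rw [Equiv.Perm.eq_inv_iff_eq, ← hb]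
  exact Fin.ext (show blk _ = blk _ by rw [e])

theorem induces_unique {x : He'} {π ρ : Equiv.Perm (Fin 85)} (h : Induces x π) (h' : Induces x ρ) :
    π = ρ := by
  ext b
  obtain ⟨hb, hm, he⟩ := HeT.brep_ok b
  have hc : InO ⟨brep b.val, hb⟩ := hm
  have hc' := (h _).1.mp hc
  have e := ((h _).2 hc hc').symm.trans ((h' _).2 hc hc')
  rw [show blkF ⟨brep b.val, hb⟩ hc = b from Fin.ext he] at e
  rw [e]

theorem genB_injective (i : Fin 7) :
    Function.Injective fun x : Fin 85 => (⟨genB i.val x.val, HeT.genB_lt i x⟩ : Fin 85) := by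
  classical
  intro x y e
  have h : ∀ i : Fin 7, ∀ x y : Fin 85, genB i.val x.val = genB i.val y.val → x = y := by decide +kernel
  exact h i x y (congrArg Fin.val e)

/-- generator `i` on the blocks -/
def genPerm (i : Fin 7) : Equiv.Perm (Fin 85) :=
  Equiv.ofBijective _ (Finite.injective_iff_bijective.mp (genB_injective i))

theorem genPerm_apply (i : Fin 7) (x : Fin 85) : (genPerm i x).val = genB i.val x.val := rfl

/-- generator `i` of the stabiliser -/
def sgen (i : Fin 7) : He' := ev HeOrder.gen (subWord i.val)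

theorem subWord_mem (i : Fin 7) :
    subWord i.val ∈ HeTable.data.words.drop HeTable.data.nrel := by
  rw [subWord, List.getD_eq_getElem?_getD,
    List.getElem?_eq_getElem (by rw [HeT.subWord_count]; exact i.isLt)]
  exact List.getElem_mem _

theorem sgen_mem (i : Fin 7) : sgen i ∈ H0 := by
  rw [model.subgroup]
  exact Subgroup.subset_closure ⟨_, subWord_mem i, rfl⟩

theorem cosAct_sgen (i : Fin 7) (c : Fin HeTable.data.n) :
    (cosAct (sgen i) c).val = cosImg i.val c.val :=
  model.act_ev _ (HeTable.tables.mem_letters _ (List.mem_of_mem_drop (subWord_mem i))) c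

theorem induces_sgen (i : Fin 7) : Induces (sgen i) (genPerm i) := by
  classical
  have hmaps : ∀ c, InO c → InO (cosAct (sgen i) c) := fun c h => by
    show blkMask.testBit _ = true
    rw [cosAct_sgen]
    exact (HeT.blk_ok i ⟨c.val, c.isLt⟩ h).1
  intro c
  refine ⟨⟨hmaps c, fun h => ?_⟩, fun h h' => Fin.ext ?_⟩
  · let S : Finset (Fin HeTable.data.n) := Finset.univ.filter InO
    have hS : S.image (cosAct (sgen i)) = S := by
      refine Finset.eq_of_subset_of_card_le (fun d hd => ?_) ?_
      · obtain ⟨a, ha, rfl⟩ := Finset.mem_image.mp hd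
        simp only [S, Finset.mem_filter, Finset.mem_univ, true_and] at ha ⊢
        exact hmaps a ha
      · rw [Finset.card_image_of_injective _ (cosAct (sgen i)).injective]
    have hm : cosAct (sgen i) c ∈ S.image (cosAct (sgen i)) := by
      rw [hS]
      simpa [S] using h
    obtain ⟨a, ha, e⟩ := Finset.mem_image.mp hm
    rw [(cosAct (sgen i)).injective e] at ha
    simpa [S] using ha
  · show blk (cosAct (sgen i) c).val = genB i.val (blk c.val)
    rw [cosAct_sgen]
    exact (HeT.blk_ok i ⟨c.val, c.isLt⟩ h).2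

theorem H0_eq : H0 = Subgroup.closure (Set.range sgen) := by
  apply le_antisymm
  · rw [model.subgroup, Subgroup.closure_le]
    rintro _ ⟨w, hw, rfl⟩
    obtain ⟨k, hk, rfl⟩ := List.getElem_of_mem hw
    refine Subgroup.subset_closure ⟨⟨k, HeT.subWord_count ▸ hk⟩, ?_⟩
    show ev _ (subWord k) = _
    rw [subWord, List.getD_eq_getElem?_getD, List.getElem?_eq_getElem hk, Option.getD_some]
  · rw [Subgroup.closure_le]
    rintro _ ⟨i, rfl⟩
    exact sgen_mem i

theorem blk_exists (x : H0) : ∃ π, Induces x π := by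
  have hx : (x : He') ∈ Subgroup.closure (Set.range sgen) := H0_eq ▸ x.2
  suffices ∀ y ∈ Subgroup.closure (Set.range sgen), ∃ π, Induces y π from this x hx
  intro y hy
  induction hy using Subgroup.closure_induction with
  | mem y hy => obtain ⟨i, rfl⟩ := hy; exact ⟨_, induces_sgen i⟩
  | one => exact ⟨1, induces_one⟩
  | mul y z _ _ ihy ihz =>
    obtain ⟨π, hπ⟩ := ihy
    obtain ⟨ρ, hρ⟩ := ihz
    exact ⟨_, induces_mul hπ hρ⟩
  | inv y _ ih => obtain ⟨π, hπ⟩ := ih; exact ⟨_, induces_inv hπ⟩

/-- the stabiliser on the 85 blocks -/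
def blkHom : H0 →* Equiv.Perm (Fin 85) where
  toFun x := (blk_exists x).choose
  map_one' := induces_unique (blk_exists 1).choose_spec induces_one
  map_mul' x y := induces_unique (blk_exists (x * y)).choose_spec
    (induces_mul (blk_exists x).choose_spec (blk_exists y).choose_spec)

theorem blkHom_gen (i : Fin 7) : blkHom ⟨sgen i, sgen_mem i⟩ = genPerm i :=
  induces_unique (blk_exists ⟨sgen i, sgen_mem i⟩).choose_spec (induces_sgen i)

theorem gen_mem_range (i : Fin 7) : genPerm i ∈ blkHom.range := ⟨_, blkHom_gen i⟩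

/-- a product of transvections -/
def tvProd (w : List ℕ) : Equiv.Perm (Fin 85) :=
  (w.map fun t => tvPerm (Fin.ofNat 255 t)).prod

theorem tvProd_apply : ∀ w : List ℕ, (∀ t ∈ w, t < 255) → ∀ x : Fin 85,
    (tvProd w x).val = tvWord w x.val
  | [], _, x => rfl
  | t :: w, h, x => by
    have ih := tvProd_apply w (fun a ha => h a (List.mem_cons_of_mem _ ha)) x
    simp only [tvProd, List.map_cons, List.prod_cons, Equiv.Perm.mul_apply] at ih ⊢
    rw [HeS.tvPerm_apply, ih]
    simp [tvWord, Nat.mod_eq_of_lt (h t List.mem_cons_self)]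

theorem tvProd_mem (w : List ℕ) : tvProd w ∈ spPerm.range := by
  refine list_prod_mem fun g hg => ?_
  obtain ⟨t, -, rfl⟩ := List.mem_map.mp hg
  rw [HeS.range_eq]
  exact Subgroup.subset_closure ⟨_, rfl⟩

theorem genPerm_eq (i : Fin 7) : genPerm i =
    tvProd (decWords.getD i.val []) * (if decFrob.getD i.val false then frobPerm else 1) := by
  ext x
  rw [Equiv.Perm.mul_apply, tvProd_apply _ (HeT.dec_ok i).1, genPerm_apply, (HeT.dec_ok i).2 x]
  congr 1
  split_ifs <;> rfl

theorem genPerm_semi (i : Fin 7) : genPerm i ∈ semiGrp := by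
  rw [genPerm_eq]
  refine mul_mem (HeS.le_semiGrp (tvProd_mem _)) ?_
  split_ifs
  · exact Or.inr (by rw [HeS.frobPerm_sq]; exact one_mem _)
  · exact one_mem _

/-- product along a word, the first letter acting first -/
def wordPerm : List ℕ → Equiv.Perm (Fin 85)
  | [] => 1
  | i :: w => wordPerm w * genPerm (Fin.ofNat 7 i)

theorem wordPerm_mem : ∀ w : List ℕ, wordPerm w ∈ blkHom.range
  | [] => one_mem _
  | i :: w => mul_mem (wordPerm_mem w) (gen_mem_range _)

theorem wordPerm_apply : ∀ w : List ℕ, (∀ i ∈ w, i < 7) → ∀ x : Fin 85,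
    (wordPerm w x).val = wordB w x.val
  | [], _, x => rfl
  | i :: w, h, x => by
    rw [wordPerm, Equiv.Perm.mul_apply, wordPerm_apply w (fun a ha => h a (List.mem_cons_of_mem _ ha)),
      genPerm_apply]
    simp [wordB, Nat.mod_eq_of_lt (h i List.mem_cons_self)]

theorem tv_mem (u : Fin 255) : tvPerm u ∈ blkHom.range := by
  induction hr : get 8 tvRank u.val using Nat.strong_induction_on generalizing u with
  | _ r ih =>
    rcases HeT.tree_ok u with h | ⟨hg, hp, hlt, he⟩
    · obtain ⟨-, hw, hx⟩ := HeT.seed_ok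
      have e : wordPerm seedWord = tvPerm u := by
        ext x
        rw [wordPerm_apply _ hw, hx x, HeS.tvPerm_apply, h]
      rw [← e]
      exact wordPerm_mem _
    · have hm := ih _ (hr ▸ hlt) ⟨_, hp⟩ rfl
      have e : genPerm ⟨_, hg⟩ * tvPerm ⟨_, hp⟩ = tvPerm u * genPerm ⟨_, hg⟩ := by
        ext x
        rw [Equiv.Perm.mul_apply, Equiv.Perm.mul_apply, genPerm_apply, HeS.tvPerm_apply,
          HeS.tvPerm_apply, genPerm_apply]
        exact he x
      rw [eq_mul_inv_of_mul_eq e.symm]
      exact mul_mem (mul_mem (gen_mem_range _) hm) (inv_mem (gen_mem_range _))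

theorem blkHom_range : blkHom.range = semiGrp := by
  apply le_antisymm
  · rintro _ ⟨x, rfl⟩
    have hx : (x : He') ∈ Subgroup.closure (Set.range sgen) := H0_eq ▸ x.2
    suffices ∀ y ∈ Subgroup.closure (Set.range sgen), ∀ π, Induces y π → π ∈ semiGrp from
      this x hx _ (blk_exists x).choose_spec
    intro y hy
    induction hy using Subgroup.closure_induction with
    | mem z hz =>
      obtain ⟨i, rfl⟩ := hz
      intro π hπ
      rw [induces_unique hπ (induces_sgen i)]
      exact genPerm_semi i
    | one => intro π hπ; rw [induces_unique hπ induces_one]; exact one_mem _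
    | mul a b ha hb iha ihb =>
      intro π hπ
      obtain ⟨p, hp⟩ := blk_exists ⟨a, H0_eq.symm ▸ ha⟩
      obtain ⟨q, hq⟩ := blk_exists ⟨b, H0_eq.symm ▸ hb⟩
      rw [induces_unique hπ (induces_mul hp hq)]
      exact mul_mem (iha p hp) (ihb q hq)
    | inv a ha iha =>
      intro π hπ
      obtain ⟨p, hp⟩ := blk_exists ⟨a, H0_eq.symm ▸ ha⟩
      rw [induces_unique hπ (induces_inv hp)]
      exact inv_mem (iha p hp)
  · have hle : spPerm.range ≤ blkHom.range := by
      rw [HeS.range_eq, Subgroup.closure_le]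
      rintro _ ⟨u, rfl⟩
      exact tv_mem u
    have hf : frobPerm ∈ blkHom.range := by
      have e := genPerm_eq 5
      rw [show (5 : Fin 7).val = 5 from rfl, HeT.dec_odd, if_pos rfl] at e
      rw [eq_inv_mul_of_mul_eq e.symm]
      exact mul_mem (inv_mem (hle (tvProd_mem _))) (gen_mem_range _)
    intro g hg
    rcases hg with hg | hg
    · exact hle hg
    · have := mul_mem (hle hg) hf
      rwa [mul_assoc, HeS.frobPerm_sq, mul_one] at this

theorem blkHom_injective : Function.Injective blkHom := by
  have : Finite H0 := Nat.finite_of_card_ne_zero (by rw [card_H0]; norm_num)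
  have hb : Function.Bijective blkHom.rangeRestrict := by
    rw [Nat.bijective_iff_surjective_and_card]
    exact ⟨blkHom.rangeRestrict_surjective, by rw [card_H0, blkHom_range, HeS.semiGrp_card]⟩
  intro x y e
  exact hb.1 (Subtype.ext e)

/-- the subgroup of index two -/
def evenPart : Subgroup H0 := spPerm.range.comap blkHom

theorem evenPart_index : evenPart.index = 2 := by
  rw [evenPart, Subgroup.index_comap, blkHom_range]
  exact HeS.semiGrp_index

theorem evenPart_equiv : Nonempty (evenPart ≃* Matrix.symplecticGroup (Fin 2) HeS.K4) := by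
  have hmap : evenPart.map blkHom = spPerm.range := by
    rw [evenPart, Subgroup.map_comap_eq, blkHom_range, inf_eq_right.mpr HeS.le_semiGrp]
  exact ⟨(Subgroup.equivMapOfInjective evenPart blkHom blkHom_injective).trans
    ((MulEquiv.subgroupCongr hmap).trans (MonoidHom.ofInjective HeS.spPerm_injective).symm)⟩

end H91.HeP
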