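/- Orbit certificates for M24 by words in given generators, on families of point sets. -/
import Cfsg.Agent.H94.Objects
import Cfsg.Agent.H94.Tbl

set_option autoImplicit false

namespace H91.Orb

open Cfsg
open scoped Pointwise

/-- A packed permutation with its byte tables. -/
abbrev GTab : Type := ℕ × ℕ × ℕ × ℕ

def smallB (l : List ℕ) : Bool := l.all fun m => Nat.blt m 16777216

theorem smallB_iff {l : List ℕ} : smallB l = true ↔ ∀ m ∈ l, m < 2 ^ 24 := by
  simp [smallB, Nat.blt_eq]

/-- All listed permutations are in `M24`, come with their tables and fix the family `fix`. -/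
noncomputable def gensB (gens : List GTab) (fix : List ℕ) : Bool :=
  smallB fix && gens.all fun G => H94.memB G.1 && H94.tabOK G.1 G.2 &&
    H94.sameB (fix.map (H94.tmask G.2)) fix

/-- Apply a word, base 8, least digit first; the digit `0` ends it. -/
def walk (gens : List GTab) : ℕ → ℕ → List ℕ → List ℕ
  | 0, _, l => l
  | n + 1, w, l =>
    if Nat.beq (w % 8) 0 then l else
      match gens.drop (w % 8 - 1) with
      | [] => l
      | G :: _ => walk gens n (w / 8) (l.map (H94.tmask G.2))

/-- The families `A`, `B` are related by an element of `M24` fixing the family `fix`. -/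
def Moves (fix : Finset (Finset GolayPt)) (A B : Finset (Finset GolayPt)) : Prop :=
  ∃ g : Equiv.Perm GolayPt, g ∈ M24 ∧ g • fix = fix ∧ g • A = B

theorem Moves.trans {F A B C : Finset (Finset GolayPt)} (h : Moves F A B) (h' : Moves F B C) :
    Moves F A C := by
  obtain ⟨g, hg, hf, rfl⟩ := h
  obtain ⟨k, hk, kf, rfl⟩ := h'
  exact ⟨k * g, M24.mul_mem hk hg, by rw [mul_smul, hf, kf], mul_smul _ _ _⟩

theorem Moves.symm {F A B : Finset (Finset GolayPt)} (h : Moves F A B) : Moves F B A := by
  obtain ⟨g, hg, hf, rfl⟩ := h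
  exact ⟨g⁻¹, M24.inv_mem hg, by conv_lhs => rw [← hf, inv_smul_smul], inv_smul_smul g A⟩

theorem Moves.refl (F A : Finset (Finset GolayPt)) : Moves F A A :=
  ⟨1, M24.one_mem, one_smul _ _, one_smul _ _⟩

theorem famList_tmap {P : ℕ} {T : ℕ × ℕ × ℕ} {g : Equiv.Perm GolayPt} (hR : H94.Reps P g)
    (hT : H94.tabOK P T = true) {l : List ℕ} (hl : ∀ m ∈ l, m < 2 ^ 24) :
    H94.famList (l.map (H94.tmask T)) = g • H94.famList l ∧
      ∀ m ∈ l.map (H94.tmask T), m < 2 ^ 24 := by
  have e : l.map (H94.tmask T) = l.map (H94.pmask P) :=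
    List.map_congr_left fun m hm => H94.tmask_eq hT (hl m hm)
  refine ⟨by rw [e, H94.famList_smul hR], fun m hm => ?_⟩
  rw [e, List.mem_map] at hm
  obtain ⟨a, -, rfl⟩ := hm
  exact hR.pmask_lt a

theorem gensB_spec {gens : List GTab} {fix : List ℕ} (h : gensB gens fix = true) {G : GTab}
    (hG : G ∈ gens) : ∃ g, g ∈ M24 ∧ H94.Reps G.1 g ∧ g • H94.famList fix = H94.famList fix := by
  simp only [gensB, Bool.and_eq_true, List.all_eq_true] at h
  obtain ⟨hs, h⟩ := h
  obtain ⟨⟨h1, h2⟩, h3⟩ := h G hG
  obtain ⟨g, hg, hR⟩ := H94.exists_perm_of_memB h1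
  obtain ⟨e, hlt⟩ := famList_tmap hR h2 (smallB_iff.mp hs)
  exact ⟨g, hg, hR, by rw [← e, H94.famList_eq_iff hlt (smallB_iff.mp hs)]; exact h3⟩

theorem walk_spec {gens : List GTab} {fix : List ℕ} (h : gensB gens fix = true) :
    ∀ (n w : ℕ) (l : List ℕ), (∀ m ∈ l, m < 2 ^ 24) →
      Moves (H94.famList fix) (H94.famList l) (H94.famList (walk gens n w l)) ∧
        ∀ m ∈ walk gens n w l, m < 2 ^ 24 := by
  intro n
  induction n with
  | zero => intro w l hl; exact ⟨Moves.refl _ _, hl⟩
  | succ n ih =>
    intro w l hl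
    rw [walk]
    split
    · exact ⟨Moves.refl _ _, hl⟩
    · cases hd : gens.drop (w % 8 - 1) with
      | nil => exact ⟨Moves.refl _ _, hl⟩
      | cons G rest =>
        have hG : G ∈ gens := List.mem_of_mem_drop (hd ▸ List.mem_cons_self)
        obtain ⟨g, hg, hR, hfix⟩ := gensB_spec h hG
        have hT : H94.tabOK G.1 G.2 = true := by
          simp only [gensB, Bool.and_eq_true, List.all_eq_true] at h
          exact (h.2 G hG).1.2
        obtain ⟨e, hlt⟩ := famList_tmap hR hT hl
        obtain ⟨hm, hlt'⟩ := ih (w / 8) _ hlt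
        exact ⟨Moves.trans ⟨g, hg, hfix, e.symm⟩ hm, hlt'⟩

/-- The seed of a class. -/
def seedOf (seeds : List (ℕ × List ℕ)) (v : ℕ) : List ℕ :=
  match seeds.find? fun c => Nat.beq c.1 v with
  | some c => c.2
  | none => []

/-- Every object walks to the seed of its class. -/
def wordsB (gens : List GTab) (seeds : List (ℕ × List ℕ)) (val : List ℕ → ℕ) :
    List (List ℕ) → List ℕ → Bool
  | [], _ => true
  | _ :: _, [] => false
  | x :: xs, w :: ws =>
    smallB x && smallB (seedOf seeds (val x)) &&
      H94.sameB (walk gens 32 w x) (seedOf seeds (val x)) && wordsB gens seeds val xs ws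

theorem wordsB_spec {gens : List GTab} {fix : List ℕ} (h : gensB gens fix = true)
    {seeds : List (ℕ × List ℕ)} {val : List ℕ → ℕ} :
    ∀ {objs : List (List ℕ)} {W : List ℕ}, wordsB gens seeds val objs W = true → ∀ x ∈ objs,
      Moves (H94.famList fix) (H94.famList x) (H94.famList (seedOf seeds (val x))) := by
  intro objs
  induction objs with
  | nil => intro W _ x hx; simp at hx
  | cons a as ih =>
    intro W hW x hx
    cases W with
    | nil => simp [wordsB] at hW
    | cons w ws =>
      simp only [wordsB, Bool.and_eq_true] at hW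
      obtain ⟨⟨⟨h1, h2⟩, h3⟩, h4⟩ := hW
      rcases List.mem_cons.mp hx with rfl | hx
      · obtain ⟨hm, hlt⟩ := walk_spec h 32 w x (smallB_iff.mp h1)
        rwa [(H94.famList_eq_iff hlt (smallB_iff.mp h2)).mpr h3] at hm
      · exact ih h4 x hx

/-- Objects of equal invariant are conjugate. -/
theorem conj_of_words {gens : List GTab} {fix : List ℕ} (h : gensB gens fix = true)
    {seeds : List (ℕ × List ℕ)} {val : List ℕ → ℕ} {objs : List (List ℕ)} {W : List ℕ}
    (hW : wordsB gens seeds val objs W = true) {x y : List ℕ} (hx : x ∈ objs) (hy : y ∈ objs)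
    (hv : val x = val y) : Moves (H94.famList fix) (H94.famList x) (H94.famList y) :=
  (wordsB_spec h hW x hx).trans (hv ▸ (wordsB_spec h hW y hy).symm)

theorem famList_single (m : ℕ) : H94.famList [m] = {H90.setOf' m} := by simp [H94.famList]

theorem famList_nil : H94.famList [] = ∅ := by simp [H94.famList]

theorem moves_single {a b c : Finset GolayPt} :
    Moves {a} {b} {c} ↔ ∃ g : Equiv.Perm GolayPt, g ∈ M24 ∧ g • a = a ∧ g • b = c := by
  simp only [Moves, Finset.smul_finset_singleton, Finset.singleton_inj]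

theorem moves_empty {b c : Finset GolayPt} :
    Moves ∅ {b} {c} ↔ ∃ g : Equiv.Perm GolayPt, g ∈ M24 ∧ g • b = c := by
  simp only [Moves, Finset.smul_finset_empty, Finset.smul_finset_singleton, Finset.singleton_inj,
    true_and]

end H91.Orb
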