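/- Actions of sextet and trio stabilisers on their members and on refining sextets. -/
import Cfsg.Agent.H91.FamFacts
import Cfsg.Agent.H90.Group

set_option autoImplicit false
set_option maxRecDepth 4000

noncomputable section

namespace H91.ST

open Cfsg
open scoped Pointwise

abbrev GolFam : Type := Finset (Finset GolayPt)

/-- The action of a family's stabiliser on its members. -/
def memAct (S : GolFam) : ↥(MulAction.stabilizer M24 S) →* Equiv.Perm ↥S where
  toFun g :=
    { toFun := fun x => ⟨(g.1 : Equiv.Perm GolayPt) • (x : Finset GolayPt), by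
        have h : (g.1 : Equiv.Perm GolayPt) • S = S := g.2
        exact h.subset (Finset.smul_mem_smul_finset x.2)⟩
      invFun := fun x => ⟨(g.1 : Equiv.Perm GolayPt)⁻¹ • (x : Finset GolayPt), by
        have h : (g.1 : Equiv.Perm GolayPt)⁻¹ • S = S := (g⁻¹).2
        exact h.subset (Finset.smul_mem_smul_finset x.2)⟩
      left_inv := fun x => Subtype.ext (inv_smul_smul _ _)
      right_inv := fun x => Subtype.ext (smul_inv_smul _ _) }
  map_one' := Equiv.ext fun x => Subtype.ext (one_smul _ _)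
  map_mul' g h := Equiv.ext fun x => Subtype.ext (mul_smul _ _ _)

@[simp] theorem memAct_apply (S : GolFam) (g : ↥(MulAction.stabilizer M24 S)) (x : ↥S) :
    ((memAct S g x : ↥S) : Finset GolayPt) = (g.1 : Equiv.Perm GolayPt) • (x : Finset GolayPt) := rfl

theorem memAct_ker (S : GolFam) (g : ↥(MulAction.stabilizer M24 S)) :
    g ∈ (memAct S).ker ↔ ∀ t ∈ S, (g.1 : Equiv.Perm GolayPt) • t = t := by
  rw [MonoidHom.mem_ker]
  exact ⟨fun h t ht => congrArg (fun e : Equiv.Perm ↥S => ((e ⟨t, ht⟩ : ↥S) : Finset GolayPt)) h,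
    fun h => Equiv.ext fun x => Subtype.ext (h x x.2)⟩

theorem card_stabilizer {Obj : Set GolFam} {objs : List (List ℕ)} {base : List ℕ}
    (D : Orb.SubData Obj objs base) {S : GolFam} (hS : S ∈ Obj) :
    Nat.card ↥(MulAction.stabilizer M24 S) * objs.length = 244823040 := by
  have horb : MulAction.orbit M24 S = Obj := by
    ext X
    refine ⟨fun h => ?_, fun h => ?_⟩
    · obtain ⟨g, rfl⟩ := h
      exact D.stable _ g.2 S hS
    · obtain ⟨g, hg, e⟩ := D.trans S hS X h
      exact ⟨⟨g, hg⟩, e⟩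
  have hn : Obj.ncard = objs.length := by
    have := D.listing.ncard (fun _ => true) (fun _ => True) (fun _ _ => by simp)
    simpa using this
  rw [← hn, ← horb, ← MulAction.index_stabilizer, Subgroup.card_mul_index, H90.natCard_M24]

theorem sext_length : Orb.sextObjs.length = 1771 := by decide +kernel

theorem trio_length : Orb.trioObjs.length = 3795 := by decide +kernel

theorem surjective_of_card {G H : Type*} [Group G] [Group H] [Finite G] [Finite H] (φ : G →* H)
    (h : Nat.card φ.ker * Nat.card H = Nat.card G) : Function.Surjective φ := by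
  rw [← MonoidHom.range_eq_top]
  refine Subgroup.eq_top_of_card_eq _ ?_
  have h1 := φ.ker.card_mul_index
  rw [Subgroup.index_ker] at h1
  exact Nat.eq_of_mul_eq_mul_left Nat.card_pos (h1.trans h.symm)

/-- Conjugation carrying the stabiliser of `S` to that of `k • S`. -/
def conjStab {S B : GolFam} {k : Equiv.Perm GolayPt} (hk : k ∈ M24) (e : k • S = B) :
    ↥(MulAction.stabilizer M24 S) →* ↥(MulAction.stabilizer M24 B) where
  toFun g := ⟨⟨k * (g.1 : Equiv.Perm GolayPt) * k⁻¹,
      M24.mul_mem (M24.mul_mem hk g.1.2) (M24.inv_mem hk)⟩, by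
    have hg : (g.1 : Equiv.Perm GolayPt) • S = S := g.2
    show (k * (g.1 : Equiv.Perm GolayPt) * k⁻¹) • B = B
    rw [← e, mul_smul, mul_smul, inv_smul_smul, hg]⟩
  map_one' := Subtype.ext (Subtype.ext (by simp))
  map_mul' g h := Subtype.ext (Subtype.ext (by simp [mul_assoc]))

theorem conj_smul_fix {k g : Equiv.Perm GolayPt} {X : Type*} [MulAction (Equiv.Perm GolayPt) X]
    (x : X) : (k * g * k⁻¹) • (k • x) = k • x ↔ g • x = x := by
  rw [mul_smul, mul_smul, inv_smul_smul]
  exact (MulAction.injective k).eq_iff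

theorem fix_single (L : List ℕ) (g : Equiv.Perm GolayPt) :
    (∀ F ∈ L.map (fun m => [m]), g • H94.famList F = H94.famList F) ↔
      ∀ t ∈ H94.famList L, g • t = t := by
  constructor
  · intro h t ht
    obtain ⟨m, hm, rfl⟩ := H94.mem_famList.mp ht
    have := h [m] (List.mem_map.mpr ⟨m, hm, rfl⟩)
    simpa [H94.famList, Finset.smul_finset_singleton] using this
  · intro h F hF
    obtain ⟨m, hm, rfl⟩ := List.mem_map.mp hF
    have := h _ (H94.mem_famList.mpr ⟨m, hm, rfl⟩)
    simpa [H94.famList, Finset.smul_finset_singleton] using this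

/-! ### Sextets -/

theorem mem_sextFix {S : GolFam} {k : Equiv.Perm GolayPt} (hk : k ∈ M24)
    (e : k • S = H94.famList Orb.sextBase) (g : Equiv.Perm GolayPt) :
    k * g * k⁻¹ ∈ Fam.Fix Fam.sextFams ↔ g ∈ M24 ∧ ∀ t ∈ S, g • t = t := by
  show (_ ∧ _) ↔ _
  rw [show Fam.sextFams = Orb.sextBase.map (fun m => [m]) from rfl, fix_single, ← e,
    M24.mul_mem_cancel_right (M24.inv_mem hk), M24.mul_mem_cancel_left hk]
  refine and_congr_right fun _ => ⟨fun h t ht => ?_, fun h t ht => ?_⟩
  · exact (conj_smul_fix t).mp (h _ (Finset.smul_mem_smul_finset ht))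
  · obtain ⟨u, hu, rfl⟩ := Finset.mem_smul_finset.mp ht
    exact (conj_smul_fix u).mpr (h u hu)

theorem card_sext_kernel {S : GolFam} (hS : S ∈ sextets) :
    Nat.card (memAct S).ker = 192 := by
  obtain ⟨k, hk, e⟩ := Orb.sextData.trans S hS _ (Orb.sextData.listing.sound _ Orb.sextData.base_mem)
  have hfix : ∀ f, f ∈ Fam.Fix Fam.sextFams →
      k⁻¹ * f * k ∈ M24 ∧ ∀ t ∈ S, (k⁻¹ * f * k) • t = t := fun f hf =>
    (mem_sextFix hk e _).mp (by rw [show k * (k⁻¹ * f * k) * k⁻¹ = f by group]; exact hf)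
  have hst : ∀ {g : Equiv.Perm GolayPt}, (∀ t ∈ S, g • t = t) → g • S = S := by
    intro g h
    refine (Finset.eq_of_subset_of_card_le (fun t ht => ?_)
      (by rw [Finset.card_smul_finset])).symm
    rw [← h t ht]
    exact Finset.smul_mem_smul_finset ht
  rw [← Fam.natCard_sextFix]
  exact Nat.card_congr
    { toFun := fun g => ⟨k * (g.1.1 : Equiv.Perm GolayPt) * k⁻¹,
        (mem_sextFix hk e _).mpr ⟨g.1.1.2, (memAct_ker S g.1).mp g.2⟩⟩
      invFun := fun f => ⟨⟨⟨_, (hfix f f.2).1⟩, hst (hfix f f.2).2⟩,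
        (memAct_ker S _).mpr (hfix f f.2).2⟩
      left_inv := fun g => Subtype.ext (Subtype.ext (Subtype.ext (by simp [mul_assoc])))
      right_inv := fun f => Subtype.ext (by simp [mul_assoc]) }

theorem sext_surjective {S : GolFam} (hS : S ∈ sextets) : Function.Surjective (memAct S) := by
  refine surjective_of_card _ ?_
  have h := card_stabilizer Orb.sextData hS
  rw [sext_length] at h
  rw [card_sext_kernel hS, Nat.card_perm, Nat.card_eq_finsetCard, hS.1,
    show Nat.factorial 6 = 720 from rfl]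
  omega

/-! ### Trios -/

def labL (v : Fin 3 → ZMod 2) : List ℕ :=
  if v = 0 then Orb.trioBase
  else Fam.trioRef.getD ((v 0).val + 2 * (v 1).val + 4 * (v 2).val - 1) []

def lab (v : Fin 3 → ZMod 2) : GolFam := H94.famList (labL v)

theorem labL_ok : ∀ v : Fin 3 → ZMod 2, v ≠ 0 →
    (Orb.sextObjs.contains (labL v) &&
      (labL v).all (fun m => Orb.trioBase.any fun o => Nat.beq (Nat.land m o) m)) = true := by
  decide +kernel

theorem labL_inj : ∀ v w : Fin 3 → ZMod 2, v ≠ 0 → w ≠ 0 → labL v = labL w → v = w := by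
  decide +kernel

theorem refine_complete : (Orb.sextObjs.all fun x =>
    !(x.all fun m => Orb.trioBase.any fun o => Nat.beq (Nat.land m o) m) ||
      decide (∃ v : Fin 3 → ZMod 2, v ≠ 0 ∧ labL v = x)) = true := by decide +kernel

def triB (A B C : List ℕ) : Bool :=
  A.any fun a => B.any fun b => C.any fun c => Nat.beq (Nat.xor a b) c

theorem labL_linear : ∀ u v w : Fin 3 → ZMod 2, u ≠ 0 → v ≠ 0 → w ≠ 0 → u ≠ v →
    triB (labL u) (labL v) (labL w) = decide (w = u + v) := by decide +kernel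

def Refines (B A : GolFam) : Prop := ∀ t ∈ A, ∃ o ∈ B, t ⊆ o

def Tri (A B C : GolFam) : Prop := ∃ a ∈ A, ∃ b ∈ B, ∃ c ∈ C, symmDiff a b = c

theorem symmDiff_smul (g : Equiv.Perm GolayPt) (a b : Finset GolayPt) :
    symmDiff (g • a) (g • b) = g • symmDiff a b := Finset.smul_finset_symmDiff.symm

theorem Tri.smul {A B C : GolFam} (g : Equiv.Perm GolayPt) (h : Tri A B C) :
    Tri (g • A) (g • B) (g • C) := by
  obtain ⟨a, ha, b, hb, c, hc, e⟩ := h
  exact ⟨g • a, Finset.smul_mem_smul_finset ha, g • b, Finset.smul_mem_smul_finset hb,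
    g • c, Finset.smul_mem_smul_finset hc, by rw [symmDiff_smul, e]⟩

theorem labL_small (v : Fin 3 → ZMod 2) : ∀ m ∈ labL v, m < 2 ^ 24 := by
  have h : ∀ v : Fin 3 → ZMod 2, (labL v).all (fun m => Nat.blt m 16777216) = true := by
    decide +kernel
  exact fun m hm => Nat.le_of_ble_eq_true (List.all_eq_true.mp (h v) m hm)

theorem tri_lab (u v w : Fin 3 → ZMod 2) :
    Tri (lab u) (lab v) (lab w) ↔ triB (labL u) (labL v) (labL w) = true := by
  simp only [triB, List.any_eq_true, Tri, lab]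
  constructor
  · rintro ⟨a, ha, b, hb, c, hc, e⟩
    obtain ⟨i, hi, rfl⟩ := H94.mem_famList.mp ha
    obtain ⟨j, hj, rfl⟩ := H94.mem_famList.mp hb
    obtain ⟨l, hl, rfl⟩ := H94.mem_famList.mp hc
    rw [← H90.setOf'_xor] at e
    refine ⟨i, hi, j, hj, l, hl, ?_⟩
    rw [show Nat.xor i j = i ^^^ j from rfl, H90.setOf'_injOn
      (Nat.xor_lt_two_pow (labL_small u i hi) (labL_small v j hj)) (labL_small w l hl) e]
    exact Nat.beq_refl l
  · rintro ⟨i, hi, j, hj, l, hl, e⟩
    refine ⟨_, H94.mem_famList.mpr ⟨i, hi, rfl⟩, _, H94.mem_famList.mpr ⟨j, hj, rfl⟩,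
      _, H94.mem_famList.mpr ⟨l, hl, rfl⟩, ?_⟩
    rw [← H90.setOf'_xor]
    exact congrArg _ (Nat.eq_of_beq_eq_true e)

theorem refines_famList {x : List ℕ} (hx : ∀ m ∈ x, m < 2 ^ 24) :
    Refines (H94.famList Orb.trioBase) (H94.famList x) ↔
      x.all (fun m => Orb.trioBase.any fun o => Nat.beq (Nat.land m o) m) = true := by
  simp only [Refines, List.all_eq_true, List.any_eq_true]
  constructor
  · intro h m hm
    obtain ⟨t, ht, hsub⟩ := h _ (H94.mem_famList.mpr ⟨m, hm, rfl⟩)
    obtain ⟨o, ho, rfl⟩ := H94.mem_famList.mp ht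
    refine ⟨o, ho, ?_⟩
    rw [show Nat.land m o = m &&& o from rfl, H90.setOf'_injOn
      (Nat.lt_of_le_of_lt Nat.and_le_left (hx m hm)) (hx m hm)
      (by rw [H90.setOf'_and]; exact Finset.inter_eq_left.mpr hsub)]
    exact Nat.beq_refl m
  · intro h t ht
    obtain ⟨m, hm, rfl⟩ := H94.mem_famList.mp ht
    obtain ⟨o, ho, e⟩ := h m hm
    exact ⟨_, H94.mem_famList.mpr ⟨o, ho, rfl⟩, H94.subset_of_and_eq (Nat.eq_of_beq_eq_true e)⟩

theorem lab_zero : lab 0 = H94.famList Orb.trioBase := rfl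

theorem lab_sextet {v : Fin 3 → ZMod 2} (hv : v ≠ 0) :
    lab v ∈ sextets ∧ Refines (H94.famList Orb.trioBase) (lab v) := by
  have h := labL_ok v hv
  rw [Bool.and_eq_true] at h
  exact ⟨Orb.sext_listing.sound _ (by simpa using h.1), (refines_famList (labL_small v)).mpr h.2⟩

theorem lab_injective : Function.Injective lab := by
  intro v w e
  have hcard : ∀ u : Fin 3 → ZMod 2, u ≠ 0 → lab u ≠ lab 0 := by
    intro u hu h
    have h6 := (lab_sextet hu).1.1
    have h3 := (Orb.trioData.listing.sound _ Orb.trioData.base_mem).1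
    rw [h, lab_zero] at h6
    omega
  by_cases hv : v = 0
  · subst hv
    by_contra hw
    exact hcard w (Ne.symm hw) e.symm
  by_cases hw : w = 0
  · subst hw
    exact absurd e (hcard v hv)
  refine labL_inj v w hv hw (Orb.sext_listing.inj _ ?_ _ ?_ e)
  · have h := labL_ok v hv
    rw [Bool.and_eq_true] at h
    simpa using h.1
  · have h := labL_ok w hw
    rw [Bool.and_eq_true] at h
    simpa using h.1

abbrev trioB : GolFam := H94.famList Orb.trioBase

theorem lab_invariant (g : ↥(MulAction.stabilizer M24 trioB)) (v : Fin 3 → ZMod 2) :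
    ∃ w, lab w = (g.1 : Equiv.Perm GolayPt) • lab v := by
  have hg : (g.1 : Equiv.Perm GolayPt) • trioB = trioB := g.2
  by_cases hv : v = 0
  · exact ⟨0, by rw [hv, lab_zero, hg]⟩
  obtain ⟨hs, hr⟩ := lab_sextet hv
  obtain ⟨x, hx, ex⟩ := Orb.sext_listing.complete _ (Orb.smul_sextet g.1.2 hs)
  have hr' : Refines trioB ((g.1 : Equiv.Perm GolayPt) • lab v) := by
    intro t ht
    obtain ⟨u, hu, rfl⟩ := Finset.mem_smul_finset.mp ht
    obtain ⟨o, ho, huo⟩ := hr u hu
    exact ⟨_, hg.subset (Finset.smul_mem_smul_finset ho), Finset.smul_finset_subset_smul_finset huo⟩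
  rw [← ex, refines_famList (Orb.sext_listing.small x hx).2] at hr'
  have h := List.all_eq_true.mp refine_complete x hx
  rw [hr', Bool.not_true, Bool.false_or, decide_eq_true_eq] at h
  obtain ⟨w, -, ew⟩ := h
  exact ⟨w, by rw [lab, ew, ex]⟩

def vecMap (g : ↥(MulAction.stabilizer M24 trioB)) (v : Fin 3 → ZMod 2) : Fin 3 → ZMod 2 :=
  (lab_invariant g v).choose

theorem lab_vecMap (g : ↥(MulAction.stabilizer M24 trioB)) (v : Fin 3 → ZMod 2) :
    lab (vecMap g v) = (g.1 : Equiv.Perm GolayPt) • lab v := (lab_invariant g v).choose_spec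

theorem add_self (v : Fin 3 → ZMod 2) : v + v = 0 := by
  funext i
  exact CharTwo.add_self_eq_zero (v i)

theorem vecMap_zero (g : ↥(MulAction.stabilizer M24 trioB)) : vecMap g 0 = 0 := by
  have hg : (g.1 : Equiv.Perm GolayPt) • trioB = trioB := g.2
  exact lab_injective (by rw [lab_vecMap, lab_zero, hg])

theorem vecMap_add (g : ↥(MulAction.stabilizer M24 trioB)) (u v : Fin 3 → ZMod 2) :
    vecMap g (u + v) = vecMap g u + vecMap g v := by
  have inj : Function.Injective (vecMap g) := fun a b e => lab_injective (MulAction.injective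
    (g.1 : Equiv.Perm GolayPt) ((lab_vecMap g a).symm.trans ((congrArg lab e).trans (lab_vecMap g b))))
  by_cases hu : u = 0
  · rw [hu, vecMap_zero, zero_add, zero_add]
  by_cases hv : v = 0
  · rw [hv, vecMap_zero, add_zero, add_zero]
  by_cases huv : u = v
  · rw [huv, add_self, add_self, vecMap_zero]
  have hne : ∀ a, a ≠ 0 → vecMap g a ≠ 0 := fun a ha e => ha (inj (e.trans (vecMap_zero g).symm))
  have hw : u + v ≠ 0 := fun e => huv (by
    rw [← add_zero u, ← add_self v, ← add_assoc, e, zero_add])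
  have h := ((tri_lab u v (u + v)).mpr ((labL_linear u v (u + v) hu hv hw huv).trans (decide_eq_true rfl))).smul
    (g.1 : Equiv.Perm GolayPt)
  rw [← lab_vecMap, ← lab_vecMap, ← lab_vecMap, tri_lab] at h
  exact of_decide_eq_true ((labL_linear _ _ _ (hne u hu) (hne v hv) (hne _ hw) (fun e => huv (inj e))).symm.trans h)

def linEnd : ↥(MulAction.stabilizer M24 trioB) →* Module.End (ZMod 2) (Fin 3 → ZMod 2) where
  toFun g := AddMonoidHom.toZModLinearMap 2
    { toFun := vecMap g, map_zero' := vecMap_zero g, map_add' := vecMap_add g }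
  map_one' := LinearMap.ext fun v => lab_injective (by
    show lab (vecMap 1 v) = lab v
    rw [lab_vecMap]; exact one_smul _ _)
  map_mul' g h := LinearMap.ext fun v => lab_injective (by
    show lab (vecMap (g * h) v) = lab (vecMap g (vecMap h v))
    rw [lab_vecMap, lab_vecMap, lab_vecMap]; exact mul_smul _ _ _)

def linGL : ↥(MulAction.stabilizer M24 trioB) →* GL (Fin 3) (ZMod 2) :=
  (Matrix.GeneralLinearGroup.toLin (R := ZMod 2) (n := Fin 3)).symm.toMonoidHom.comp
    linEnd.toHomUnits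

theorem linGL_eq_one (g : ↥(MulAction.stabilizer M24 trioB)) :
    linGL g = 1 ↔ ∀ v, (g.1 : Equiv.Perm GolayPt) • lab v = lab v := by
  show (Matrix.GeneralLinearGroup.toLin (R := ZMod 2) (n := Fin 3)).symm (linEnd.toHomUnits g) = 1 ↔ _
  rw [MulEquiv.map_eq_one_iff, ← Units.val_eq_one, MonoidHom.coe_toHomUnits]
  constructor
  · intro h v
    rw [← lab_vecMap]
    exact congrArg lab (LinearMap.congr_fun h v)
  · intro h
    exact LinearMap.ext fun v => lab_injective ((lab_vecMap g v).trans (h v))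

/-- The action of a trio stabiliser. -/
def trioHom {T : GolFam} {k : Equiv.Perm GolayPt} (hk : k ∈ M24) (e : k • T = trioB) :
    ↥(MulAction.stabilizer M24 T) →* GL (Fin 3) (ZMod 2) × Equiv.Perm ↥T :=
  (linGL.comp (conjStab hk e)).prod (memAct T)

theorem mem_trio_ker {T : GolFam} {k : Equiv.Perm GolayPt} (hk : k ∈ M24) (e : k • T = trioB)
    (g : ↥(MulAction.stabilizer M24 T)) :
    g ∈ (trioHom hk e).ker ↔ k * (g.1 : Equiv.Perm GolayPt) * k⁻¹ ∈ Fam.Fix Fam.trioFams := by
  have h1 : (trioHom hk e) g = (linGL (conjStab hk e g), memAct T g) := rfl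
  rw [MonoidHom.mem_ker, h1, Prod.mk_eq_one, linGL_eq_one, ← MonoidHom.mem_ker, memAct_ker]
  show _ ↔ _ ∧ _
  rw [and_iff_right (M24.mul_mem (M24.mul_mem hk g.1.2) (M24.inv_mem hk)),
    show Fam.trioFams = Orb.trioBase.map (fun m => [m]) ++ Fam.trioRef from rfl]
  simp only [List.forall_mem_append, fix_single]
  show (∀ v, (k * (g.1 : Equiv.Perm GolayPt) * k⁻¹) • lab v = lab v) ∧ _ ↔ _
  have href : ∀ F ∈ Fam.trioRef, ∃ v, labL v = F := by decide +kernel
  have hlab : ∀ v : Fin 3 → ZMod 2, v = 0 ∨ labL v ∈ Fam.trioRef := by decide +kernel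
  constructor
  · rintro ⟨hl, hT⟩
    refine ⟨fun t ht => ?_, fun F hF => ?_⟩
    · change t ∈ trioB at ht
      rw [← e] at ht
      obtain ⟨u, hu, rfl⟩ := Finset.mem_smul_finset.mp ht
      exact (conj_smul_fix u).mpr (hT u hu)
    · obtain ⟨v, rfl⟩ := href F hF
      exact hl v
  · rintro ⟨hB, hR⟩
    refine ⟨fun v => ?_, fun t ht => (conj_smul_fix t).mp
      (hB _ (e.subset (Finset.smul_mem_smul_finset ht)))⟩
    rcases hlab v with rfl | h
    · exact (conjStab hk e g).2
    · exact hR _ h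

theorem trio_ker_square {T : GolFam} {k : Equiv.Perm GolayPt} (hk : k ∈ M24) (e : k • T = trioB)
    {g : ↥(MulAction.stabilizer M24 T)} (hg : g ∈ (trioHom hk e).ker) : g * g = 1 := by
  refine Subtype.ext (Subtype.ext ?_)
  have h := Fam.trio_square ((mem_trio_ker hk e g).mp hg)
  rw [show (k * (g.1 : Equiv.Perm GolayPt) * k⁻¹) * (k * (g.1 : Equiv.Perm GolayPt) * k⁻¹) =
    k * ((g.1 : Equiv.Perm GolayPt) * g.1) * k⁻¹ by group] at h
  exact conj_eq_one_iff.mp h

theorem card_trio_ker {T : GolFam} {k : Equiv.Perm GolayPt} (hk : k ∈ M24) (e : k • T = trioB) :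
    Nat.card (trioHom hk e).ker = 64 := by
  have hfix : ∀ f, f ∈ Fam.Fix Fam.trioFams →
      k⁻¹ * f * k ∈ M24 ∧ (k⁻¹ * f * k) • T = T := by
    intro f hf
    refine ⟨M24.mul_mem (M24.mul_mem (M24.inv_mem hk) hf.1) hk, ?_⟩
    have hT : f • trioB = trioB := by
      refine Finset.eq_of_subset_of_card_le (fun t ht => ?_) (by rw [Finset.card_smul_finset])
      obtain ⟨u, hu, rfl⟩ := Finset.mem_smul_finset.mp ht
      have := (fix_single Orb.trioBase f).mp (fun F hF => hf.2 F (List.mem_append_left _ hF)) u hu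
      rw [this]
      exact hu
    rw [mul_smul, mul_smul, e, hT, ← e, inv_smul_smul]
  rw [← Fam.natCard_trioFix]
  exact Nat.card_congr
    { toFun := fun g => ⟨k * (g.1.1 : Equiv.Perm GolayPt) * k⁻¹, (mem_trio_ker hk e g.1).mp g.2⟩
      invFun := fun f => ⟨⟨⟨_, (hfix f f.2).1⟩, (hfix f f.2).2⟩, (mem_trio_ker hk e _).mpr (by
        show k * (k⁻¹ * (f : Equiv.Perm GolayPt) * k) * k⁻¹ ∈ _
        rw [show k * (k⁻¹ * (f : Equiv.Perm GolayPt) * k) * k⁻¹ = f by group]
        exact f.2)⟩
      left_inv := fun g => Subtype.ext (Subtype.ext (Subtype.ext (by simp [mul_assoc])))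
      right_inv := fun f => Subtype.ext (by simp [mul_assoc]) }

theorem trio_surjective {T : GolFam} (hT : T ∈ trios) {k : Equiv.Perm GolayPt} (hk : k ∈ M24)
    (e : k • T = trioB) : Function.Surjective (trioHom hk e) := by
  refine surjective_of_card _ ?_
  have h := card_stabilizer Orb.trioData hT
  rw [trio_length] at h
  rw [card_trio_ker hk e, Nat.card_prod, Matrix.card_GL_field, Nat.card_perm,
    Nat.card_eq_finsetCard, hT.1, show Nat.factorial 3 = 6 from rfl]
  have h168 : (∏ i : Fin 3, (Fintype.card (ZMod 2) ^ 3 - Fintype.card (ZMod 2) ^ (i : ℕ))) = 168 := by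
    rw [Fin.prod_univ_three, ZMod.card]
    rfl
  rw [h168]
  omega

end H91.ST
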